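import Mathlib

/-!
# Pálfy's condition: vectors fixed by exactly one Sylow subgroup

A prime `q` is *uniquely stabilised* when every nonzero vector is fixed by exactly one Sylow
`q`-subgroup. This file has the counting consequences and some arithmetic.
-/

set_option autoImplicit false

namespace CfsgLib.Palfy69

variable {K : Type*} [Group K] {V : Type*} [AddCommGroup V] [DistribMulAction K V]

/-- Every nonzero vector is fixed by exactly one Sylow `q`-subgroup. -/
def UniqSylow (q : ℕ) (K : Type*) [Group K] (V : Type*) [AddCommGroup V] [DistribMulAction K V] :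
    Prop :=
  ∀ v : V, v ≠ 0 → ∃! Q : Sylow q K, (Q : Subgroup K) ≤ MulAction.stabilizer K v

/-- The vectors fixed by a subgroup. -/
def fix (V : Type*) [AddCommGroup V] [DistribMulAction K V] (H : Subgroup K) : AddSubgroup V where
  carrier := {v | ∀ h ∈ H, h • v = v}
  zero_mem' := fun h _ => smul_zero h
  add_mem' := fun {a b} ha hb h hh => by rw [smul_add, ha h hh, hb h hh]
  neg_mem' := fun {a} ha h hh => by rw [smul_neg, ha h hh]

theorem mem_fix {H : Subgroup K} {v : V} : v ∈ fix V H ↔ ∀ h ∈ H, h • v = v := Iff.rfl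

theorem le_stabilizer_iff {H : Subgroup K} {v : V} :
    H ≤ MulAction.stabilizer K v ↔ v ∈ fix V H := Iff.rfl

theorem fix_anti {H L : Subgroup K} (h : H ≤ L) : fix V L ≤ fix V H := fun _ hv x hx => hv x (h hx)

theorem smul_mem_fix_iff {H : Subgroup K} {v : V} (g : K) :
    g • v ∈ fix V H ↔ ∀ h ∈ H, (g⁻¹ * h * g) • v = v := by
  simp only [mem_fix, mul_smul, inv_smul_eq_iff]

theorem smul_mem_fix_of_normal (H : Subgroup K) [hH : H.Normal] (g : K) {v : V}
    (hv : v ∈ fix V H) : g • v ∈ fix V H :=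
  (smul_mem_fix_iff g).2 fun h hh => hv _ (by simpa using hH.conj_mem h hh g⁻¹)

open Pointwise in
theorem sylow_smul_le_stabilizer {q : ℕ} (Q : Sylow q K) (g : K) (v : V) :
    ((g • Q : Sylow q K) : Subgroup K) ≤ MulAction.stabilizer K v ↔
      (Q : Subgroup K) ≤ MulAction.stabilizer K (g⁻¹ • v) := by
  constructor <;> intro h x hx
  · have hm : g * x * g⁻¹ ∈ ((g • Q : Sylow q K) : Subgroup K) := by
      rw [Sylow.coe_subgroup_smul]
      exact ⟨x, hx, by simp⟩
    have hv : (g * x * g⁻¹) • v = v := h hm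
    show x • g⁻¹ • v = g⁻¹ • v
    rw [eq_inv_smul_iff, ← mul_smul, ← mul_smul]
    exact hv
  · rw [Sylow.coe_subgroup_smul] at hx
    obtain ⟨y, hy, rfl⟩ := hx
    have hv : y • g⁻¹ • v = g⁻¹ • v := h hy
    show (MulAut.conj g y) • v = v
    rw [MulAut.conj_apply, mul_smul, mul_smul, hv, smul_inv_smul]

/-- Counting in an invariant set of nonzero vectors. -/
theorem card_sylow_mul' [Finite K] [Finite V] {q : ℕ} [Fact q.Prime] (P : V → Prop)
    (hu : ∀ v, P v → ∃! Q : Sylow q K, (Q : Subgroup K) ≤ MulAction.stabilizer K v)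
    (hinv : ∀ (k : K) v, P v → P (k • v)) (Q : Sylow q K) :
    Nat.card (Sylow q K) * Nat.card {v : V // P v ∧ v ∈ fix V (Q : Subgroup K)} =
      Nat.card {v : V // P v} := by
  classical
  have key : ∀ Q' : Sylow q K, {v : V // P v ∧ v ∈ fix V (Q' : Subgroup K)} ≃
      {v : V // P v ∧ v ∈ fix V (Q : Subgroup K)} := fun Q' => by
    let g := (MulAction.exists_smul_eq K Q Q').choose
    have hg : g • Q = Q' := (MulAction.exists_smul_eq K Q Q').choose_spec
    refine
      { toFun := fun v => ⟨g⁻¹ • (v : V), hinv _ _ v.2.1, ?_⟩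
        invFun := fun v => ⟨g • (v : V), hinv _ _ v.2.1, ?_⟩
        left_inv := fun v => Subtype.ext (smul_inv_smul g (v : V))
        right_inv := fun v => Subtype.ext (inv_smul_smul g (v : V)) }
    · exact (sylow_smul_le_stabilizer Q g (v : V)).1 (by rw [hg]; exact v.2.2)
    · rw [← hg]
      exact (sylow_smul_le_stabilizer Q g (g • (v : V))).2 (by rw [inv_smul_smul]; exact v.2.2)
  rw [← Nat.card_prod]
  refine Nat.card_congr ((Equiv.sigmaEquivProd _ _).symm.trans
    ((Equiv.sigmaCongrRight fun Q' => (key Q').symm).trans (Equiv.ofBijective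
      (fun z => (⟨(z.2 : V), z.2.2.1⟩ : {v : V // P v})) ⟨?_, ?_⟩)))
  · rintro ⟨Q₁, v₁, h₁, f₁⟩ ⟨Q₂, v₂, h₂, f₂⟩ he
    obtain rfl : v₁ = v₂ := congrArg Subtype.val he
    obtain rfl : Q₁ = Q₂ := (hu v₁ h₁).unique f₁ f₂
    rfl
  · rintro ⟨v, hv⟩
    obtain ⟨Q', hQ'⟩ := (hu v hv).exists
    exact ⟨⟨Q', v, hv, hQ'⟩, rfl⟩

theorem card_sylow_mul [Finite K] [Finite V] {q : ℕ} [Fact q.Prime] (hu : UniqSylow q K V)
    (P : V → Prop) (h0 : ¬ P 0) (hinv : ∀ (k : K) v, P v → P (k • v)) (Q : Sylow q K) :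
    Nat.card (Sylow q K) * Nat.card {v : V // P v ∧ v ∈ fix V (Q : Subgroup K)} =
      Nat.card {v : V // P v} :=
  card_sylow_mul' P (fun v hv => hu v fun h => h0 (h ▸ hv)) hinv Q

/-- A normal `q`-subgroup lies in the kernel. -/
theorem smul_eq_of_normal_pGroup [Finite K] {q : ℕ} [Fact q.Prime] (hu : UniqSylow q K V)
    (N : Subgroup K) [hN : N.Normal] (hq : IsPGroup q N) {x : K} (hx : x ∈ N) (v : V) :
    x • v = v := by
  rcases eq_or_ne v 0 with rfl | hv
  · exact smul_zero x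
  obtain ⟨Q, hQ⟩ := (hu v hv).exists
  obtain ⟨Q', hQ'⟩ := hq.exists_le_sylow
  obtain ⟨g, rfl⟩ := MulAction.exists_smul_eq K Q' Q
  refine hQ ?_
  rw [Sylow.coe_subgroup_smul]
  exact ⟨g⁻¹ * x * g, hQ' (by simpa using hN.conj_mem x hx g⁻¹), by simp [mul_assoc]⟩

/-- One term of a product of bounded terms. -/
theorem prod_le_term {ι : Type*} [DecidableEq ι] (s : Finset ι) (a : ι → ℕ) (M : ℕ)
    (h : ∀ i ∈ s, a i ≤ M) {j : ι} (hj : j ∈ s) :
    ∏ i ∈ s, a i ≤ a j * M ^ (s.card - 1) := by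
  rw [← Finset.mul_prod_erase s a hj]
  refine Nat.mul_le_mul_left _ ((Finset.prod_le_prod' fun i hi => h i (Finset.mem_of_mem_erase hi)).trans
    (le_of_eq ?_))
  rw [Finset.prod_const, Finset.card_erase_of_mem hj]

theorem card_mul_prod_le {ι : Type*} (s : Finset ι) (a : ι → ℕ) (M : ℕ) (h : ∀ i ∈ s, a i ≤ M) :
    s.card * ∏ i ∈ s, a i ≤ (∑ i ∈ s, a i) * M ^ (s.card - 1) := by
  classical
  rw [Finset.sum_mul, ← nsmul_eq_mul_nat, ← Finset.sum_const]
  exact Finset.sum_le_sum fun j hj => prod_le_term s a M h hj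
where
  nsmul_eq_mul_nat {m n : ℕ} : m • n = m * n := smul_eq_mul m n

theorem card_mul_prod_lt {ι : Type*} [Fintype ι] (a : ι → ℕ) (M : ℕ) (h : ∀ i, a i ≤ M)
    (hpos : ∀ i, 0 < a i) {k : ι} (hk : a k < M) {j : ι} (hjk : j ≠ k) :
    Fintype.card ι * ∏ i, a i < (∑ i, a i) * M ^ (Fintype.card ι - 1) := by
  classical
  rw [Finset.sum_mul, ← smul_eq_mul, ← Finset.card_univ, ← Finset.sum_const]
  refine Finset.sum_lt_sum (fun i _ => prod_le_term _ a M (fun i _ => h i) (Finset.mem_univ i))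
    ⟨j, Finset.mem_univ j, ?_⟩
  rw [← Finset.mul_prod_erase Finset.univ a (Finset.mem_univ j)]
  refine Nat.mul_lt_mul_of_pos_left (lt_of_lt_of_eq (Finset.prod_lt_prod (fun i _ => hpos i)
    (fun i _ => h i) ⟨k, Finset.mem_erase.2 ⟨hjk.symm, Finset.mem_univ k⟩, hk⟩) ?_) (hpos j)
  rw [Finset.prod_const, Finset.card_erase_of_mem (Finset.mem_univ j)]

/-- The arithmetic of an odd prime moving blocks. -/
theorem small_blocks {q f c t M : ℕ} (hq : 3 ≤ q) (hc : 0 < c) (hf : 0 < f) (hM : 2 ≤ M)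
    (ht : f + q * c ≤ t) (h : f * M ^ (t - f - c) ≤ t) : q = 3 ∧ t = 4 := by
  have hqc : 3 * c ≤ q * c := Nat.mul_le_mul_right c hq
  obtain ⟨k, rfl⟩ : ∃ k, t = f + c + k := ⟨t - f - c, by omega⟩
  rw [show f + c + k - f - c = k by omega] at h
  have h2 : f * 2 ^ k ≤ f + c + k := le_trans (Nat.mul_le_mul_left f (Nat.pow_le_pow_left hM k)) h
  have hk3 : k < 3 := by
    by_contra hk
    obtain ⟨e, rfl⟩ : ∃ e, k = e + 3 := ⟨k - 3, by omega⟩
    have he : e + 1 ≤ 2 ^ e := Nat.lt_two_pow_self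
    have : f * (8 * (e + 1)) ≤ f + c + (e + 3) :=
      le_trans (Nat.mul_le_mul_left f (by rw [pow_add]; omega)) h2
    nlinarith
  interval_cases k
  · omega
  · omega
  · have : q * c ≤ c + 2 := by omega
    have hc1 : c = 1 := by omega
    subst hc1
    constructor <;> omega

end CfsgLib.Palfy69
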