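import Cfsg.Agent.Palfy69.Common
import Cfsg.Agent.Coprime.Action

/-!
# Pálfy's condition: the Sylow subgroup is not normal
-/

set_option autoImplicit false
set_option linter.style.haveILetI false
set_option linter.unusedSectionVars false

namespace CfsgLib.Palfy69

open scoped commutatorElement
open CfsgLib.Characters CfsgLib.OddOrderChar CfsgLib.CharactersDeep

universe u

/-- `P M` is normal, `P` abelian modulo `M`, `P` not normal. -/
theorem caseA {G : Type u} [Group G] [Fintype G] [Group.IsSolvable G] {p q r : ℕ}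
    [hp : Fact p.Prime] [hq : Fact q.Prime] [hr : Fact r.Prime] (hpq : Sep G p q)
    (hpr : Sep G p r) (hqr : Sep G q r) (hne : q ≠ r) (hρq : Rho G q) (hρr : Rho G r)
    {M : Subgroup G} [hMn : M.Normal] (hM1 : M ≠ ⊥)
    (hmin : ∀ N : Subgroup G, N.Normal → N ≤ M → N = ⊥ ∨ N = M) (P : Sylow p G)
    (hPn : ¬ (P : Subgroup G).Normal) (hPM : ((P : Subgroup G) ⊔ M).Normal)
    (hder : ∀ x ∈ (P : Subgroup G), ∀ y ∈ (P : Subgroup G), ⁅x, y⁆ ∈ M) : False := by
  classical
  obtain ⟨hMc, s, hs, hsexp⟩ := minimal_normal_elementary hM1 hmin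
  have hMle : ¬ M ≤ (P : Subgroup G) := fun h => hPn (by rwa [sup_eq_left.2 h] at hPM)
  have hMs : IsPGroup s M := fun x => ⟨1, Subtype.ext (by simpa using hsexp x x.2)⟩
  haveI := Fact.mk hs
  have hsp : s ≠ p := by
    rintro rfl
    obtain ⟨P', hP'⟩ := hMs.exists_le_sylow
    obtain ⟨g, rfl⟩ := MulAction.exists_smul_eq G P' P
    refine hMle fun x hx => ?_
    rw [Sylow.coe_subgroup_smul]
    exact ⟨g⁻¹ * x * g, hP' (by simpa using hMn.conj_mem x hx g⁻¹), by simp [mul_assoc]⟩
  have hPMd : Disjoint M (P : Subgroup G) := IsPGroup.disjoint_of_ne s p hsp _ _ hMs P.isPGroup'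
  have hPc : ∀ x ∈ (P : Subgroup G), ∀ y ∈ (P : Subgroup G), x * y = y * x := fun x hx y hy =>
    commutatorElement_eq_one_iff_mul_comm.1 (Subgroup.disjoint_def.1 hPMd (hder x hx y hy)
      (mul_mem (mul_mem (mul_mem hx hy) (inv_mem hx)) (inv_mem hy)))
  set K : Subgroup G := Subgroup.normalizer ((P : Subgroup G) : Set G) with hK
  haveI := hPM
  have hsup : M ⊔ K = ⊤ := by
    have h1 := Sylow.normalizer_sup_eq_top' P (le_sup_left (b := M))
    refine eq_top_iff.2 (h1 ▸ sup_le le_sup_right (sup_le ?_ le_sup_left))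
    exact le_trans (fun x hx => Subgroup.le_normalizer hx) le_sup_right
  have hCK : ∀ x ∈ M, x ∈ K → ∀ y ∈ (P : Subgroup G), x * y = y * x := by
    intro x hx hxK y hy
    refine commutatorElement_eq_one_iff_mul_comm.1 (Subgroup.disjoint_def.1 hPMd ?_ ?_)
    · rw [show ⁅x, y⁆ = x * (y * x⁻¹ * y⁻¹) by simp only [commutatorElement_def]; group]
      exact mul_mem hx (hMn.conj_mem _ (inv_mem hx) y)
    · exact mul_mem ((Subgroup.mem_normalizer_iff.1 hxK y).1 hy) (inv_mem hy)
  have hcent : M ⊓ Subgroup.centralizer ((P : Subgroup G) : Set G) = ⊥ := by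
    set C := M ⊓ Subgroup.centralizer ((P : Subgroup G) : Set G) with hC
    have hCn : C.Normal := ⟨fun c hc g => by
      obtain ⟨m, hm, k, hk, rfl⟩ := exists_mul_of_sup hsup g
      have h1 : k * c * k⁻¹ ∈ C := by
        refine Subgroup.mem_inf.2 ⟨hMn.conj_mem c hc.1 k, Subgroup.mem_centralizer_iff.2
          fun y hy => ?_⟩
        have h2 := Subgroup.mem_centralizer_iff.1 hc.2 (k⁻¹ * y * k)
          (by
            have h3 := (Subgroup.mem_normalizer_iff.1 (inv_mem hk) y).1 hy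
            rw [inv_inv] at h3
            exact h3)
        calc y * (k * c * k⁻¹) = k * (k⁻¹ * y * k * c) * k⁻¹ := by group
          _ = k * (c * (k⁻¹ * y * k)) * k⁻¹ := by rw [h2]
          _ = k * c * k⁻¹ * y := by group
      rw [show m * k * c * (m * k)⁻¹ = m * (k * c * k⁻¹) * m⁻¹ by group, hMc m hm _ h1.1,
        mul_inv_cancel_right]
      exact h1⟩
    refine (hmin C hCn inf_le_left).resolve_right fun hCM => hPn ?_
    refine Subgroup.normalizer_eq_top_iff.1 (eq_top_iff.2 (hsup ▸ sup_le (fun m hm => ?_) le_rfl))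
    have hm' : m ∈ C := hCM ▸ hm
    refine Subgroup.mem_normalizer_iff.2 fun y => ?_
    have hc := fun z (hz : z ∈ (P : Subgroup G)) =>
      Subgroup.mem_centralizer_iff.1 hm'.2 z hz
    constructor
    · intro hy
      rw [← hc y hy, mul_inv_cancel_right]
      exact hy
    · intro hy
      have h1 := hc _ hy
      have h2 : m * y * m⁻¹ = y := by
        calc m * y * m⁻¹ = m⁻¹ * (m * y * m⁻¹ * m) * 1 * 1 * 1 := by rw [h1]; group
          _ = y := by group
      rw [h2] at hy
      exact hy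
  have hinf : M ⊓ K = ⊥ := (Subgroup.eq_bot_iff_forall _).2 fun x hx => by
    have : x ∈ M ⊓ Subgroup.centralizer ((P : Subgroup G) : Set G) :=
      ⟨hx.1, Subgroup.mem_centralizer_iff.2 fun y hy => (hCK x hx.1 hx.2 y hy).symm⟩
    rwa [hcent, Subgroup.mem_bot] at this
  -- the module
  have hPK : (P : Subgroup G) ≤ K := Subgroup.le_normalizer
  let PK : Sylow p K := P.subtype hPK
  have hPKn : (PK : Subgroup K).Normal := by
    rw [Sylow.coe_subtype]
    exact Subgroup.normal_subgroupOf_iff_le_normalizer hPK |>.2 le_rfl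
  have hMP : ⁅M, (P : Subgroup G)⁆ = M := by
    have h1 := Coprime.commutator_sup_centralizer (G := M) (A := (P : Subgroup G))
      (fun g _ => Subgroup.mem_normalizer_iff.2 fun m =>
        ⟨fun hm => hMn.conj_mem m hm g, fun hm => by simpa [mul_assoc] using hMn.conj_mem _ hm g⁻¹⟩)
      (by
        obtain ⟨a, ha⟩ := IsPGroup.iff_card.1 P.isPGroup'
        obtain ⟨b, hb⟩ := IsPGroup.iff_card.1 hMs
        rw [ha, hb]
        exact ((Nat.coprime_primes hp.out hs).2 hsp.symm).pow a b)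
      (Or.inl inferInstance)
    rwa [hcent, sup_bot_eq] at h1
  have hgoodAll : ∀ (w : ℕ) [Fact w.Prime], Sep G p w →
      ∀ v : Dual M, v ≠ 0 → GoodAt w K v := by
    intro w hw hsep v hv
    set T := MulAction.stabilizer G v with hT
    have hMT : M ≤ T := fun m hm => Dual.smul_eq_iff.2 fun y => congrArg v.hom (Subtype.ext (by
      rw [Dual.coe_cjP, hMc m hm y y.2, mul_inv_cancel_right]))
    obtain ⟨f, hf⟩ := exists_linear_ext hinf hsup v.hom T hMT
      (fun t ht y => Dual.smul_eq_iff.1 ht y)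
    haveI := Fintype.ofFinite M
    haveI := Fintype.ofFinite T
    have hpT : p ∣ T.index := by
      by_contra hpn
      have hle := normal_sylow_le PK hPKn (T.subgroupOf K)
        (by rw [index_eq_of_complement hsup T hMT]; exact hpn)
      refine hv (Dual.eq_zero_iff.2 fun y => ?_)
      have hker : ⁅M, (P : Subgroup G)⁆ ≤ v.hom.ker.map M.subtype := by
        rw [Subgroup.commutator_le]
        intro m hm g hg
        have hmem : (⟨g, hPK hg⟩ : K) ∈ (PK : Subgroup K) := by
          rw [Sylow.coe_subtype]; exact Subgroup.mem_subgroupOf.2 hg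
        have hfix : g • v = v := Subgroup.mem_subgroupOf.1 (hle hmem)
        refine ⟨⟨m, hm⟩ * Dual.cjP M g ⟨m, hm⟩⁻¹, ?_, ?_⟩
        · show v.hom (⟨m, hm⟩ * Dual.cjP M g ⟨m, hm⟩⁻¹) = 1
          rw [map_mul, Dual.smul_eq_iff.1 hfix, map_inv, mul_inv_cancel]
        · show m * (g * m⁻¹ * g⁻¹) = ⁅m, g⁆
          simp only [commutatorElement_def]; group
      rw [hMP] at hker
      obtain ⟨z, hz, hzy⟩ := hker y.2
      rw [← Subtype.ext hzy]
      exact hz
    obtain ⟨Q, h1, h2, h3⟩ := unique_in_stabilizer hinf hsup (isIrr_linChar v.hom) (d := 1)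
      (by simp) T (fun g => Dual.mem_stabilizer_iff_conjBy) hMT (isIrr_linChar f)
      (fun y => by show (f _ : ℂ) = _; rw [hf]) (q := w)
      (fun c hc hdvd hwc => hsep c hc (hpT.trans (by simpa using hdvd)) hwc)
    exact ⟨Q, h1, h2, h3⟩
  have hMcom : ∀ a b : M, a * b * a⁻¹ * b⁻¹ ∈ (⊥ : Subgroup M) := fun a b => by
    rw [Subgroup.mem_bot, mul_inv_eq_one, mul_inv_eq_iff_eq_mul]
    exact Subtype.ext (hMc a a.2 b b.2)
  have hnz : ∃ v : Dual M, v ≠ 0 := by
    obtain ⟨x, hx, hx1⟩ : ∃ x ∈ M, x ≠ 1 := by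
      by_contra hno
      push Not at hno
      exact hM1 ((Subgroup.eq_bot_iff_forall _).2 hno)
    obtain ⟨f, -, hf⟩ := exists_hom_ne_one (⊥ : Subgroup M)
      hMcom
      (x := ⟨x, hx⟩) (fun h => hx1 (congrArg Subtype.val (Subgroup.mem_bot.1 h)))
    exact ⟨Dual.of f, fun h => hf (Dual.eq_zero_iff.1 h _)⟩
  -- a prime fixing every vector divides no degree
  have hmove : ∀ (w : ℕ) [Fact w.Prime], Sep G p w → Rho G w →
      ∃ (Q : Sylow w K), ∃ g ∈ (Q : Subgroup K), ∃ v : Dual M, g • v ≠ v := by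
    intro w hw hsep hρ
    by_contra hall
    push Not at hall
    obtain ⟨Q, hQn, hQc⟩ := normal_of_all_fixed hnz (hgoodAll w hsep) hall
    have hQM : ∀ g ∈ (Q : Subgroup K), ∀ y ∈ M, (g : G) * y = y * g := by
      intro g hg y hy
      by_contra hgy
      set c : M := Dual.cjP M (g : G) ⟨y, hy⟩ * (⟨y, hy⟩ : M)⁻¹ with hc
      have hc1 : c ∉ (⊥ : Subgroup M) := fun h => hgy (by
        have h1 : (g : G) * y * (g : G)⁻¹ * y⁻¹ = 1 :=
          congrArg Subtype.val (Subgroup.mem_bot.1 h)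
        rw [mul_inv_eq_one, mul_inv_eq_iff_eq_mul] at h1
        exact h1)
      obtain ⟨f, -, hf⟩ := exists_hom_ne_one (⊥ : Subgroup M)
        hMcom hc1
      refine hf ?_
      have h1 := Dual.smul_eq_iff.1 (hall Q g hg (Dual.of f)) ⟨y, hy⟩
      rw [hc, map_mul, map_inv]
      exact mul_inv_eq_one.2 h1
    refine not_rho_of_central hsup Q hQn hQc M hMc hMc (fun k _ a ha => hMn.conj_mem a ha k)
      hQM hQM ?_ hρ
    rw [← index_eq_of_complement hsup _ le_sup_left]
    exact fun hdvd => Q.not_dvd_index (hdvd.trans (Subgroup.index_dvd_of_le fun g hg =>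
      Subgroup.mem_subgroupOf.2 (Subgroup.mem_sup_right ⟨g, hg, rfl⟩)))
  refine false_of_two_uniq (K := K) (V := Dual M) hs
    (fun v => Dual.eq_zero_iff.2 fun y => ?_) hnz
    (fun W hW => Dual.irreducible hMc hmin (H := K) (fun g => ?_) W hW) hne
    (fun v hv => (hgoodAll q hpq v hv).existsUnique)
    (fun v hv => (hgoodAll r hpr v hv).existsUnique)
    (hmove q hpq hρq) (hmove r hpr hρr) (sep_complement hinf hsup hqr)
  · rw [Dual.hom_nsmul, ← map_pow, show y ^ s = 1 from Subtype.ext (by simpa using hsexp y y.2),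
      map_one]
  · obtain ⟨m, hm, k, hk, rfl⟩ := exists_mul_of_sup hsup g
    exact ⟨m, Subgroup.mem_centralizer_iff.2 fun x hx => hMc x hx m hm, k, hk, rfl⟩

end CfsgLib.Palfy69
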