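import Cfsg.Agent.Palfy69.Stable
import Cfsg.Agent.Coprime.Action

/-!
# Pálfy's condition: a normal nonabelian Sylow subgroup
-/

set_option autoImplicit false
set_option linter.style.haveILetI false
set_option linter.unusedSectionVars false

namespace CfsgLib.Palfy69

open scoped commutatorElement
open CfsgLib.Characters CfsgLib.OddOrderChar CfsgLib.CharactersDeep

universe u

/-- Two partitions by the same number of subspaces have equally many vectors. -/
theorem eq_of_partition {p n a a' b b' : ℕ} (hp : p.Prime) (hn : 1 < n) (ha : 1 < p ^ a)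
    (hb : 1 < p ^ b) (h1 : n * (p ^ a' - 1) = p ^ a - 1) (h2 : n * (p ^ b' - 1) = p ^ b - 1) :
    p ^ a = p ^ b := by
  have key : ∀ a a', 1 < p ^ a → n * (p ^ a' - 1) = p ^ a - 1 →
      0 < a' ∧ p ^ a' ∣ n - 1 ∧ ¬ p ^ (a' + 1) ∣ n - 1 := by
    intro a a' ha h1
    have ha' : 0 < a' := Nat.pos_of_ne_zero fun h0 => by simp [h0] at h1; omega
    have hpos : 1 < p ^ a' := Nat.one_lt_pow ha'.ne' hp.one_lt
    have hlt : p ^ a' < p ^ a := by
      have : 2 * (p ^ a' - 1) ≤ n * (p ^ a' - 1) := Nat.mul_le_mul_right _ hn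
      omega
    obtain ⟨k, rfl⟩ : ∃ k, a = a' + (k + 1) := by
      have : a' < a := (Nat.pow_lt_pow_iff_right hp.one_lt).1 hlt
      exact ⟨a - a' - 1, by omega⟩
    have he : (n - 1) * (p ^ a' - 1) = p ^ a' * (p ^ (k + 1) - 1) := by
      rw [Nat.sub_mul, h1, one_mul, Nat.mul_sub, ← pow_add, mul_one]
      omega
    refine ⟨ha', ?_, fun hdvd => ?_⟩
    · refine (Nat.Coprime.dvd_of_dvd_mul_right ?_ ⟨_, he⟩)
      refine Nat.Coprime.pow_left a' (hp.coprime_iff_not_dvd.2 fun h => ?_)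
      have h' : p ∣ p ^ a' := dvd_pow_self p ha'.ne'
      have h4 := Nat.dvd_sub h' h
      rw [show p ^ a' - (p ^ a' - 1) = 1 by omega] at h4
      exact hp.not_dvd_one h4
    · have h3 : p ^ (a' + 1) ∣ p ^ a' * (p ^ (k + 1) - 1) := he ▸ dvd_mul_of_dvd_left hdvd _
      rw [pow_succ, Nat.mul_dvd_mul_iff_left (Nat.pow_pos hp.pos)] at h3
      have h4 := Nat.dvd_sub (dvd_pow_self p k.succ_ne_zero) h3
      have : 1 ≤ p ^ (k + 1) := Nat.pow_pos hp.pos
      rw [show p ^ k.succ - (p ^ (k + 1) - 1) = 1 by simp only [Nat.succ_eq_add_one]; omega] at h4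
      exact hp.not_dvd_one h4
  obtain ⟨-, hA, hA'⟩ := key a a' ha h1
  obtain ⟨-, hB, hB'⟩ := key b b' hb h2
  have hab : a' = b' := by
    rcases lt_trichotomy a' b' with h | h | h
    · exact absurd ((pow_dvd_pow p h).trans hB) hA'
    · exact h
    · exact absurd ((pow_dvd_pow p h).trans hA) hB'
  subst hab
  omega

section

variable {G : Type u} [Group G] [Fintype G] [Group.IsSolvable G] {P M H : Subgroup G} {p : ℕ}
  [hp : Fact p.Prime] {q : ℕ} [Fact q.Prime]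

/-- The elements of `P` moved into `M` by `Q`. -/
def almostFixed (h : ClassTwo P M) (Q : Subgroup H) : Subgroup G where
  carrier := {x | x ∈ P ∧ ∀ g ∈ Q, ⁅(g : G), x⁆ ∈ M}
  one_mem' := ⟨one_mem _, fun g _ => by rw [commutatorElement_one_right]; exact one_mem _⟩
  mul_mem' := fun {a b} ha hb => ⟨mul_mem ha.1 hb.1, fun g hg => by
    rw [show ⁅(g : G), a * b⁆ = ⁅(g : G), a⁆ * (a * ⁅(g : G), b⁆ * a⁻¹) by
      simp only [commutatorElement_def]; group]
    exact mul_mem (ha.2 g hg) (h.normM.conj_mem _ (hb.2 g hg) a)⟩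
  inv_mem' := fun {a} ha => ⟨inv_mem ha.1, fun g hg => by
    rw [show ⁅(g : G), a⁻¹⁆ = a⁻¹ * ⁅(g : G), a⁆⁻¹ * a⁻¹⁻¹ by
      simp only [commutatorElement_def]; group]
    exact h.normM.conj_mem _ (inv_mem (ha.2 g hg)) a⁻¹⟩

/-- A central normal Sylow `q`-subgroup of `H` moves some vector of `P` out of `M`. -/
theorem exists_not_almostFixed (h : ClassTwo P M) (hP : IsPGroup p P) (hinf : P ⊓ H = ⊥)
    (hsup : P ⊔ H = ⊤) (hne : q ≠ p) (hρ : Rho G q) (Q : Sylow q H)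
    (hQn : (Q : Subgroup H).Normal)
    (hQc : ∀ a ∈ (Q : Subgroup H), ∀ b ∈ (Q : Subgroup H), a * b = b * a)
    (hQM : ∀ g ∈ (Q : Subgroup H), ∀ y ∈ M, (g : G) * y = y * g) :
    ∃ x ∈ P, x ∉ almostFixed h (Q : Subgroup H) := by
  classical
  haveI := h.normP
  by_contra hall
  push Not at hall
  have hQP : ∀ g ∈ (Q : Subgroup H), ∀ y ∈ P, (g : G) * y = y * g := by
    intro g hg y hy
    obtain ⟨m, hm⟩ := Q.isPGroup' ⟨g, hg⟩
    have hc : y⁻¹ * ((g : G) * y * (g : G)⁻¹) ∈ M := by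
      have h1 := h.normM.conj_mem _ ((hall y hy).2 g hg) y⁻¹
      simpa [commutatorElement_def, mul_assoc] using h1
    obtain ⟨k, hk⟩ := hP ⟨_, h.le hc⟩
    exact comm_of_chain (Fact.out : q.Prime) hp.out hne
      ⟨m, congrArg (fun x : (Q : Subgroup H) => ((x : H) : G)) hm⟩
      ⟨k, congrArg Subtype.val hk⟩ (hQM g hg _ hc) (by group)
  refine not_rho_of_central hsup Q hQn hQc ⊥
    (fun a ha b hb => by rw [Subgroup.mem_bot.1 ha, Subgroup.mem_bot.1 hb])
    (fun y _ a ha => by rw [Subgroup.mem_bot.1 ha, mul_one, one_mul])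
    (fun k _ a ha => by rw [Subgroup.mem_bot.1 ha]; simp)
    (fun g _ a ha => by rw [Subgroup.mem_bot.1 ha, mul_one, one_mul]) hQP ?_ hρ
  rw [bot_sup_eq, Subgroup.index_map, Subgroup.ker_subtype, sup_bot_eq, Subgroup.range_subtype,
    (Subgroup.isComplement'_of_disjoint_and_mul_eq_univ (disjoint_iff.2 hinf)
      (by rw [← Subgroup.normal_mul, hsup, Subgroup.coe_top])).index_eq_card]
  intro hd
  obtain ⟨n, hn⟩ := IsPGroup.iff_card.1 hP
  rcases (Fact.out : q.Prime).dvd_mul.1 hd with h1 | h1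
  · exact Q.not_dvd_index h1
  · rw [hn] at h1
    exact hne ((Nat.prime_dvd_prime_iff_eq Fact.out hp.out).1 ((Fact.out : q.Prime).dvd_of_dvd_pow h1))

/-- Such a subgroup moves some linear character of `P`. -/
theorem exists_moved_dual [hPn : P.Normal] (h : ClassTwo P M) (hP : IsPGroup p P)
    (hinf : P ⊓ H = ⊥) (hsup : P ⊔ H = ⊤) (hne : q ≠ p) (hρ : Rho G q) (Q : Sylow q H)
    (hQn : (Q : Subgroup H).Normal)
    (hQc : ∀ a ∈ (Q : Subgroup H), ∀ b ∈ (Q : Subgroup H), a * b = b * a)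
    (hQM : ∀ g ∈ (Q : Subgroup H), ∀ y ∈ M, (g : G) * y = y * g) :
    ∃ g ∈ (Q : Subgroup H), ∃ v : Dual P, g • v ≠ v := by
  classical
  obtain ⟨x, hx, hxF⟩ := exists_not_almostFixed h hP hinf hsup hne hρ Q hQn hQc hQM
  obtain ⟨g, hg, hgx⟩ : ∃ g ∈ (Q : Subgroup H), ⁅(g : G), x⁆ ∉ M := by
    by_contra hno
    push Not at hno
    exact hxF ⟨hx, hno⟩
  haveI := h.normM
  haveI : (M.subgroupOf P).Normal := Subgroup.normal_subgroupOf
  set c : P := Dual.cjP P (g : G) ⟨x, hx⟩ * (⟨x, hx⟩ : P)⁻¹ with hc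
  obtain ⟨f, -, hf⟩ := exists_hom_ne_one (M.subgroupOf P)
    (fun a b => h.der a a.2 b b.2) (x := c) (fun hm => hgx hm)
  refine ⟨g, hg, Dual.of f, fun hfix => hf ?_⟩
  rw [hc, map_mul, map_inv]
  exact mul_inv_eq_one.2 (Dual.smul_eq_iff.1 (hfix : (g : G) • Dual.of f = Dual.of f) ⟨x, hx⟩)

end

/-- One of the two primes centralizes `M`. -/
theorem caseB_key {G : Type u} [Group G] [Fintype G] [Group.IsSolvable G] {P M H : Subgroup G}
    [P.Normal] [M.Normal] {p q r : ℕ} [hp : Fact p.Prime] [hq : Fact q.Prime] [hr : Fact r.Prime]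
    (h : ClassTwo P M) (hP : IsPGroup p P) (hinf : P ⊓ H = ⊥) (hsup : P ⊔ H = ⊤)
    (hcop : (Nat.card H).Coprime p) (hMP : M = ⁅P, P⁆) (hqp : q ≠ p) (hrp : r ≠ p) (_hne : q ≠ r)
    (hpq : Sep G p q) (hpr : Sep G p r) (hqr : Sep G q r) (hρq : Rho G q) (hρr : Rho G r)
    (hnz : ∃ v : Dual M, v ≠ 0)
    (hgood : ∀ (w : ℕ) [Fact w.Prime], Sep G p w → ∀ v : Dual M, v ≠ 0 → GoodAt w H v)
    (hMcom : ∀ a b : M, a * b * a⁻¹ * b⁻¹ ∈ (⊥ : Subgroup M))
    (hmq : ¬ ∃ (Q : Sylow q H), ∃ g ∈ (Q : Subgroup H), ∃ v : Dual M, g • v ≠ v) : False := by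
  classical
  have hcentM : ∀ (w : ℕ) [Fact w.Prime] (Q : Sylow w H),
      (∀ g ∈ (Q : Subgroup H), ∀ v : Dual M, g • v = v) →
      ∀ g ∈ (Q : Subgroup H), ∀ y ∈ M, (g : G) * y = y * g := by
    intro w _ Q hfix g hg y hy
    by_contra hgy
    set c : M := Dual.cjP M (g : G) ⟨y, hy⟩ * (⟨y, hy⟩ : M)⁻¹ with hc
    have hc1 : c ∉ (⊥ : Subgroup M) := fun h' => hgy (by
      have h1 : (g : G) * y * (g : G)⁻¹ * y⁻¹ = 1 :=
        congrArg Subtype.val (Subgroup.mem_bot.1 h')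
      rw [mul_inv_eq_one, mul_inv_eq_iff_eq_mul] at h1
      exact h1)
    obtain ⟨f, -, hf⟩ := exists_hom_ne_one (⊥ : Subgroup M) hMcom hc1
    refine hf ?_
    have h1 := Dual.smul_eq_iff.1 (hfix g hg (Dual.of f) : (g : G) • Dual.of f = _) ⟨y, hy⟩
    rw [hc, map_mul, map_inv]
    exact mul_inv_eq_one.2 h1
  push Not at hmq
  obtain ⟨Q, hQn, hQc⟩ := normal_of_all_fixed hnz (hgood q hpq) hmq
  have hQM := hcentM q Q (hmq Q)
  have hlinear : ∀ (w : ℕ) [Fact w.Prime] (μ : Dual P),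
      (∀ c ∈ Cfsg.charDegrees G, (MulAction.stabilizer G μ).index ∣ c → ¬ w ∣ c) →
      GoodAt w H μ ∧ (MulAction.stabilizer G μ).index ∈ Cfsg.charDegrees G := by
    intro w _ μ hw
    haveI := Fintype.ofFinite P
    set T := MulAction.stabilizer G μ with hT
    haveI := Fintype.ofFinite T
    have hPT : P ≤ T := inertia_le P (isClassFunction_of_isIrr (isIrr_linChar μ.hom)) T
      fun g => Dual.mem_stabilizer_iff_conjBy
    obtain ⟨f, hf⟩ := exists_linear_ext hinf hsup μ.hom T hPT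
      (fun t ht y => Dual.smul_eq_iff.1 ht y)
    have hξ : ∀ y : P, (fun t : T => (f t : ℂ)) ⟨y, hPT y.2⟩ = (μ.hom y : ℂ) := fun y => by
      show (f _ : ℂ) = _
      rw [hf]
    obtain ⟨Q', h1, h2, h3⟩ := unique_in_stabilizer hinf hsup (isIrr_linChar μ.hom) (d := 1)
      (by simp) T (fun g => Dual.mem_stabilizer_iff_conjBy) hPT (isIrr_linChar f) hξ (q := w)
      (fun c hc hdvd => hw c hc (by simpa using hdvd))
    haveI : (P.subgroupOf T).Normal := Subgroup.normal_subgroupOf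
    haveI := Fintype.ofFinite (T ⧸ P.subgroupOf T)
    have hone : 1 ∈ Cfsg.charDegrees (T ⧸ P.subgroupOf T) :=
      DegreeGraph.mem_charDegrees isIrr_one (by simp)
    have hmem := exists_degree_over (isIrr_linChar μ.hom) (d := 1) (by simp) T
      (fun g => Dual.mem_stabilizer_iff_conjBy) hPT (isIrr_linChar f) hξ hone
    rw [mul_one, mul_one] at hmem
    exact ⟨⟨Q', h1, h2, h3⟩, hmem⟩
  have hidxH : ∀ μ : Dual P,
      (MulAction.stabilizer H μ).index = (MulAction.stabilizer G μ).index := by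
    intro μ
    haveI := Fintype.ofFinite P
    exact index_eq_of_complement hsup (MulAction.stabilizer G μ)
      (inertia_le P (isClassFunction_of_isIrr (isIrr_linChar μ.hom)) _
        fun g => Dual.mem_stabilizer_iff_conjBy)
  have hmovedDvd : ∀ (w : ℕ) [Fact w.Prime] (S : Sylow w H), (S : Subgroup H).Normal →
      ∀ μ : Dual P, ∀ g ∈ (S : Subgroup H), g • μ ≠ μ →
      w ∣ (MulAction.stabilizer G μ).index := by
    intro w _ S hSn μ g hg hgμ
    by_contra hw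
    exact hgμ (normal_sylow_le S hSn (MulAction.stabilizer H μ) (by rw [hidxH]; exact hw) hg)
  obtain ⟨g₁, hg₁, μ₁, hμ₁⟩ := exists_moved_dual h hP hinf hsup hqp hρq Q hQn hQc hQM
  by_cases hmr : ∃ (R : Sylow r H), ∃ g ∈ (R : Subgroup H), ∃ v : Dual M, g • v ≠ v
  swap
  · -- both normal
    push Not at hmr
    obtain ⟨R, hRn, hRc⟩ := normal_of_all_fixed hnz (hgood r hpr) hmr
    obtain ⟨g₂, hg₂, μ₂, hμ₂⟩ :=
      exists_moved_dual h hP hinf hsup hrp hρr R hRn hRc (hcentM r R (hmr R))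
    obtain ⟨μ, hμq, hμr⟩ : ∃ μ : Dual P, (∃ g ∈ (Q : Subgroup H), g • μ ≠ μ) ∧
        ∃ g ∈ (R : Subgroup H), g • μ ≠ μ := by
      by_cases h1 : ∃ g ∈ (R : Subgroup H), g • μ₁ ≠ μ₁
      · exact ⟨μ₁, ⟨g₁, hg₁, hμ₁⟩, h1⟩
      by_cases h2 : ∃ g ∈ (Q : Subgroup H), g • μ₂ ≠ μ₂
      · exact ⟨μ₂, h2, g₂, hg₂, hμ₂⟩
      push Not at h1 h2
      refine ⟨μ₁ + μ₂, ⟨g₁, hg₁, fun he => hμ₁ ?_⟩, g₂, hg₂, fun he => hμ₂ ?_⟩
      · rw [smul_add, h2 g₁ hg₁] at he
        exact add_right_cancel he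
      · rw [smul_add, h1 g₂ hg₂] at he
        exact add_left_cancel he
    obtain ⟨g, hg, hgμ⟩ := hμq
    obtain ⟨g', hg', hgμ'⟩ := hμr
    have hqd := hmovedDvd q Q hQn μ g hg hgμ
    obtain ⟨-, hmem⟩ := hlinear r μ fun c hc hdvd hrc => hqr c hc (hqd.trans hdvd) hrc
    exact hqr _ hmem hqd (hmovedDvd r R hRn μ g' hg' hgμ')
  -- the partition
  set C := almostFixed h (Q : Subgroup H) with hC
  have hCP : C ≤ P := fun x hx => hx.1
  have hMC : M ≤ C := fun m hm => ⟨h.le hm, fun g _ => by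
    rw [show ⁅(g : G), m⁆ = ((g : G) * m * (g : G)⁻¹) * m⁻¹ by
      simp only [commutatorElement_def]]
    exact mul_mem (h.normM.conj_mem m hm g) (inv_mem hm)⟩
  haveI hCn : C.Normal := ⟨fun x hx a => by
    obtain ⟨y, hy, k, hk, rfl⟩ := exists_mul_of_sup hsup a
    have h1 : k * x * k⁻¹ ∈ C := ⟨h.normP.conj_mem x hx.1 k, fun g hg => by
      have hg' := hQn.conj_mem g hg (⟨k, hk⟩ : H)⁻¹
      have h2 := h.normM.conj_mem _ (hx.2 _ hg') k
      have e : ⁅(g : G), k * x * k⁻¹⁆ = k * ⁅k⁻¹ * (g : G) * k⁻¹⁻¹, x⁆ * k⁻¹ := by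
        simp only [commutatorElement_def]; group
      rw [e]
      exact h2⟩
    rw [show y * k * x * (y * k)⁻¹ = ⁅y, k * x * k⁻¹⁆ * (k * x * k⁻¹) by
      simp only [commutatorElement_def]; group]
    exact mul_mem (hMC (h.der y hy _ h1.1)) h1⟩
  let Y : AddSubgroup (Dual P) :=
    { carrier := {μ | ∀ x : P, (x : G) ∈ C → μ.hom x = 1}
      zero_mem' := fun x _ => rfl
      add_mem' := fun {a b} ha hb x hx => by rw [Dual.hom_add, ha x hx, hb x hx, one_mul]
      neg_mem' := fun {a} ha x hx => by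
        show (a.hom)⁻¹ x = 1
        rw [MonoidHom.inv_apply, ha x hx, inv_one] }
  have hYinv : ∀ (k : H) (μ : Dual P), μ ∈ Y → k • μ ∈ Y := fun k μ hμ x hx => by
    show μ.hom (Dual.cjP P (k : G)⁻¹ x) = 1
    exact hμ _ (hCn.conj_mem _ hx _)
  have hYmove : ∀ μ ∈ Y, μ ≠ 0 → ∃ g ∈ (Q : Subgroup H), g • μ ≠ μ := by
    intro μ hμ hμ0
    by_contra hall
    push Not at hall
    refine hμ0 (Dual.eq_zero_iff.2 fun y => ?_)
    let Qg : Subgroup G := (Q : Subgroup H).map H.subtype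
    have hgen := Coprime.commutator_sup_centralizer (G := P) (A := Qg)
      (fun g _ => Subgroup.mem_normalizer_iff.2 fun m =>
        ⟨fun hm => h.normP.conj_mem m hm g, fun hm => by
          simpa [mul_assoc] using h.normP.conj_mem _ hm g⁻¹⟩)
      (by
        obtain ⟨n, hn⟩ := IsPGroup.iff_card.1 hP
        obtain ⟨m, hm⟩ := IsPGroup.iff_card.1 Q.isPGroup'
        rw [show Nat.card Qg = q ^ m from
          (Subgroup.card_map_of_injective H.subtype_injective).trans hm, hn]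
        exact ((Nat.coprime_primes hq.out hp.out).2 hqp).pow m n)
      (Or.inl inferInstance)
    have hle : P ≤ μ.hom.ker.map P.subtype := by
      conv_lhs => rw [← hgen]
      refine sup_le (Subgroup.commutator_le.2 ?_) ?_
      · intro x hx g hg
        obtain ⟨k, hk, rfl⟩ := hg
        refine ⟨⟨x, hx⟩ * Dual.cjP P (k : G) ⟨x, hx⟩⁻¹, ?_, ?_⟩
        · show μ.hom _ = 1
          rw [map_mul, Dual.smul_eq_iff.1 (hall k hk : (k : G) • μ = μ), map_inv, mul_inv_cancel]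
        · show x * ((k : G) * x⁻¹ * (k : G)⁻¹) = ⁅x, (k : G)⁆
          simp only [commutatorElement_def]; group
      · rintro x ⟨hxP, hxc⟩
        refine ⟨⟨x, hxP⟩, hμ _ ⟨hxP, fun g hg => ?_⟩, rfl⟩
        show ⁅(g : G), x⁆ ∈ M
        rw [commutatorElement_eq_one_iff_mul_comm.2
          (Subgroup.mem_centralizer_iff.1 hxc (g : G) ⟨g, hg, rfl⟩)]
        exact one_mem _
    obtain ⟨z, hz, hzy⟩ := hle y.2
    rw [← Subtype.ext hzy]
    exact hz
  have hYgood : ∀ μ, μ ∈ Y ∧ μ ≠ 0 →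
      ∃! R : Sylow r H, (R : Subgroup H) ≤ MulAction.stabilizer H μ := by
    intro μ hμ
    obtain ⟨g, hg, hgμ⟩ := hYmove μ hμ.1 hμ.2
    have hqd := hmovedDvd q Q hQn μ g hg hgμ
    exact (hlinear r μ fun c hc hdvd hrc => hqr c hc (hqd.trans hdvd) hrc).1.existsUnique
  -- the injection
  obtain ⟨g₀, hg₀, x₀, hx₀, hc₀⟩ : ∃ g ∈ (Q : Subgroup H), ∃ x ∈ P,
      x⁻¹ * ((g : G) * x * (g : G)⁻¹) ∉ C := by
    by_contra hall
    push Not at hall
    obtain ⟨x, hx, hxC⟩ := exists_not_almostFixed h hP hinf hsup hqp hρq Q hQn hQc hQM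
    refine hxC ⟨hx, fun g hg => ?_⟩
    have hc := hall g hg x hx
    obtain ⟨m, hm⟩ := Q.isPGroup' ⟨g, hg⟩
    obtain ⟨k, hk⟩ := hP ⟨_, hc.1⟩
    have hgm : ((g : H) : G) ^ q ^ m = 1 :=
      congrArg (fun z : (Q : Subgroup H) => ((z : H) : G)) hm
    have hck : (x⁻¹ * ((g : G) * x * (g : G)⁻¹)) ^ p ^ k = 1 := congrArg Subtype.val hk
    have hcomm := comm_of_chain (K := G ⧸ M) hq.out hp.out hqp
      (g := ((g : G) : G ⧸ M)) (x := (x : G ⧸ M))
      (c := ((x⁻¹ * ((g : G) * x * (g : G)⁻¹) : G) : G ⧸ M))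
      ⟨m, by rw [← QuotientGroup.mk_pow, hgm]; rfl⟩
      ⟨k, by rw [← QuotientGroup.mk_pow, hck]; rfl⟩
      (by
        rw [← commutatorElement_eq_one_iff_mul_comm, ← QuotientGroup.mk'_apply,
          ← QuotientGroup.mk'_apply, ← map_commutatorElement, QuotientGroup.mk'_apply,
          QuotientGroup.eq_one_iff]
        exact hc.2 g hg)
      (by simp only [← QuotientGroup.mk_inv, ← QuotientGroup.mk_mul]; congr 1; group)
    rw [← commutatorElement_eq_one_iff_mul_comm, ← QuotientGroup.mk'_apply,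
      ← QuotientGroup.mk'_apply, ← map_commutatorElement, QuotientGroup.mk'_apply,
      QuotientGroup.eq_one_iff] at hcomm
    exact hcomm
  set c₀ : P := (⟨x₀, hx₀⟩ : P)⁻¹ * Dual.cjP P (g₀ : G) ⟨x₀, hx₀⟩ with hc₀def
  have hkill : ∀ y : P, (y : G) ∈ C → h.c c₀ y = 1 := by
    intro y hy
    set x : P := ⟨x₀, hx₀⟩ with hx
    have h1 : h.c (Dual.cjP P (g₀ : G) x) y = h.c x y := by
      have e : Dual.cjP P (g₀ : G) y =
          ⟨⁅(g₀ : G), (y : G)⁆, h.le (hy.2 g₀ hg₀)⟩ * y := Subtype.ext (by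
        show (g₀ : G) * y * (g₀ : G)⁻¹ = ⁅(g₀ : G), (y : G)⁆ * y
        simp only [commutatorElement_def]; group)
      have h2 : h.c (Dual.cjP P (g₀ : G) x) (Dual.cjP P (g₀ : G) y) = h.c x y := by
        refine Subtype.ext ?_
        show ⁅(g₀ : G) * x * (g₀ : G)⁻¹, (g₀ : G) * y * (g₀ : G)⁻¹⁆ = ⁅(x : G), (y : G)⁆
        calc ⁅(g₀ : G) * x * (g₀ : G)⁻¹, (g₀ : G) * y * (g₀ : G)⁻¹⁆
            = (g₀ : G) * ⁅(x : G), (y : G)⁆ * (g₀ : G)⁻¹ := by
              simp only [commutatorElement_def]; group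
          _ = ⁅(x : G), (y : G)⁆ := by
              rw [hQM g₀ hg₀ _ (h.der x x.2 y y.2), mul_inv_cancel_right]
      have h3 : ∀ w : P, (w : G) ∈ M → h.c (Dual.cjP P (g₀ : G) x) w = 1 := fun w hw => by
        rw [h.c_inv, h.c_of_mem hw, inv_one]
      rw [← h2, e, h.c_mul_right, h3 ⟨⁅(g₀ : G), (y : G)⁆, h.le (hy.2 g₀ hg₀)⟩ (hy.2 g₀ hg₀),
        one_mul]
    rw [hc₀def, h.c_mul_left, h1, ← h.c_mul_left, inv_mul_cancel]
    exact h.c_of_mem (one_mem _) y
  let Φ : Dual M → Y := fun v => ⟨Dual.of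
    { toFun := fun y => v.hom (h.c c₀ y)
      map_one' := by rw [h.c_inv, h.c_of_mem (one_mem _), inv_one, map_one]
      map_mul' := fun a b => by rw [h.c_mul_right, map_mul] },
    fun y hy => by
      show v.hom (h.c c₀ y) = 1
      rw [hkill y hy, map_one]⟩
  have hrad : ∀ v : Dual M, v ≠ 0 → ∀ x ∈ h.rad v.hom, (x : G) ∈ C := by
    intro v hv x hx
    refine ⟨x.2, fun g hg => ?_⟩
    haveI := Fintype.ofFinite P
    have hgv : ∀ m : M, v.hom ⟨(g : G) * m * (g : G)⁻¹, h.normM.conj_mem m m.2 g⟩ = v.hom m :=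
      fun m => congrArg v.hom (Subtype.ext (by
        show (g : G) * m * (g : G)⁻¹ = m
        rw [hQM g hg m m.2, mul_inv_cancel_right]))
    obtain ⟨ν, hν⟩ := h.exists_ext v.hom
    have hfix := h.ext_fixed hP hMP hsup hpq Q hQn hv ν hν hg hgv
    by_contra hnM
    set e : h.rad v.hom := h.cjX (g : G) hgv ⟨x, hx⟩ * ⟨x, hx⟩⁻¹ with he
    haveI : ((M.subgroupOf P).subgroupOf (h.rad v.hom)).Normal := Subgroup.normal_subgroupOf
    obtain ⟨δ, hδM, hδe⟩ := exists_hom_ne_one ((M.subgroupOf P).subgroupOf (h.rad v.hom))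
      (fun a b => h.der _ (a : P).2 _ (b : P).2) (x := e) (fun hm => hnM hm)
    have hν' : h.IsExt v.hom (ν * δ) := fun m => by
      rw [MonoidHom.mul_apply, hν m, hδM _ m.2, mul_one]
    have hfix' := h.ext_fixed hP hMP hsup hpq Q hQn hv (ν * δ) hν' hg hgv
    refine hδe ?_
    have a1 := DFunLike.congr_fun hfix ⟨x, hx⟩
    have a2 := DFunLike.congr_fun hfix' ⟨x, hx⟩
    rw [MonoidHom.comp_apply] at a1 a2
    rw [MonoidHom.mul_apply, MonoidHom.mul_apply, a1, mul_right_inj] at a2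
    rw [he, map_mul, a2, ← map_mul, mul_inv_cancel, map_one]
  have hΦ : Function.Injective Φ := by
    intro a b hab
    rw [← sub_eq_zero]
    by_contra hne0
    refine hc₀ (hrad (a - b) hne0 c₀ fun y => ?_)
    have h1 : a.hom (h.c c₀ y) = b.hom (h.c c₀ y) :=
      congrArg (fun μ : Y => (μ : Dual P).hom y) hab
    show (a.hom / b.hom) (h.c c₀ y) = 1
    rw [MonoidHom.div_apply, h1, div_self']
  haveI : (C.subgroupOf P).Normal := Subgroup.normal_subgroupOf
  obtain ⟨f, hfC, hf⟩ := exists_hom_ne_one (C.subgroupOf P)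
    (fun a b => hMC (h.der a a.2 b b.2)) (x := c₀) hc₀
  haveI := Fintype.ofFinite (Dual M)
  haveI := Fintype.ofFinite Y
  have hlt : Nat.card (Dual M) < Nat.card Y := by
    rw [Nat.card_eq_fintype_card, Nat.card_eq_fintype_card]
    refine Fintype.card_lt_of_injective_not_surjective Φ hΦ fun hsurj => hf ?_
    obtain ⟨v, hv⟩ := hsurj ⟨Dual.of f, hfC⟩
    have h1 : v.hom (h.c c₀ c₀) = f c₀ := congrArg (fun μ : Y => (μ : Dual P).hom c₀) hv
    have h2 : h.c c₀ c₀ = 1 := Subtype.ext (commutatorElement_self _)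
    rw [h2, map_one] at h1
    exact h1.symm
  -- counting
  obtain ⟨R, g, hg, v, hgv⟩ := hmr
  have hn : 1 < Nat.card (Sylow r H) := by
    by_contra hle
    haveI : Subsingleton (Sylow r H) := by
      rw [← Finite.card_le_one_iff_subsingleton]; omega
    have hv0 : v ≠ 0 := fun h0 => hgv (by rw [h0, smul_zero])
    obtain ⟨R', hR'⟩ := (hgood r hpr v hv0).existsUnique.exists
    exact hgv (hR' (Subsingleton.elim R R' ▸ hg))
  have hMp : IsPGroup p M := hP.to_le h.le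
  have hone : ∀ {W : Type u} [AddCommGroup W] [Finite W] (Z : AddSubgroup W),
      Nat.card {w : W // w ∈ Z ∧ w ≠ 0} = Nat.card Z - 1 := by
    intro W _ _ Z
    haveI := Fintype.ofFinite Z
    rw [Nat.card_congr (show {w : W // w ∈ Z ∧ w ≠ 0} ≃ {z : Z // z ≠ 0} from
      { toFun := fun w => ⟨⟨w.1, w.2.1⟩, fun h0 => w.2.2 (congrArg Subtype.val h0)⟩
        invFun := fun z => ⟨z.1.1, z.1.2, fun h0 => z.2 (Subtype.ext h0)⟩
        left_inv := fun _ => rfl
        right_inv := fun _ => rfl }),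
      Nat.card_eq_fintype_card, Nat.card_eq_fintype_card, Fintype.card_subtype_compl,
      Fintype.card_subtype_eq]
  have hc1 := card_sylow_mul' (K := H) (q := r) (fun μ : Dual P => μ ∈ Y ∧ μ ≠ 0) hYgood
    (fun k μ hμ => ⟨hYinv k μ hμ.1, fun h0 => hμ.2 (smul_eq_zero_iff_eq k |>.1 h0)⟩) R
  have e1 : Nat.card {μ : Dual P // (μ ∈ Y ∧ μ ≠ 0) ∧ μ ∈ fix (Dual P) (R : Subgroup H)} =
      Nat.card ((Y ⊓ fix (Dual P) (R : Subgroup H) : AddSubgroup (Dual P))) - 1 := by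
    rw [← hone]
    exact Nat.card_congr (Equiv.subtypeEquivRight fun μ => by
      simp only [AddSubgroup.mem_inf]; tauto)
  rw [e1, hone] at hc1
  have hc2 := card_sylow_mul' (K := H) (q := r) (fun w : Dual M => w ∈ (⊤ : AddSubgroup _) ∧ w ≠ 0)
    (fun w hw => (hgood r hpr w hw.2).existsUnique)
    (fun k w hw => ⟨AddSubgroup.mem_top _, fun h0 => hw.2 (smul_eq_zero_iff_eq k |>.1 h0)⟩) R
  have e2 : Nat.card {w : Dual M // (w ∈ (⊤ : AddSubgroup _) ∧ w ≠ 0) ∧
        w ∈ fix (Dual M) (R : Subgroup H)} =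
      Nat.card (fix (Dual M) (R : Subgroup H)) - 1 := by
    rw [← hone]
    exact Nat.card_congr (Equiv.subtypeEquivRight fun μ => by
      simp only [AddSubgroup.mem_top, true_and]; tauto)
  rw [e2, hone] at hc2
  obtain ⟨a, ha⟩ := Dual.card_eq_pow hP Y
  obtain ⟨a', ha'⟩ := Dual.card_eq_pow hP (Y ⊓ fix (Dual P) (R : Subgroup H))
  obtain ⟨b, hb⟩ := Dual.card_eq_pow hMp (⊤ : AddSubgroup (Dual M))
  obtain ⟨b', hb'⟩ := Dual.card_eq_pow hMp (fix (Dual M) (R : Subgroup H))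
  rw [ha, ha'] at hc1
  rw [hb, hb'] at hc2
  have htop : Nat.card (⊤ : AddSubgroup (Dual M)) = Nat.card (Dual M) :=
    Nat.card_congr AddSubgroup.topEquiv.toEquiv
  have hM2 : 1 < Nat.card (Dual M) := by
    obtain ⟨w, hw⟩ := hnz
    haveI : Nontrivial (Dual M) := ⟨⟨w, 0, hw⟩⟩
    exact Finite.one_lt_card
  have heq := eq_of_partition hp.out hn (by omega) (by omega) hc1 hc2
  omega

/-- A normal nonabelian Sylow `p`-subgroup with minimal normal derived subgroup. -/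
theorem caseB {G : Type u} [Group G] [Fintype G] [Group.IsSolvable G] {p q r : ℕ}
    [hp : Fact p.Prime] [hq : Fact q.Prime] [hr : Fact r.Prime] (hqp : q ≠ p) (hrp : r ≠ p)
    (hpq : Sep G p q) (hpr : Sep G p r) (hqr : Sep G q r) (hne : q ≠ r) (hρp : Rho G p)
    (hρq : Rho G q) (hρr : Rho G r) {M : Subgroup G} [hMn : M.Normal] (hM1 : M ≠ ⊥)
    (hmin : ∀ N : Subgroup G, N.Normal → N ≤ M → N = ⊥ ∨ N = M) (Ps : Sylow p G)
    (hPn : (Ps : Subgroup G).Normal)
    (hder : ∀ x ∈ (Ps : Subgroup G), ∀ y ∈ (Ps : Subgroup G), ⁅x, y⁆ ∈ M) : False := by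
  classical
  set P : Subgroup G := (Ps : Subgroup G) with hPdef
  haveI := hPn
  have hP : IsPGroup p P := Ps.isPGroup'
  have hMP : M = ⁅P, P⁆ := by
    refine ((hmin ⁅P, P⁆ inferInstance (Subgroup.commutator_le.2 hder)).resolve_left ?_).symm
    intro hb
    obtain ⟨d, hd, hpd⟩ := hρp
    exact not_dvd_of_abelian_normal P (fun a ha b hb' => commutatorElement_eq_one_iff_mul_comm.1
      (Subgroup.mem_bot.1 (hb ▸ Subgroup.commutator_mem_commutator ha hb'))) Ps.not_dvd_index hd hpd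
  have hMle : M ≤ P := hMP ▸ Subgroup.commutator_le.2 fun x hx y hy =>
    mul_mem (mul_mem (mul_mem hx hy) (inv_mem hx)) (inv_mem hy)
  have hcent : ∀ m ∈ M, ∀ y ∈ P, m * y = y * m := by
    set Z : Subgroup G := M ⊓ (Subgroup.center P).map P.subtype with hZ
    haveI : ((Subgroup.center P).map P.subtype).Normal :=
      ConjAct.normal_of_characteristic_of_normal
    have hZM : Z = M := by
      refine (hmin Z (Subgroup.normal_inf_normal _ _) inf_le_left).resolve_left fun hb => ?_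
      haveI : Group.IsNilpotent P := hP.isNilpotent
      refine Solvable.inf_center_ne_bot (G := P) (N := M.subgroupOf P) (fun h0 => hM1 ?_) ?_
      · refine (Subgroup.eq_bot_iff_forall M).2 fun x hx => ?_
        have h1 : (⟨x, hMle hx⟩ : P) ∈ M.subgroupOf P := Subgroup.mem_subgroupOf.2 hx
        rw [h0, Subgroup.mem_bot] at h1
        exact congrArg Subtype.val h1
      · refine (Subgroup.eq_bot_iff_forall _).2 fun x hx => Subtype.ext ?_
        have hxZ : (x : G) ∈ Z := ⟨hx.1, x, hx.2, rfl⟩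
        rw [hb] at hxZ
        exact Subgroup.mem_bot.1 hxZ
    intro m hm y hy
    have hmZ : m ∈ Z := hZM.symm ▸ hm
    obtain ⟨z, hz, rfl⟩ := hmZ.2
    exact congrArg Subtype.val (Subgroup.mem_center_iff.1 hz ⟨y, hy⟩).symm
  have hct : ClassTwo P M := ⟨hPn, hMn, hMle, hcent, hder⟩
  obtain ⟨H, hH⟩ := Subgroup.exists_right_complement'_of_coprime (N := P) Ps.card_coprime_index
  have hinf : P ⊓ H = ⊥ := disjoint_iff.1 hH.disjoint
  have hsup : P ⊔ H = ⊤ := hH.sup_eq_top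
  have hcop : (Nat.card H).Coprime p := by
    rw [← hH.symm.index_eq_card, Nat.coprime_comm, hp.out.coprime_iff_not_dvd]
    exact Ps.not_dvd_index
  have hgood : ∀ (w : ℕ) [Fact w.Prime], Sep G p w → ∀ v : Dual M, v ≠ 0 → GoodAt w H v :=
    fun w _ hs v hv => hct.good hP hMP hinf hsup hcop hs hv
  obtain ⟨hMc, s, hs, hsexp⟩ := minimal_normal_elementary hM1 hmin
  have hMcom : ∀ a b : M, a * b * a⁻¹ * b⁻¹ ∈ (⊥ : Subgroup M) := fun a b => by
    rw [Subgroup.mem_bot, mul_inv_eq_one, mul_inv_eq_iff_eq_mul]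
    exact Subtype.ext (hMc a a.2 b b.2)
  have hnz : ∃ v : Dual M, v ≠ 0 := by
    obtain ⟨x, hx, hx1⟩ : ∃ x ∈ M, x ≠ 1 := by
      by_contra hno
      push Not at hno
      exact hM1 ((Subgroup.eq_bot_iff_forall _).2 hno)
    obtain ⟨f, -, hf⟩ := exists_hom_ne_one (⊥ : Subgroup M) hMcom
      (x := ⟨x, hx⟩) (fun h => hx1 (congrArg Subtype.val (Subgroup.mem_bot.1 h)))
    exact ⟨Dual.of f, fun h => hf (Dual.eq_zero_iff.1 h _)⟩
  by_cases hmq : ∃ (Q : Sylow q H), ∃ g ∈ (Q : Subgroup H), ∃ v : Dual M, g • v ≠ v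
  · by_cases hmr : ∃ (R : Sylow r H), ∃ g ∈ (R : Subgroup H), ∃ v : Dual M, g • v ≠ v
    · refine false_of_two_uniq (K := H) (V := Dual M) hs
        (fun v => Dual.eq_zero_iff.2 fun y => ?_) hnz
        (fun W hW => Dual.irreducible hMc hmin (H := H) (fun g => ?_) W hW) hne
        (fun v hv => (hgood q hpq v hv).existsUnique)
        (fun v hv => (hgood r hpr v hv).existsUnique) hmq hmr (sep_complement hinf hsup hqr)
      · rw [Dual.hom_nsmul, ← map_pow,
          show y ^ s = 1 from Subtype.ext (by simpa using hsexp y y.2), map_one]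
      · obtain ⟨m, hm, k, hk, rfl⟩ := exists_mul_of_sup hsup g
        exact ⟨m, Subgroup.mem_centralizer_iff.2 fun x hx => hcent x hx m hm, k, hk, rfl⟩
    · exact caseB_key hct hP hinf hsup hcop hMP hrp hqp hne.symm hpr hpq hqr.symm hρr hρq hnz
        hgood hMcom hmr
  · exact caseB_key hct hP hinf hsup hcop hMP hqp hrp hne hpq hpr hqr hρq hρr hnz hgood hMcom hmq

end CfsgLib.Palfy69
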