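import Cfsg.Agent.Palfy69.Dual

/-!
# Pálfy's condition: characters of a group of class two over a character of the derived subgroup
-/

set_option autoImplicit false
set_option linter.style.haveILetI false
set_option linter.unusedSectionVars false

namespace CfsgLib.Palfy69

open scoped commutatorElement
open CfsgLib.Characters CfsgLib.OddOrderChar CfsgLib.CharactersDeep

universe u

variable {G : Type u} [Group G]

/-- A normal subgroup `P` whose commutators lie in a subgroup `M` central in `P`. -/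
structure ClassTwo (P M : Subgroup G) : Prop where
  normP : P.Normal
  normM : M.Normal
  le : M ≤ P
  central : ∀ m ∈ M, ∀ y ∈ P, m * y = y * m
  der : ∀ x ∈ P, ∀ y ∈ P, ⁅x, y⁆ ∈ M

variable {P M : Subgroup G}

/-- The commutator, in `M`. -/
def ClassTwo.c (h : ClassTwo P M) (x y : P) : M :=
  ⟨⁅(x : G), (y : G)⁆, h.der x x.2 y y.2⟩

theorem ClassTwo.c_mul_left (h : ClassTwo P M) (x y z : P) : h.c (x * y) z = h.c x z * h.c y z :=
  Subtype.ext (by
    show ⁅((x * y : P) : G), (z : G)⁆ = ⁅(x : G), (z : G)⁆ * ⁅(y : G), (z : G)⁆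
    rw [Subgroup.coe_mul,
      show ⁅(x : G) * y, (z : G)⁆ = (x * ⁅(y : G), (z : G)⁆ * (x : G)⁻¹) * ⁅(x : G), (z : G)⁆ by
        simp only [commutatorElement_def]; group,
      ← h.central _ (h.der y y.2 z z.2) x x.2, mul_inv_cancel_right]
    exact h.central _ (h.der y y.2 z z.2) _ (h.le (h.der x x.2 z z.2)))

theorem ClassTwo.c_inv (h : ClassTwo P M) (x y : P) : h.c y x = (h.c x y)⁻¹ :=
  Subtype.ext (commutatorElement_inv (x : G) (y : G)).symm

theorem ClassTwo.c_mul_right (h : ClassTwo P M) (x y z : P) :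
    h.c x (y * z) = h.c x y * h.c x z := by
  rw [h.c_inv (y * z) x, h.c_mul_left, mul_inv_rev, ← h.c_inv, ← h.c_inv]
  exact Subtype.ext (h.central _ (h.der x x.2 z z.2) _ (h.le (h.der x x.2 y y.2)))

theorem ClassTwo.c_of_mem (h : ClassTwo P M) {x : P} (hx : (x : G) ∈ M) (y : P) : h.c x y = 1 :=
  Subtype.ext (commutatorElement_eq_one_iff_mul_comm.2 (h.central _ hx y y.2))

/-- The radical of a linear character of `M`. -/
def ClassTwo.rad (h : ClassTwo P M) (lam : M →* ℂˣ) : Subgroup P where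
  carrier := {x | ∀ y, lam (h.c x y) = 1}
  one_mem' := fun y => by rw [h.c_of_mem (by simp) y, map_one]
  mul_mem' := fun {a b} ha hb y => by rw [h.c_mul_left, map_mul, ha, hb, one_mul]
  inv_mem' := fun {a} ha y => by
    have h1 : lam (h.c (a⁻¹ * a) y) = 1 := by rw [h.c_of_mem (by simp) y, map_one]
    rwa [h.c_mul_left, map_mul, ha, mul_one] at h1

theorem ClassTwo.mem_rad_of_mem (h : ClassTwo P M) (lam : M →* ℂˣ) {x : P} (hx : (x : G) ∈ M) :
    x ∈ h.rad lam := fun y => by rw [h.c_of_mem hx y, map_one]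

theorem ClassTwo.rad_normal (h : ClassTwo P M) (lam : M →* ℂˣ) : (h.rad lam).Normal :=
  ⟨fun x hx y => by
    rw [show y * x * y⁻¹ = (y * x * y⁻¹ * x⁻¹) * x by group]
    refine mul_mem (h.mem_rad_of_mem lam ?_) hx
    have := h.der y y.2 x x.2
    simpa [commutatorElement_def] using this⟩

/-- An extension to the radical. -/
def ClassTwo.IsExt (h : ClassTwo P M) (lam : M →* ℂˣ) (ν : h.rad lam →* ℂˣ) : Prop :=
  ∀ m : M, ν ⟨⟨m, h.le m.2⟩, h.mem_rad_of_mem lam m.2⟩ = lam m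

theorem ClassTwo.exists_ext (h : ClassTwo P M) (lam : M →* ℂˣ) : ∃ ν, h.IsExt lam ν := by
  let f : M →* Abelianization (h.rad lam) := Abelianization.of.comp
    { toFun := fun m => ⟨⟨m, h.le m.2⟩, h.mem_rad_of_mem lam m.2⟩
      map_one' := rfl
      map_mul' := fun _ _ => rfl }
  let K₀ : Subgroup (h.rad lam) :=
    { carrier := {x | ∃ hx : ((x : P) : G) ∈ M, lam ⟨_, hx⟩ = 1}
      one_mem' := ⟨one_mem _, map_one lam⟩
      mul_mem' := by
        rintro a b ⟨ha, ha'⟩ ⟨hb, hb'⟩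
        refine ⟨mul_mem ha hb, ?_⟩
        show lam (⟨_, ha⟩ * ⟨_, hb⟩) = 1
        rw [map_mul, ha', hb', one_mul]
      inv_mem' := by
        rintro a ⟨ha, ha'⟩
        refine ⟨inv_mem ha, ?_⟩
        show lam (⟨_, ha⟩ : M)⁻¹ = 1
        rw [map_inv, ha', inv_one] }
  have hker : f.ker ≤ lam.ker := by
    intro m hm
    have h1 : (⟨⟨m, h.le m.2⟩, h.mem_rad_of_mem lam m.2⟩ : h.rad lam) ∈
        commutator (h.rad lam) := by
      rw [← Abelianization.ker_of]
      exact hm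
    have hle : commutator (h.rad lam) ≤ K₀ := by
      rw [commutator_def, Subgroup.commutator_le]
      exact fun a _ b _ => ⟨h.der _ (a : P).2 _ (b : P).2, a.2 b⟩
    obtain ⟨_, h2⟩ := hle h1
    exact h2
  obtain ⟨η, hη⟩ := SchurTheory.exists_extend_units f.range
    ((QuotientGroup.lift f.ker lam hker).comp (QuotientGroup.quotientKerEquivRange f).symm.toMonoidHom)
  refine ⟨η.comp Abelianization.of, fun m => ?_⟩
  have h2 := hη (QuotientGroup.quotientKerEquivRange f (QuotientGroup.mk m))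
  rw [MonoidHom.comp_apply, MulEquiv.coe_toMonoidHom, MulEquiv.symm_apply_apply] at h2
  exact h2

variable [Fintype G]

/-- The only character over an extension. -/
theorem ClassTwo.over (h : ClassTwo P M) (lam : M →* ℂˣ) {ν : h.rad lam →* ℂˣ}
    (hν : h.IsExt lam ν) {θ : P → ℂ} (hθ : Cfsg.IsIrrCharacter P θ) [Fintype P]
    [Fintype (h.rad lam)]
    (hne : Cfsg.classInner (fun x : h.rad lam => θ x) (fun x => (ν x : ℂ)) ≠ 0) :
    (∀ x : h.rad lam, θ x = θ 1 * (ν x : ℂ)) ∧ (∀ g : P, g ∉ h.rad lam → θ g = 0) ∧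
      ∀ m : M, θ ⟨m, h.le m.2⟩ = θ 1 * (lam m : ℂ) := by
  classical
  haveI := h.rad_normal lam
  have hinv : ∀ y : P, conjBy (h.rad lam) (fun x => (ν x : ℂ)) y = fun x => (ν x : ℂ) := by
    intro y
    funext x
    rw [conjBy_apply]
    let xm : M := h.c y x
    have e : (⟨y * x * y⁻¹, (h.rad_normal lam).conj_mem x x.2 y⟩ : h.rad lam) =
        ⟨⟨xm, h.le xm.2⟩, h.mem_rad_of_mem lam xm.2⟩ * x := by
      refine Subtype.ext (Subtype.ext ?_)
      show ((y : G) * (x : P) * (y : G)⁻¹) = ⁅(y : G), ((x : P) : G)⁆ * (x : P)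
      simp only [commutatorElement_def]; group
    show ((ν _ : ℂˣ) : ℂ) = _
    rw [e, map_mul, hν, show lam xm = 1 by
      show lam (h.c y x) = 1
      rw [h.c_inv, map_inv, x.2 y, inv_one], one_mul]
  obtain ⟨e, he0, he, -⟩ := Clifford.restrict_eq_smul (h.rad lam) hθ (isIrr_linChar ν) hinv hne
  have he1 : θ 1 = e := by simpa using congrFun he 1
  have hX : ∀ x : h.rad lam, θ x = θ 1 * (ν x : ℂ) := fun x => by
    rw [he1]; exact congrFun he x
  have hM : ∀ m : M, θ ⟨m, h.le m.2⟩ = θ 1 * (lam m : ℂ) := fun m => by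
    rw [← hν m]
    exact hX ⟨⟨m, h.le m.2⟩, h.mem_rad_of_mem lam m.2⟩
  refine ⟨hX, fun g hg => ?_, hM⟩
  obtain ⟨y, hy⟩ : ∃ y, lam (h.c g y) ≠ 1 := by
    by_contra hall
    push Not at hall
    exact hg hall
  obtain ⟨n, ρ, hρ, hρθ⟩ := id hθ
  set m := h.c y g with hm
  set mP : P := ⟨m, h.le m.2⟩ with hmP
  have hnorm : ‖ρ.character mP‖ = (Module.finrank ℂ (Fin n → ℂ) : ℝ) := by
    have h1 : θ 1 = (Module.finrank ℂ (Fin n → ℂ) : ℂ) := by
      rw [← hρθ, Representation.char_one]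
    rw [hρθ, hM m, norm_mul, h1, Complex.norm_natCast]
    have h2 : (lam m : ℂ) ^ orderOf m = 1 := by
      rw [← Units.val_pow_eq_pow_val, ← map_pow, pow_orderOf_eq_one, map_one, Units.val_one]
    rw [Complex.norm_eq_one_of_pow_eq_one h2 (orderOf_pos m).ne', mul_one]
  obtain ⟨ω, hω, hω'⟩ := exists_scalar_of_norm_char_eq ρ mP hnorm
  have hωl : ω = (lam m : ℂ) := by
    have h1 : θ 1 = (Module.finrank ℂ (Fin n → ℂ) : ℂ) := by
      rw [← hρθ, Representation.char_one]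
    rw [hρθ, hM m, h1, mul_comm ω] at hω'
    exact (mul_left_cancel₀ (fun h0 => irr_one_ne_zero hθ (by rw [h1, h0])) hω').symm
  have h3 : θ (mP * g) = (lam m : ℂ) * θ g := by
    rw [← hρθ]
    show LinearMap.trace ℂ _ (ρ (mP * g)) = _
    rw [map_mul, hω, hωl,
      show (((lam m : ℂ) • LinearMap.id : Module.End ℂ (Fin n → ℂ)) * ρ g) = (lam m : ℂ) • ρ g by
        ext x; simp, map_smul, smul_eq_mul]
    rfl
  have h4 : mP * g = y * g * y⁻¹ := Subtype.ext (by
    show ⁅(y : G), (g : G)⁆ * g = (y : G) * g * (y : G)⁻¹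
    simp only [commutatorElement_def]; group)
  rw [h4, isClassFunction_of_isIrr hθ] at h3
  by_contra h0
  refine hy ?_
  have h5 : lam m = 1 := Units.ext (mul_right_cancel₀ h0 (h3.symm.trans (one_mul _).symm))
  rw [hm, h.c_inv, map_inv, inv_eq_one] at h5
  exact h5

/-- Two characters over one extension are equal. -/
theorem ClassTwo.over_unique (h : ClassTwo P M) (lam : M →* ℂˣ) {ν : h.rad lam →* ℂˣ}
    (hν : h.IsExt lam ν) [Fintype P] [Fintype (h.rad lam)] {θ θ' : P → ℂ}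
    (hθ : Cfsg.IsIrrCharacter P θ) (hθ' : Cfsg.IsIrrCharacter P θ')
    (hne : Cfsg.classInner (fun x : h.rad lam => θ x) (fun x => (ν x : ℂ)) ≠ 0)
    (hne' : Cfsg.classInner (fun x : h.rad lam => θ' x) (fun x => (ν x : ℂ)) ≠ 0) : θ' = θ := by
  obtain ⟨h1, h2, -⟩ := h.over lam hν hθ hne
  obtain ⟨h1', h2', -⟩ := h.over lam hν hθ' hne'
  have hθ0 := irr_one_ne_zero hθ
  have heq : θ' = (θ' 1 / θ 1) • θ := by
    funext g
    rw [Pi.smul_apply, smul_eq_mul]
    by_cases hg : g ∈ h.rad lam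
    · rw [h1' ⟨g, hg⟩, h1 ⟨g, hg⟩, ← mul_assoc, div_mul_cancel₀ _ hθ0]
    · rw [h2' g hg, h2 g hg, mul_zero]
  by_contra hd
  have h0 := classInner_isIrr_ne hθ' hθ hd
  rw [heq, classInner_smul_left, classInner_isIrr_self hθ, mul_one] at h0
  exact irr_one_ne_zero hθ' ((div_eq_zero_iff.1 h0).resolve_right hθ0)

theorem ClassTwo.cj_rad [hPn : P.Normal] (h : ClassTwo P M) {lam : M →* ℂˣ} {g : G}
    (hg : ∀ m : M, lam ⟨g * m * g⁻¹, h.normM.conj_mem m m.2 g⟩ = lam m) {x : P}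
    (hx : x ∈ h.rad lam) : Dual.cjP P g x ∈ h.rad lam := by
  intro y
  have e : h.c (Dual.cjP P g x) y = ⟨g * h.c x (Dual.cjP P g⁻¹ y) * g⁻¹,
      h.normM.conj_mem _ (h.c x (Dual.cjP P g⁻¹ y)).2 g⟩ := Subtype.ext (by
    show ⁅g * (x : G) * g⁻¹, (y : G)⁆ = g * ⁅(x : G), g⁻¹ * (y : G) * g⁻¹⁻¹⁆ * g⁻¹
    simp only [commutatorElement_def]; group)
  rw [e, hg, hx]

/-- Conjugation on the radical. -/
def ClassTwo.cjX [hPn : P.Normal] (h : ClassTwo P M) {lam : M →* ℂˣ} (g : G)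
    (hg : ∀ m : M, lam ⟨g * m * g⁻¹, h.normM.conj_mem m m.2 g⟩ = lam m) :
    h.rad lam →* h.rad lam where
  toFun x := ⟨Dual.cjP P g x, h.cj_rad hg x.2⟩
  map_one' := Subtype.ext (map_one (Dual.cjHom P g))
  map_mul' a b := Subtype.ext (map_mul (Dual.cjHom P g) (a : P) (b : P))

/-- Invariance of the character over an extension is invariance of the extension. -/
theorem ClassTwo.conj_eq_iff [hPn : P.Normal] [Fintype P] (h : ClassTwo P M) (lam : M →* ℂˣ)
    [Fintype (h.rad lam)]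
    {ν : h.rad lam →* ℂˣ} (hν : h.IsExt lam ν) {θ : P → ℂ} (hθ : Cfsg.IsIrrCharacter P θ)
    (hne : Cfsg.classInner (fun x : h.rad lam => θ x) (fun x => (ν x : ℂ)) ≠ 0) {g : G}
    (hg : ∀ m : M, lam ⟨g * m * g⁻¹, h.normM.conj_mem m m.2 g⟩ = lam m) :
    conjBy P θ g = θ ↔ ν.comp (h.cjX g hg) = ν := by
  obtain ⟨h1, -, -⟩ := h.over lam hν hθ hne
  have hθ0 := irr_one_ne_zero hθ
  constructor
  · intro he
    refine MonoidHom.ext fun x => Units.ext (mul_left_cancel₀ hθ0 ?_)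
    show θ 1 * (ν ⟨Dual.cjP P g x, h.cj_rad hg x.2⟩ : ℂ) = θ 1 * (ν x : ℂ)
    rw [← h1, ← h1]
    exact congrFun he (x : P)
  · intro he
    refine h.over_unique lam hν hθ (CfsgLib.OddOrderChar.isIrr_conjBy P hθ g) hne ?_
    have e : (fun x : h.rad lam => conjBy P θ g x) = θ 1 • fun x => (ν x : ℂ) := by
      funext x
      show θ (Dual.cjP P g x) = θ 1 * (ν x : ℂ)
      rw [h1 ⟨Dual.cjP P g x, h.cj_rad hg x.2⟩]
      exact congrArg (fun t : ℂˣ => θ 1 * (t : ℂ)) (DFunLike.congr_fun he x)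
    rw [e, classInner_smul_left, classInner_isIrr_self (isIrr_linChar ν), mul_one]
    exact hθ0

/-- A coprime group fixing `lam` fixes an extension. -/
theorem ClassTwo.exists_fixed_ext [hPn : P.Normal] (h : ClassTwo P M) {p : ℕ} [Fact p.Prime]
    (hP : IsPGroup p P) (lam : M →* ℂˣ) (S : Subgroup G) (hcop : (Nat.card S).Coprime p)
    (hS : ∀ g ∈ S, ∀ m : M, lam ⟨g * m * g⁻¹, h.normM.conj_mem m m.2 g⟩ = lam m) :
    ∃ ν, h.IsExt lam ν ∧ ∀ g (hg : g ∈ S), ν.comp (h.cjX g (hS g hg)) = ν := by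
  classical
  obtain ⟨ν, hν⟩ := h.exists_ext lam
  letI : Fintype S := Fintype.ofFinite S
  obtain ⟨n, hn⟩ := IsPGroup.iff_card.1 hP
  have hpow : ∀ (f : h.rad lam →* ℂˣ) (x : h.rad lam), f x ^ p ^ n = 1 := fun f x => by
    rw [← map_pow]
    have : x ^ p ^ n = 1 := Subtype.ext (by
      show (x : P) ^ p ^ n = 1
      rw [← hn, pow_card_eq_one'])
    rw [this, map_one]
  let act : S → (h.rad lam →* ℂˣ) → (h.rad lam →* ℂˣ) := fun g f => f.comp (h.cjX g (hS g g.2))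
  let c : S → (h.rad lam →* ℂˣ) := fun g => act g ν / ν
  let μ : h.rad lam →* ℂˣ := ∏ g : S, c g
  set N := Fintype.card S with hN
  have hact : ∀ (g g' : S) (f : h.rad lam →* ℂˣ), act g (act g' f) = act (g' * g) f :=
    fun g g' f => MonoidHom.ext fun x => congrArg f (Subtype.ext (Dual.cjP_mul P g' g x).symm)
  have hμ : ∀ g : S, act g μ = μ * (c g)⁻¹ ^ N := by
    intro g
    have h1 : act g μ = ∏ g' : S, act g (c g') := MonoidHom.ext fun x => by
      show μ _ = _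
      simp only [μ, MonoidHom.finsetProd_apply]
      rfl
    have h2 : ∀ g' : S, act g (c g') = c (g' * g) * (c g)⁻¹ := fun g' => MonoidHom.ext fun x => by
      show (act g (act g' ν)) x / (act g ν) x = act (g' * g) ν x / ν x * (act g ν x / ν x)⁻¹
      rw [hact, inv_div]
      exact (div_mul_div_cancel _ _ _).symm
    rw [h1, Finset.prod_congr rfl fun g' _ => h2 g', Finset.prod_mul_distrib, Finset.prod_const,
      Finset.card_univ]
    congr 1
    exact Fintype.prod_equiv (Equiv.mulRight g) _ _ fun g' => rfl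
  have hcopN : Nat.Coprime N (p ^ n) := by
    rw [hN, ← Nat.card_eq_fintype_card]
    exact hcop.pow_right n
  obtain ⟨k, hk⟩ : ∃ k : ℕ, ∀ (f : h.rad lam →* ℂˣ), (f ^ N) ^ k = f :=
    ⟨(Nat.gcdA N (p ^ n) % (p ^ n : ℕ)).toNat, fun f => MonoidHom.ext fun x => by
      set k := (Nat.gcdA N (p ^ n) % (p ^ n : ℕ)).toNat with hk
      have hq0 : ((p ^ n : ℕ) : ℤ) ≠ 0 := by
        exact_mod_cast (Nat.pow_pos (Fact.out : p.Prime).pos).ne'
      have hb : (N : ℤ) * Nat.gcdA N (p ^ n) + ((p ^ n : ℕ) : ℤ) * Nat.gcdB N (p ^ n) = 1 := by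
        rw [← Nat.gcd_eq_gcd_ab, hcopN.gcd_eq_one, Nat.cast_one]
      obtain ⟨t, ht⟩ : ((p ^ n : ℕ) : ℤ) ∣ (N : ℤ) * k - 1 := by
        rw [hk, Int.toNat_of_nonneg (Int.emod_nonneg _ hq0), Int.emod_def]
        exact ⟨-((N : ℤ) * (Nat.gcdA N (p ^ n) / (p ^ n : ℕ))) - Nat.gcdB N (p ^ n),
          by linear_combination hb⟩
      show (f x ^ N) ^ k = f x
      rw [← pow_mul, ← zpow_natCast,
        show ((N * k : ℕ) : ℤ) = 1 + ((p ^ n : ℕ) : ℤ) * t by push_cast at ht ⊢; linarith,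
        zpow_add, zpow_one, zpow_mul, zpow_natCast, hpow, one_zpow, mul_one]⟩
  refine ⟨ν * μ ^ k, fun m => ?_, fun g hg => MonoidHom.ext fun x => ?_⟩
  · rw [MonoidHom.mul_apply, MonoidHom.pow_apply, hν m]
    have hc1 : ∀ g : S, c g ⟨⟨m, h.le m.2⟩, h.mem_rad_of_mem lam m.2⟩ = 1 := fun g => by
      show ν _ / ν _ = 1
      rw [div_eq_one]
      exact (hν ⟨(g : G) * m * (g : G)⁻¹, h.normM.conj_mem m m.2 g⟩).trans
        ((hS g g.2 m).trans (hν m).symm)
    rw [show μ ⟨⟨m, h.le m.2⟩, h.mem_rad_of_mem lam m.2⟩ = 1 by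
      simp only [μ, MonoidHom.finsetProd_apply]
      exact Finset.prod_eq_one fun g _ => hc1 g, one_pow, mul_one]
  · let g' : S := ⟨g, hg⟩
    show ν (h.cjX g (hS g hg) x) * (μ (h.cjX g (hS g hg) x)) ^ k = ν x * μ x ^ k
    have e1 : μ (h.cjX g (hS g hg) x) = μ x * ((c g' x)⁻¹) ^ N := DFunLike.congr_fun (hμ g') x
    have e2 : (((c g' x)⁻¹) ^ N) ^ k = (c g' x)⁻¹ := DFunLike.congr_fun (hk (c g')⁻¹) x
    rw [e1, mul_pow, e2, show c g' x = ν (h.cjX g (hS g hg) x) / ν x from rfl, inv_div]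
    rw [mul_comm (μ x ^ k), ← mul_assoc, mul_div_cancel]

end CfsgLib.Palfy69
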