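import Cfsg.Agent.Palfy69.Lemma

/-!
# Pálfy's condition: the main lemma for unfaithful actions
-/

set_option autoImplicit false
set_option linter.style.haveILetI false
set_option linter.unusedSectionVars false

namespace CfsgLib.Palfy69

open CfsgLib.Characters

/-- The main lemma without faithfulness. -/
theorem false_of_two_uniq {K : Type*} [Group K] [Finite K] [Group.IsSolvable K] {V : Type*}
    [AddCommGroup V] [DistribMulAction K V] [Finite V] {s q r : ℕ} [hq : Fact q.Prime]
    [hr : Fact r.Prime] (hs : s.Prime) (hexp : ∀ v : V, s • v = 0) (hnz : ∃ v : V, v ≠ 0)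
    (hirr : ∀ W : AddSubgroup V, (∀ (k : K) (v : V), v ∈ W → k • v ∈ W) → W = ⊥ ∨ W = ⊤)
    (hne : q ≠ r) (huq : UniqSylow q K V) (hur : UniqSylow r K V)
    (hmq : ∃ (Q : Sylow q K), ∃ g ∈ (Q : Subgroup K), ∃ v : V, g • v ≠ v)
    (hmr : ∃ (R : Sylow r K), ∃ g ∈ (R : Subgroup K), ∃ v : V, g • v ≠ v)
    (hsep : ∀ (χ : K → ℂ) (d : ℕ), Cfsg.IsIrrCharacter K χ → χ 1 = d → q ∣ d → r ∣ d → False) :
    False := by
  classical
  set N := (MulAction.toPermHom K V).ker with hN
  have hNmem : ∀ k : K, k ∈ N ↔ ∀ v : V, k • v = v := fun k => by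
    rw [hN, MonoidHom.mem_ker, Equiv.Perm.ext_iff]
    rfl
  let φ : K ⧸ N →* Equiv.Perm V := QuotientGroup.lift N (MulAction.toPermHom K V) le_rfl
  letI : DistribMulAction (K ⧸ N) V :=
    { smul := fun k v => φ k v
      one_smul := fun v => by show φ 1 v = v; rw [map_one]; rfl
      mul_smul := fun a b v => by show φ (a * b) v = φ a (φ b v); rw [map_mul]; rfl
      smul_zero := fun a => by
        induction a using QuotientGroup.induction_on with | H a => ?_
        exact smul_zero a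
      smul_add := fun a v w => by
        induction a using QuotientGroup.induction_on with | H a => ?_
        exact smul_add a v w }
  have hsmul : ∀ (k : K) (v : V), (k : K ⧸ N) • v = k • v := fun _ _ => rfl
  have hsurj : Function.Surjective (QuotientGroup.mk' N) := QuotientGroup.mk'_surjective N
  have huniq : ∀ {w : ℕ} [Fact w.Prime], UniqSylow w K V → UniqSylow w (K ⧸ N) V := by
    intro w hw hu v hv
    obtain ⟨Q, hQ, hQu⟩ := hu v hv
    refine ⟨Q.mapSurjective hsurj, ?_, fun Q' hQ' => ?_⟩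
    · show ((Q.mapSurjective hsurj : Sylow w (K ⧸ N)) : Subgroup (K ⧸ N)) ≤ _
      rw [Sylow.coe_mapSurjective]
      rintro _ ⟨x, hx, rfl⟩
      exact (hsmul x v).trans (hQ hx)
    · obtain ⟨Q₁, rfl⟩ := Sylow.mapSurjective_surjective hsurj w Q'
      rw [hQu Q₁ fun x hx => (hsmul x v).symm.trans (hQ' (by
        rw [Sylow.coe_mapSurjective]; exact ⟨x, hx, rfl⟩))]
  have hdvd : ∀ {w : ℕ} [Fact w.Prime], (∃ (Q : Sylow w K), ∃ g ∈ (Q : Subgroup K), ∃ v : V,
      g • v ≠ v) → w ∣ Nat.card (K ⧸ N) := by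
    intro w hw hm
    obtain ⟨Q, g, hg, v, hv⟩ := hm
    obtain ⟨m, hm⟩ := Q.isPGroup' ⟨g, hg⟩
    have h1 : orderOf (QuotientGroup.mk' N g) ∣ w ^ m :=
      (orderOf_map_dvd _ g).trans (orderOf_dvd_of_pow_eq_one (congrArg Subtype.val hm))
    obtain ⟨j, -, hj⟩ := (Nat.dvd_prime_pow hw.out).1 h1
    rcases j with _ | j
    · rw [pow_zero, orderOf_eq_one_iff] at hj
      exact absurd ((hNmem g).1 ((QuotientGroup.eq_one_iff g).1 hj) v) hv
    · exact ((dvd_pow_self w j.succ_ne_zero).trans (dvd_of_eq hj.symm)).trans (orderOf_dvd_natCard _)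
  haveI := Fintype.ofFinite K
  haveI := Fintype.ofFinite (K ⧸ N)
  refine Hyp.false (K := K ⧸ N) (V := V) (s := s) (q := q) (r := r)
    ⟨hs, hexp, hnz, fun k hk => ?_, fun W hW => hirr W fun k v hv => hsmul k v ▸ hW k v hv,
      hq.out, hr.out, hne, hdvd hmq, hdvd hmr, huniq huq, huniq hur, fun χ d hχ hd h1 h2 => ?_⟩
  · induction k using QuotientGroup.induction_on with | H k => ?_
    exact (QuotientGroup.eq_one_iff k).2 ((hNmem k).2 hk)
  · exact hsep _ d (isIrr_comp (QuotientGroup.mk' N) hsurj hχ) (by rw [map_one]; exact hd) h1 h2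

end CfsgLib.Palfy69
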