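import Cfsg.Agent.Palfy69.Dual
import Cfsg.Agent.Palfy69.Quotient

/-!
# Pálfy's condition: shared pieces of the two cases
-/

set_option autoImplicit false
set_option linter.style.haveILetI false
set_option linter.unusedSectionVars false

namespace CfsgLib.Palfy69

open CfsgLib.Characters CfsgLib.OddOrderChar CfsgLib.CharactersDeep

universe u

variable {G : Type u} [Group G]

/-- `p` divides some degree. -/
def Rho (G : Type u) [Group G] (p : ℕ) : Prop := ∃ d ∈ Cfsg.charDegrees G, p ∣ d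

/-- No degree is divisible by both `a` and `b`. -/
def Sep (G : Type u) [Group G] (a b : ℕ) : Prop :=
  ∀ d ∈ Cfsg.charDegrees G, a ∣ d → b ∣ d → False

theorem Sep.symm {a b : ℕ} (h : Sep G a b) : Sep G b a := fun d hd h1 h2 => h d hd h2 h1

/-- `v` is fixed by exactly one Sylow `q`-subgroup of `H`, an abelian one. -/
def GoodAt {V : Type*} [AddCommGroup V] [DistribMulAction G V] (q : ℕ) (H : Subgroup G) (v : V) :
    Prop :=
  ∃ Q : Sylow q H, (Q : Subgroup H) ≤ MulAction.stabilizer H v ∧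
    (∀ a ∈ (Q : Subgroup H), ∀ b ∈ (Q : Subgroup H), a * b = b * a) ∧
    ∀ Q' : Sylow q H, (Q' : Subgroup H) ≤ MulAction.stabilizer H v → Q' = Q

theorem GoodAt.existsUnique {V : Type*} [AddCommGroup V] [DistribMulAction G V] {q : ℕ}
    {H : Subgroup G} {v : V} (h : GoodAt q H v) :
    ∃! Q : Sylow q H, (Q : Subgroup H) ≤ MulAction.stabilizer H v := by
  obtain ⟨Q, h1, -, h2⟩ := h
  exact ⟨Q, h1, h2⟩

variable [Fintype G]

/-- A normal Sylow subgroup lies in every subgroup of index prime to it. -/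
theorem normal_sylow_le {K : Type*} [Group K] [Finite K] {q : ℕ} [Fact q.Prime] (Q : Sylow q K)
    (hQ : (Q : Subgroup K).Normal) (S : Subgroup K) (hS : ¬ q ∣ S.index) : (Q : Subgroup K) ≤ S := by
  obtain ⟨Q₀⟩ := (inferInstance : Nonempty (Sylow q S))
  let Q₁ : Sylow q K := (Q₀.isPGroup'.map S.subtype).toSylow (by
    rw [Subgroup.index_map, Subgroup.ker_subtype, sup_bot_eq, Subgroup.range_subtype]
    exact fun h => ((Fact.out : q.Prime).dvd_mul.1 h).elim Q₀.not_dvd_index hS)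
  haveI : Unique (Sylow q K) := Sylow.unique_of_normal Q hQ
  rw [Subsingleton.elim Q Q₁]
  exact Subgroup.map_subtype_le _

/-- A uniquely stabilised prime fixing everything has a normal abelian Sylow subgroup in `H`. -/
theorem normal_of_all_fixed {V : Type*} [AddCommGroup V] [DistribMulAction G V] {q : ℕ}
    [Fact q.Prime] {H : Subgroup G} (hnz : ∃ v : V, v ≠ 0)
    (hgood : ∀ v : V, v ≠ 0 → GoodAt q H v)
    (hfix : ∀ (Q : Sylow q H), ∀ g ∈ (Q : Subgroup H), ∀ v : V, g • v = v) :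
    ∃ Q : Sylow q H, (Q : Subgroup H).Normal ∧
      ∀ a ∈ (Q : Subgroup H), ∀ b ∈ (Q : Subgroup H), a * b = b * a := by
  obtain ⟨v, hv⟩ := hnz
  obtain ⟨Q, -, hc, hu⟩ := hgood v hv
  have hsub : ∀ Q' : Sylow q H, Q' = Q := fun Q' => hu Q' fun g hg => hfix Q' g hg v
  haveI : Subsingleton (Sylow q H) := ⟨fun a b => (hsub a).trans (hsub b).symm⟩
  exact ⟨Q, Q.normal_of_subsingleton, hc⟩

/-- Degree of a complement. -/
theorem sep_complement {M H : Subgroup G} [M.Normal] (hinf : M ⊓ H = ⊥) (hsup : M ⊔ H = ⊤)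
    {a b : ℕ} (h : Sep G a b) (χ : H → ℂ) (d : ℕ) (hχ : Cfsg.IsIrrCharacter H χ)
    (hd : χ 1 = d) (ha : a ∣ d) (hb : b ∣ d) : False := by
  have hbij : Function.Bijective ((QuotientGroup.mk' M).comp H.subtype) := by
    refine ⟨(injective_iff_map_eq_one _).2 fun x hx => ?_, fun y => ?_⟩
    · have h1 : (x : G) ∈ M ⊓ H := ⟨(QuotientGroup.eq_one_iff _).1 hx, x.2⟩
      rw [hinf, Subgroup.mem_bot] at h1
      exact Subtype.ext h1
    · induction y using QuotientGroup.induction_on with | H g => ?_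
      obtain ⟨m, hm, k, hk, rfl⟩ := exists_mul_of_sup hsup g
      refine ⟨⟨k, hk⟩, QuotientGroup.eq.2 ?_⟩
      show k⁻¹ * (m * k) ∈ M
      rw [show k⁻¹ * (m * k) = k⁻¹ * m * k⁻¹⁻¹ by group]
      exact Subgroup.Normal.conj_mem inferInstance m hm _
  let e := MulEquiv.ofBijective _ hbij
  have hirr := isIrr_comp (e.symm.toMonoidHom.comp (QuotientGroup.mk' M))
    (e.symm.surjective.comp (QuotientGroup.mk'_surjective M)) hχ
  exact h d (DegreeGraph.mem_charDegrees hirr (by rw [map_one]; exact hd)) ha hb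

/-- A normal abelian subgroup `Q` of `H` commuting with a complement kills `q`. -/
theorem not_rho_of_central {P H : Subgroup G} [P.Normal] (hsup : P ⊔ H = ⊤) {q : ℕ}
    [Fact q.Prime] (Q : Sylow q H) (hQn : (Q : Subgroup H).Normal)
    (hQc : ∀ a ∈ (Q : Subgroup H), ∀ b ∈ (Q : Subgroup H), a * b = b * a)
    (A : Subgroup G) (hA : ∀ a ∈ A, ∀ b ∈ A, a * b = b * a) (hAP : ∀ y ∈ P, ∀ a ∈ A, y * a = a * y)
    (hAH : ∀ k ∈ H, ∀ a ∈ A, k * a * k⁻¹ ∈ A)
    (hQA : ∀ g ∈ (Q : Subgroup H), ∀ a ∈ A, (g : G) * a = a * g)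
    (hQP : ∀ g ∈ (Q : Subgroup H), ∀ y ∈ P, (g : G) * y = y * g)
    (hidx : ¬ q ∣ (A ⊔ (Q : Subgroup H).map H.subtype).index) : ¬ Rho G q := by
  set B := A ⊔ (Q : Subgroup H).map H.subtype with hB
  have hgen : ∀ z ∈ B, ∀ y ∈ P, y * z = z * y := by
    have hle : B ≤ Subgroup.centralizer (P : Set G) := sup_le
      (fun a ha => Subgroup.mem_centralizer_iff.2 fun y hy => hAP y hy a ha) (by
        rintro _ ⟨g, hg, rfl⟩
        exact Subgroup.mem_centralizer_iff.2 fun y hy => (hQP g hg y hy).symm)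
    exact fun z hz y hy => Subgroup.mem_centralizer_iff.1 (hle hz) y hy
  have hH : ∀ k ∈ H, ∀ z ∈ B, k * z * k⁻¹ ∈ B := by
    intro k hk
    have hle : B ≤ B.comap (MulAut.conj k).toMonoidHom := sup_le
      (fun a ha => Subgroup.mem_sup_left (by simpa using hAH k hk a ha)) (by
        rintro _ ⟨g, hg, rfl⟩
        refine Subgroup.mem_sup_right ⟨(⟨k, hk⟩ : H) * g * (⟨k, hk⟩ : H)⁻¹, hQn.conj_mem g hg _, ?_⟩
        simp)
    exact fun z hz => by simpa using hle hz
  haveI : B.Normal := ⟨fun z hz g => by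
    obtain ⟨y, hy, k, hk, rfl⟩ := exists_mul_of_sup hsup g
    have h1 := hH k hk z hz
    rw [show y * k * z * (y * k)⁻¹ = (y * (k * z * k⁻¹)) * y⁻¹ by group, hgen _ h1 y hy,
      mul_inv_cancel_right]
    exact h1⟩
  have hBc : ∀ a ∈ B, ∀ b ∈ B, a * b = b * a := by
    have h1 : B ≤ Subgroup.centralizer (B : Set G) := by
      refine sup_le ?_ ?_ <;> refine Subgroup.le_centralizer_iff.1 (sup_le ?_ ?_)
      · exact fun a ha => Subgroup.mem_centralizer_iff.2 fun b hb => hA b hb a ha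
      · rintro _ ⟨g, hg, rfl⟩
        exact Subgroup.mem_centralizer_iff.2 fun b hb => (hQA g hg b hb).symm
      · refine fun a ha => Subgroup.mem_centralizer_iff.2 ?_
        rintro _ ⟨g, hg, rfl⟩
        exact hQA g hg a ha
      · rintro _ ⟨g, hg, rfl⟩
        refine Subgroup.mem_centralizer_iff.2 ?_
        rintro _ ⟨g', hg', rfl⟩
        exact congrArg Subtype.val (hQc g' hg' g hg)
    exact fun a ha b hb => Subgroup.mem_centralizer_iff.1 (h1 hb) a ha
  rintro ⟨d, hd, hqd⟩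
  exact not_dvd_of_abelian_normal B hBc hidx hd hqd

end CfsgLib.Palfy69
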