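import Cfsg.Agent.Palfy69.Dichotomy

/-!
# Pálfy's condition: the stabilised prime centralizes a core or is `3` acting on a `2`-core
-/

set_option autoImplicit false
set_option linter.style.haveILetI false
set_option linter.unusedSectionVars false

namespace CfsgLib.Palfy69

open scoped commutatorElement

variable {K : Type*} [Group K] [Finite K] {V : Type*} [AddCommGroup V] [DistribMulAction K V]
  [Finite V] {s q r : ℕ} {A O : Subgroup K} {u : ℕ}

/-- If a power prime to the order of `g` commutes with `x` then so does `g`. -/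
theorem commute_of_pow {g x : K} {n : ℕ} (hn : n.Coprime (orderOf g))
    (h : g ^ n * x = x * g ^ n) : g * x = x * g := by
  obtain ⟨m, hm⟩ := exists_pow_eq_self_of_coprime hn
  rw [← hm]
  exact (Commute.pow_left (h : Commute (g ^ n) x) m).eq

theorem conj_pow_mem {g x : K} (hOn : O.Normal) (hx : x ∈ O) (n : ℕ) :
    g ^ n * x * (g ^ n)⁻¹ ∈ O := hOn.conj_mem x hx _

/-- **The core lemma.** -/
theorem Hyp.core_action (h : Hyp K V s q r) (hA : MaxAb A) (hO : Core A O u) [Fact q.Prime]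
    (hz : ∀ (Q : Sylow q K), ∀ g ∈ (Q : Subgroup K), ∀ a ∈ O, a ∈ A → g * a = a * g) :
    (∀ (Q : Sylow q K), ∀ g ∈ (Q : Subgroup K), ∀ x ∈ O, g * x = x * g) ∨
      (u = 2 ∧ q = 3 ∧ TinyCentre A O) := by
  classical
  haveI := hA.normal
  haveI := hO.normal
  haveI := Fact.mk hO.prime_u
  by_cases hne : O ≤ A
  · exact Or.inl fun Q g hg x hx => hz Q g hg x hx (hne hx)
  have hcyc : IsCyclic A := (h.abelian A hA.comm).2
  have hObot : O ≠ ⊥ := fun hb => hne (hb ▸ bot_le)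
  have hus : u ≠ s := fun e => hObot (h.eq_bot_of_s O (e ▸ hO.pgroup))
  have huq : q ≠ u := fun e => hObot (h.eq_bot_of_q O (e ▸ hO.pgroup))
  obtain ⟨z, hzO, hzA, hz1, hzu, hzgen⟩ := exists_centre_gen hO hA hcyc hne
  obtain ⟨D, hD⟩ := Set.Finite.exists_maximal
    (Set.toFinite {D : Subgroup K | D ≤ O ∧ (∀ a ∈ D, ∀ b ∈ D, a * b = b * a) ∧
      (∀ a ∈ D, a ^ u = 1) ∧ z ∈ D})
    ⟨Subgroup.zpowers z, Subgroup.zpowers_le.2 hzO, (by
      rintro _ ⟨i, rfl⟩ _ ⟨j, rfl⟩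
      exact ((Commute.refl z).zpow_zpow i j).eq), (by
      rintro _ ⟨i, rfl⟩
      rw [← zpow_natCast, ← zpow_mul, mul_comm, zpow_mul, zpow_natCast, hzu, one_zpow]),
      Subgroup.mem_zpowers z⟩
  obtain ⟨⟨hDO, hDc, hDe, hzD⟩, hDmax⟩ := hD
  obtain ⟨v, hv0, hv⟩ := h.eigen hO.prime_u hus hDc hDe hzD
    ((h.abelian A hA.comm).1 z hzA hz1)
  obtain ⟨Q, hQ⟩ := (h.uq v hv0).exists
  have hQD : ∀ g ∈ (Q : Subgroup K), ∀ d ∈ D, g * d = d * g := fun g hg d hd => by
    obtain ⟨k, hk⟩ := hv d hd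
    exact eigen_commute h.uq hO.normal hO.pgroup hO.prime_u huq Q hv0 hQ
      (fun x hx => hz Q x hx z hzO hzA) (hDO hd) hk hg
  -- from one Sylow subgroup to all
  have hall : (∀ g ∈ (Q : Subgroup K), ∀ x ∈ O, g * x = x * g) →
      ∀ (R : Sylow q K), ∀ g ∈ (R : Subgroup K), ∀ x ∈ O, g * x = x * g := by
    intro hc R g hg x hx
    obtain ⟨k, rfl⟩ := MulAction.exists_smul_eq K Q R
    rw [Sylow.coe_subgroup_smul] at hg
    obtain ⟨g₀, hg₀, rfl⟩ := hg
    have h1 := hc g₀ hg₀ (k⁻¹ * x * k) (by simpa using hO.normal.conj_mem x hx k⁻¹)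
    show MulAut.conj k g₀ * x = x * MulAut.conj k g₀
    rw [MulAut.conj_apply]
    calc k * g₀ * k⁻¹ * x = k * (g₀ * (k⁻¹ * x * k)) * k⁻¹ := by group
      _ = k * ((k⁻¹ * x * k) * g₀) * k⁻¹ := by rw [h1]
      _ = x * (k * g₀ * k⁻¹) := by group
  have hpow : ∀ g ∈ (Q : Subgroup K), ∃ m, g ^ q ^ m = 1 := fun g hg => by
    obtain ⟨m, hm⟩ := Q.isPGroup' ⟨g, hg⟩
    exact ⟨m, congrArg Subtype.val hm⟩
  have hOpow : ∀ x ∈ O, ∃ m, x ^ u ^ m = 1 := fun x hx => by
    obtain ⟨m, hm⟩ := hO.pgroup ⟨x, hx⟩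
    exact ⟨m, congrArg Subtype.val hm⟩
  have hchain : ∀ g ∈ (Q : Subgroup K), ∀ x ∈ O, ∀ c ∈ O, g * c = c * g →
      g * x * g⁻¹ = x * c → g * x = x * g := fun g hg x _ c hc hgc hgx =>
    comm_of_chain h.prime_q hO.prime_u huq (hpow g hg) (hOpow c hc) hgc hgx
  have hcomO : ∀ x ∈ O, ∀ y ∈ O, ⁅x, y⁆ ∈ O := fun x hx y hy =>
    mul_mem (mul_mem (mul_mem hx hy) (inv_mem hx)) (inv_mem hy)
  have hTstep : ∀ g ∈ (Q : Subgroup K), ∀ x ∈ O, ∀ d ∈ D,
      x⁻¹ * (g * x * g⁻¹) * d = d * (x⁻¹ * (g * x * g⁻¹)) := by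
    intro g hg x hx d hd
    have hy : g * x * g⁻¹ ∈ O := hO.normal.conj_mem x hx g
    have hgd : g * d * g⁻¹ = d := by rw [hQD g hg d hd, mul_inv_cancel_right]
    have h1 : ⁅g * x * g⁻¹, d⁆ = ⁅x, d⁆ := by
      calc ⁅g * x * g⁻¹, d⁆ = ⁅g * x * g⁻¹, g * d * g⁻¹⁆ := by rw [hgd]
        _ = g * ⁅x, d⁆ * g⁻¹ := by simp only [commutatorElement_def]; group
        _ = ⁅x, d⁆ := by
          rw [hz Q g hg _ (hcomO x hx d (hDO hd)) (hO.comm_mem hA hx (hDO hd)),
            mul_inv_cancel_right]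
    have h2 : ⁅x⁻¹, d⁆ * ⁅x, d⁆ = 1 := by
      rw [← hO.comm_mul_left hA (inv_mem hx) hx (hDO hd), inv_mul_cancel,
        commutatorElement_one_left]
    rw [← commutatorElement_eq_one_iff_mul_comm,
      hO.comm_mul_left hA (inv_mem hx) hy (hDO hd), h1, h2]
  -- it is enough to centralize `T = C_O(D)`
  have hfromT : (∀ g ∈ (Q : Subgroup K), ∀ t ∈ O, (∀ d ∈ D, t * d = d * t) → g * t = t * g) →
      ∀ (R : Sylow q K), ∀ g ∈ (R : Subgroup K), ∀ x ∈ O, g * x = x * g := by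
    intro hT
    refine hall fun g hg x hx => ?_
    have hc : x⁻¹ * (g * x * g⁻¹) ∈ O := mul_mem (inv_mem hx) (hO.normal.conj_mem x hx g)
    exact hchain g hg x hx _ hc (hT g hg _ hc (hTstep g hg x hx)) (by group)
  -- elements of order `u` in `T` lie in `D`
  have hext : ∀ t ∈ O, (∀ d ∈ D, t * d = d * t) → t ^ u = 1 → t ∈ D := by
    intro t ht htd htu
    let D' := D ⊔ Subgroup.zpowers t
    have hDD' : D ≤ Subgroup.centralizer (D' : Set K) := Subgroup.le_centralizer_iff.1 (sup_le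
      (fun a ha => Subgroup.mem_centralizer_iff.2 fun b hb => hDc b hb a ha)
      (Subgroup.zpowers_le.2 (Subgroup.mem_centralizer_iff.2 fun b hb => (htd b hb).symm)))
    have htD' : Subgroup.zpowers t ≤ Subgroup.centralizer (D' : Set K) :=
      Subgroup.le_centralizer_iff.1 (sup_le
        (fun a ha => Subgroup.mem_centralizer_iff.2 fun b hb => by
          obtain ⟨i, rfl⟩ := hb
          exact (Commute.zpow_left (htd a ha : Commute t a) i).eq)
        (fun a ha => Subgroup.mem_centralizer_iff.2 fun b hb => by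
          obtain ⟨i, rfl⟩ := hb
          obtain ⟨j, rfl⟩ := ha
          exact ((Commute.refl t).zpow_zpow i j).eq))
    have hcomm : ∀ a ∈ D', ∀ b ∈ D', a * b = b * a := fun a ha b hb =>
      Subgroup.mem_centralizer_iff.1 (sup_le hDD' htD' hb) a ha
    let P : Subgroup K :=
      { carrier := {a | a ∈ D' ∧ a ^ u = 1}
        one_mem' := ⟨one_mem _, one_pow _⟩
        mul_mem' := fun {a b} ha hb => ⟨mul_mem ha.1 hb.1, by
          rw [Commute.mul_pow (hcomm a ha.1 b hb.1), ha.2, hb.2, one_mul]⟩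
        inv_mem' := fun {a} ha => ⟨inv_mem ha.1, by rw [inv_pow, ha.2, inv_one]⟩ }
    have hP : D' ≤ P := sup_le (fun a ha => ⟨Subgroup.mem_sup_left ha, hDe a ha⟩)
      (Subgroup.zpowers_le.2 ⟨Subgroup.mem_sup_right (Subgroup.mem_zpowers t), htu⟩)
    exact hDmax ⟨sup_le hDO (Subgroup.zpowers_le.2 ht), hcomm, fun a ha => (hP ha).2,
      Subgroup.mem_sup_left hzD⟩ le_sup_left (Subgroup.mem_sup_right (Subgroup.mem_zpowers t))
  rcases exists_good hO hA hcyc hA.comm hne with hgood | ⟨h2, htiny⟩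
  · refine Or.inl (hfromT fun g hg t ht htd => ?_)
    obtain ⟨a, haO, haA, hta⟩ := hgood t ht
    have hta' : t * a ∈ D := hext _ (mul_mem ht haO) (fun d hd => by
      rw [mul_assoc, ← hO.cent d (hDO hd) a haA, ← mul_assoc, htd d hd, mul_assoc]) hta
    have h1 := hQD g hg _ hta'
    have h2 := hz Q g hg a haO haA
    calc g * t = g * (t * a) * a⁻¹ := by group
      _ = t * a * g * a⁻¹ := by rw [h1]
      _ = t * (a * g) * a⁻¹ := by group
      _ = t * (g * a) * a⁻¹ := by rw [h2]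
      _ = t * g := by group
  obtain ⟨z', -, -, -, hz'⟩ := id htiny
  subst h2
  by_cases hTall : ∀ g ∈ (Q : Subgroup K), ∀ t ∈ O, (∀ d ∈ D, t * d = d * t) → g * t = t * g
  · exact Or.inl (hfromT hTall)
  refine Or.inr ⟨rfl, ?_, htiny⟩
  push Not at hTall
  obtain ⟨g, hg, x, hx, hxd, hgx⟩ := hTall
  have hzz : z' = z := ((hz' z hzO hzA).resolve_left hz1).symm
  subst hzz
  have hD2 : ∀ a ∈ O, a ∈ A → a ∈ D := fun a h1 h2 => by
    rcases hz' a h1 h2 with rfl | rfl
    · exact one_mem _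
    · exact hzD
  have hsq : ∀ a ∈ O, a * a ∈ D := fun a ha => hD2 _ (mul_mem ha ha) (by
    rw [← pow_two]; exact hO.pow_mem hA ha)
  have hsq' : ∀ a ∈ O, (∀ d ∈ D, a * d = d * a) → a ∉ D → a * a = z' := fun a ha had haD => by
    rcases hz' (a * a) (mul_mem ha ha) (by rw [← pow_two]; exact hO.pow_mem hA ha) with h1 | h1
    · exact absurd (hext a ha had (by rw [pow_two]; exact h1)) haD
    · exact h1
  have hcom : ∀ a ∈ O, ∀ b ∈ O, (∀ d ∈ D, a * d = d * a) → (∀ d ∈ D, b * d = d * b) →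
      a ∉ D → b ∉ D → a * b ∉ D → ⁅a, b⁆ = z' := by
    intro a ha b hb had hbd haD hbD habD
    rcases hz' _ (hcomO a ha b hb) (hO.comm_mem hA ha hb) with h1 | h1
    · exfalso
      have hc : a * b = b * a := commutatorElement_eq_one_iff_mul_comm.1 h1
      refine habD (hext _ (mul_mem ha hb) (fun d hd => by
        rw [mul_assoc, hbd d hd, ← mul_assoc, had d hd, mul_assoc]) ?_)
      rw [pow_two, show a * b * (a * b) = a * (b * a) * b by group, ← hc,
        show a * (a * b) * b = (a * a) * (b * b) by group, hsq' a ha had haD, hsq' b hb hbd hbD,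
        ← pow_two, hzu]
    · exact h1
  have hxD : x ∉ D := fun hm => hgx (hQD g hg x hm)
  set y := g * x * g⁻¹ with hy
  have hyO : y ∈ O := hO.normal.conj_mem x hx g
  have hyd : ∀ d ∈ D, y * d = d * y := fun d hd => by
    have hgd : g⁻¹ * d = d * g⁻¹ := (Commute.inv_left (hQD g hg d hd : Commute g d)).eq
    calc g * x * g⁻¹ * d = g * x * (g⁻¹ * d) := by group
      _ = g * (x * d) * g⁻¹ := by rw [hgd]; group
      _ = g * (d * x) * g⁻¹ := by rw [hxd d hd]
      _ = (g * d) * x * g⁻¹ := by group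
      _ = d * (g * x * g⁻¹) := by rw [hQD g hg d hd]; group
  have hxy : x⁻¹ * y ∉ D := fun hm =>
    hgx (hchain g hg x hx _ (hDO hm) (hQD g hg _ hm) (by rw [hy]; group))
  have hback : ∀ a : K, g * a * g⁻¹ ∈ D → a ∈ D := fun a hm => by
    have h1 := hQD g hg _ hm
    have h3 : a = g * a * g⁻¹ := by
      calc a = g⁻¹ * (g * a * g⁻¹ * g) := by group
        _ = g⁻¹ * (g * (g * a * g⁻¹)) := by rw [h1]
        _ = g * a * g⁻¹ := by group
    rw [h3]
    exact hm
  have hyD : y ∉ D := fun hm => hxD (hback x hm)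
  have hclass : ∀ t ∈ O, (∀ d ∈ D, t * d = d * t) → t ∉ D → x⁻¹ * t ∉ D → y⁻¹ * t ∉ D →
      (x * y)⁻¹ * t ∈ D := by
    intro t ht htd htD hxt hyt
    by_contra hxyt
    have hxyD : x * y ∉ D := fun hm => hxy (by
      rw [show x⁻¹ * y = (x * x)⁻¹ * (x * y) by group]
      exact mul_mem (inv_mem (hsq x hx)) hm)
    have hytD : y * t ∉ D := fun hm => hyt (by
      rw [show y⁻¹ * t = (y * y)⁻¹ * (y * t) by group]
      exact mul_mem (inv_mem (hsq y hyO)) hm)
    have hxtD : x * t ∉ D := fun hm => hxt (by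
      rw [show x⁻¹ * t = (x * x)⁻¹ * (x * t) by group]
      exact mul_mem (inv_mem (hsq x hx)) hm)
    have hxytD : x * (y * t) ∉ D := fun hm => hxyt (by
      have h1 : x * y * (x * y) ∈ D := hsq _ (mul_mem hx hyO)
      rw [show (x * y)⁻¹ * t = (x * y * (x * y))⁻¹ * (x * (y * t)) by group]
      exact mul_mem (inv_mem h1) hm)
    have hytd : ∀ d ∈ D, y * t * d = d * (y * t) := fun d hd => by
      rw [mul_assoc, htd d hd, ← mul_assoc, hyd d hd, mul_assoc]
    have h1 := hcom x hx y hyO hxd hyd hxD hyD hxyD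
    have h2 := hcom x hx t ht hxd htd hxD htD hxtD
    have h3 := hcom x hx _ (mul_mem hyO ht) hxd hytd hxD hytD hxytD
    rw [← commutatorElement_inv, hO.comm_mul_left hA hyO ht hx, mul_inv_rev,
      commutatorElement_inv, commutatorElement_inv, h1, h2, ← pow_two, hzu] at h3
    exact hz1 h3.symm
  set w := g * y * g⁻¹ with hw
  have hwO : w ∈ O := hO.normal.conj_mem y hyO g
  have hwd : ∀ d ∈ D, w * d = d * w := fun d hd => by
    have hgd : g⁻¹ * d = d * g⁻¹ := (Commute.inv_left (hQD g hg d hd : Commute g d)).eq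
    calc g * y * g⁻¹ * d = g * y * (g⁻¹ * d) := by group
      _ = g * (y * d) * g⁻¹ := by rw [hgd]; group
      _ = g * (d * y) * g⁻¹ := by rw [hyd d hd]
      _ = (g * d) * y * g⁻¹ := by group
      _ = d * (g * y * g⁻¹) := by rw [hQD g hg d hd]; group
  have hqg : ∀ n : ℕ, n.Coprime q → n.Coprime (orderOf g) := fun n hn => by
    obtain ⟨m, hm⟩ := hpow g hg
    exact (hn.pow_right m).coprime_dvd_right (orderOf_dvd_of_pow_eq_one hm)
  have hxw : x⁻¹ * w ∉ D := fun hm => by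
    refine hgx (commute_of_pow (hqg 2 ((Nat.coprime_primes Nat.prime_two h.prime_q).2 huq.symm)) ?_)
    refine hchain (g ^ 2) (pow_mem hg 2) x hx _ (hDO hm)
      (hQD _ (pow_mem hg 2) _ hm) ?_
    rw [hw, hy, pow_two]; group
  have hyw : y⁻¹ * w ∉ D := fun hm => hxy (hback _ (by
    rw [show g * (x⁻¹ * y) * g⁻¹ = y⁻¹ * w by rw [hw, hy]; group]
    exact hm))
  have hdd := hclass w hwO hwd (fun hm => hyD (hback y hm)) hxw hyw
  by_contra hq3
  refine hgx (commute_of_pow (hqg 3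
    ((Nat.coprime_primes Nat.prime_three h.prime_q).2 (Ne.symm hq3))) ?_)
  set d := (x * y)⁻¹ * w with hd
  have hd' : x⁻¹ * (g ^ 3 * x * (g ^ 3)⁻¹) ∈ D := by
    have e1 : g ^ 3 * x * (g ^ 3)⁻¹ = g * w * g⁻¹ := by rw [hw, hy, pow_succ, pow_two]; group
    have e2 : g * w * g⁻¹ = y * w * d := by
      calc g * w * g⁻¹ = (g * x * g⁻¹) * (g * y * g⁻¹) * (g * d * g⁻¹) := by rw [hd]; group
        _ = y * w * d := by rw [← hw, ← hy, hQD g hg d hdd, mul_inv_cancel_right]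
    rw [e1, e2, show w = x * y * d by rw [hd]; group,
      show x⁻¹ * (y * (x * y * d) * d) = ⁅x⁻¹, y⁆ * (y * y) * d * d by
        simp only [commutatorElement_def]; group]
    exact mul_mem (mul_mem (mul_mem (hD2 _ (hcomO _ (inv_mem hx) _ hyO)
      (hO.comm_mem hA (inv_mem hx) hyO)) (hsq y hyO)) hdd) hdd
  exact hchain (g ^ 3) (pow_mem hg 3) x hx _ (hDO hd') (hQD _ (pow_mem hg 3) _ hd') (by group)

end CfsgLib.Palfy69
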