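import Cfsg.Agent.Palfy69.Structure

/-!
# Pálfy's condition: a stabilised prime acting on a core of `C(A)`
-/

set_option autoImplicit false
set_option linter.style.haveILetI false
set_option linter.unusedSectionVars false

namespace CfsgLib.Palfy69

open scoped commutatorElement

variable {K : Type*} [Group K] [Finite K] {V : Type*} [AddCommGroup V] [DistribMulAction K V]
  [Finite V] {s q r : ℕ} {A O : Subgroup K} {u : ℕ}

/-- An elementary abelian group containing a fixed-point-free element `z` has a common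
eigenvector. -/
theorem Hyp.eigen (h : Hyp K V s q r) (hu : u.Prime) (hus : u ≠ s) {D : Subgroup K}
    (hcomm : ∀ a ∈ D, ∀ b ∈ D, a * b = b * a) (hexp : ∀ a ∈ D, a ^ u = 1) {z : K} (hz : z ∈ D)
    (hfree : ∀ v : V, z • v = v → v = 0) :
    ∃ v : V, v ≠ 0 ∧ ∀ d ∈ D, ∃ k : ℤ, d • v = z ^ k • v := by
  obtain ⟨H, hH⟩ := exists_top h D
  obtain ⟨v, hv, hv0⟩ : ∃ v ∈ fix V H, v ≠ 0 := by
    by_contra hall
    push Not at hall
    exact hH.1.2 ((AddSubgroup.eq_bot_iff_forall _).2 hall)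
  refine ⟨v, hv0, fun d hd => ?_⟩
  obtain ⟨i, hi⟩ := hH.exists_pow h hu hus hcomm hexp hz (fun hm => hv0 (hfree v (hv z hm))) hd
  refine ⟨-(i : ℤ), ?_⟩
  have h1 : (d * z ^ i) • v = v := hv _ hi
  rw [hcomm d hd _ (Subgroup.pow_mem _ hz i), mul_smul] at h1
  rwa [zpow_neg, zpow_natCast, eq_inv_smul_iff]

/-- Such a `d` commutes with the Sylow subgroup fixing the eigenvector. -/
theorem eigen_commute {w : ℕ} [hw : Fact w.Prime] (hu : UniqSylow w K V) (hOn : O.Normal)
    (hOp : IsPGroup u O) (hup : u.Prime) (hwu : w ≠ u) (Q : Sylow w K) {v : V} (hv0 : v ≠ 0)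
    (hQv : (Q : Subgroup K) ≤ MulAction.stabilizer K v) {z : K}
    (hzQ : ∀ g ∈ (Q : Subgroup K), g * z = z * g) {d : K} (hd : d ∈ O) {k : ℤ}
    (hdk : d • v = z ^ k • v) {g : K} (hg : g ∈ (Q : Subgroup K)) : g * d = d * g := by
  haveI := Fact.mk hup
  have hfix : (Q : Subgroup K) ≤ MulAction.stabilizer K (d • v) := fun x hx => by
    show x • d • v = d • v
    rw [hdk, ← mul_smul, (Commute.zpow_right (hzQ x hx) k).eq, mul_smul, hQv hx]
  have hdv : d • v ≠ 0 := fun h0 => hv0 (smul_eq_zero_iff_eq d |>.1 h0)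
  have heq : d • Q = Q := (hu (d • v) hdv).unique
    ((sylow_smul_le_stabilizer Q d (d • v)).2 (by rw [inv_smul_smul]; exact hQv)) hfix
  have h1 : d * g * d⁻¹ ∈ (Q : Subgroup K) := by
    have : d * g * d⁻¹ ∈ ((d • Q : Sylow w K) : Subgroup K) := by
      rw [Sylow.coe_subgroup_smul]
      exact ⟨g, hg, by simp⟩
    rwa [heq] at this
  have h2 : d * g * d⁻¹ * g⁻¹ ∈ O := by
    rw [show d * g * d⁻¹ * g⁻¹ = d * (g * d⁻¹ * g⁻¹) by group]
    exact mul_mem hd (hOn.conj_mem _ (inv_mem hd) g)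
  have h3 : d * g * d⁻¹ * g⁻¹ = 1 := by
    have hdisj := IsPGroup.disjoint_of_ne u w hwu.symm _ _ hOp Q.isPGroup'
    exact Subgroup.disjoint_def.1 hdisj h2 (mul_mem h1 (inv_mem hg))
  rw [mul_inv_eq_one, mul_inv_eq_iff_eq_mul] at h3
  exact h3.symm

/-- Coprime action on a chain. -/
theorem comm_of_chain {w : ℕ} (hwp : w.Prime) (hup : u.Prime) (hwu : w ≠ u) {g x c : K}
    (hg : ∃ m, g ^ w ^ m = 1) (hc : ∃ m, c ^ u ^ m = 1) (hgc : g * c = c * g)
    (hx : g * x * g⁻¹ = x * c) : g * x = x * g := by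
  have hn : ∀ n : ℕ, g ^ n * x * (g ^ n)⁻¹ = x * c ^ n := by
    intro n
    induction n with
    | zero => simp
    | succ n ih =>
      calc g ^ (n + 1) * x * (g ^ (n + 1))⁻¹ = g * (g ^ n * x * (g ^ n)⁻¹) * g⁻¹ := by
            rw [pow_succ', mul_inv_rev]; group
        _ = (g * x * g⁻¹) * (g * c ^ n * g⁻¹) := by rw [ih]; group
        _ = x * c * c ^ n := by rw [hx, (Commute.pow_right hgc n).eq, mul_inv_cancel_right]
        _ = x * c ^ (n + 1) := by rw [pow_succ', mul_assoc]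
  obtain ⟨m, hm⟩ := hg
  obtain ⟨m', hm'⟩ := hc
  have h1 := hn (w ^ m)
  rw [hm, one_mul, inv_one, mul_one, left_eq_mul] at h1
  have hc1 : c = 1 := by
    rw [← orderOf_eq_one_iff]
    exact Nat.eq_one_of_dvd_coprimes (((Nat.coprime_primes hwp hup).2 hwu).pow m m')
      (orderOf_dvd_of_pow_eq_one h1) (orderOf_dvd_of_pow_eq_one hm')
  rw [hc1, mul_one, mul_inv_eq_iff_eq_mul] at hx
  exact hx

/-- `O ∩ A` has exactly the two elements `1`, `z`. -/
def TinyCentre (A O : Subgroup K) : Prop :=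
  ∃ z : K, z ≠ 1 ∧ z ∈ O ∧ z ∈ A ∧ ∀ a ∈ O, a ∈ A → a = 1 ∨ a = z

theorem exists_centre_gen (hO : Core A O u) (hA : MaxAb A) (hcyc : IsCyclic A)
    (hne : ¬ O ≤ A) :
    ∃ z : K, z ∈ O ∧ z ∈ A ∧ z ≠ 1 ∧ z ^ u = 1 ∧
      ∀ a ∈ O, a ∈ A → a ^ u = 1 → a ∈ Subgroup.zpowers z := by
  haveI := Fact.mk hO.prime_u
  haveI : Nontrivial O := Subgroup.nontrivial_iff_ne_bot O |>.2 fun hb => hne (hb ▸ bot_le)
  obtain ⟨⟨c, hc⟩, hc1⟩ := Subgroup.ne_bot_iff_exists_ne_one.1 (ne_of_gt hO.pgroup.bot_lt_center)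
  have hcA : (c : K) ∈ A := hO.central hA c.2 fun y hy =>
    congrArg Subtype.val (Subgroup.mem_center_iff.1 hc ⟨y, hy⟩).symm
  have hcne : (c : K) ≠ 1 := fun e => hc1 (Subtype.ext (Subtype.ext e))
  obtain ⟨m, hm⟩ := hO.pgroup c
  have hm' : (c : K) ^ u ^ m = 1 := congrArg Subtype.val hm
  have hdvd : u ∣ orderOf (c : K) := by
    obtain ⟨j, -, hj⟩ := (Nat.dvd_prime_pow hO.prime_u).1 (orderOf_dvd_of_pow_eq_one hm')
    rcases j with _ | j
    · exact absurd (orderOf_eq_one_iff.1 (by simpa using hj)) hcne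
    · exact hj ▸ dvd_pow_self u (Nat.succ_ne_zero j)
  set z := (c : K) ^ (orderOf (c : K) / u) with hz
  have hzo : orderOf z = u := orderOf_pow_orderOf_div (orderOf_pos _).ne' hdvd
  have hz1 : z ≠ 1 := fun e => hO.prime_u.one_lt.ne (by rw [← hzo, e, orderOf_one])
  refine ⟨z, pow_mem c.2 _, pow_mem hcA _, hz1, by rw [← hzo]; exact pow_orderOf_eq_one z,
    fun a _ haA hau => ?_⟩
  classical
  haveI := hcyc
  haveI := Fintype.ofFinite A
  have hle : Finset.univ.filter (fun x : A => x ^ u = 1) =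
      (Finset.univ.filter fun x : A => (x : K) ∈ Subgroup.zpowers z) := by
    refine (Finset.eq_of_subset_of_card_le (fun x hx => ?_) ?_).symm
    · obtain ⟨k, hk⟩ := (Finset.mem_filter.1 hx).2
      refine Finset.mem_filter.2 ⟨Finset.mem_univ _, Subtype.ext ?_⟩
      show (x : K) ^ u = 1
      rw [← hk, ← zpow_natCast, ← zpow_mul, mul_comm, zpow_mul, zpow_natCast, ← hzo,
        pow_orderOf_eq_one, one_zpow]
    · refine (IsCyclic.card_pow_eq_one_le hO.prime_u.pos).trans ?_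
      rw [← Fintype.card_subtype, ← Nat.card_eq_fintype_card]
      calc u = Nat.card (Subgroup.zpowers z) := by rw [Nat.card_zpowers, hzo]
        _ ≤ _ := Nat.card_le_card_of_injective
            (fun y : Subgroup.zpowers z => (⟨⟨(y : K),
              (Subgroup.zpowers_le.2 (pow_mem hcA _)) y.2⟩, y.2⟩ :
              {x : A // (x : K) ∈ Subgroup.zpowers z}))
            fun y y' e => Subtype.ext (congrArg (fun t => ((t.1 : A) : K)) e)
  have : (⟨a, haA⟩ : A) ∈ Finset.univ.filter (fun x : A => x ^ u = 1) :=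
    Finset.mem_filter.2 ⟨Finset.mem_univ _, Subtype.ext hau⟩
  rw [hle] at this
  exact (Finset.mem_filter.1 this).2

/-- Unless the centre is tiny, every coset of the centre contains an element of order `u`. -/
theorem exists_good (hO : Core A O u) (hA : MaxAb A) (hcyc : IsCyclic A)
    (hcent : ∀ a ∈ A, ∀ b ∈ A, a * b = b * a) (hne : ¬ O ≤ A) :
    (∀ y ∈ O, ∃ a, a ∈ O ∧ a ∈ A ∧ (y * a) ^ u = 1) ∨ (u = 2 ∧ TinyCentre A O) := by
  classical
  obtain ⟨z, hzO, hzA, hz1, hzu, hzgen⟩ := exists_centre_gen hO hA hcyc hne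
  haveI := hO.normal
  haveI := hA.normal
  haveI := Fact.mk hO.prime_u
  have hzpow : ∀ a ∈ Subgroup.zpowers z, a ^ u = 1 := by
    rintro _ ⟨k, rfl⟩
    rw [← zpow_natCast, ← zpow_mul, mul_comm, zpow_mul, zpow_natCast, hzu, one_zpow]
  by_cases hcond : u = 2 ∧ ∀ a ∈ O, a ∈ A → a ^ 2 = 1
  · obtain ⟨h2, hall⟩ := hcond
    refine Or.inr ⟨h2, z, hz1, hzO, hzA, fun a haO haA => ?_⟩
    obtain ⟨k, rfl⟩ := hzgen a haO haA (by rw [h2]; exact hall a haO haA)
    rw [h2] at hzu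
    rcases Int.even_or_odd k with ⟨j, rfl⟩ | ⟨j, rfl⟩
    · exact Or.inl (by show z ^ (j + j) = 1; rw [← two_mul, zpow_mul, zpow_two, ← pow_two, hzu, one_zpow])
    · exact Or.inr (by
        show z ^ (2 * j + 1) = z
        rw [zpow_add, zpow_mul, zpow_two, ← pow_two, hzu, one_zpow, one_mul, zpow_one])
  refine Or.inl fun y₀ hy₀ => ?_
  have hc : ∀ a ∈ O, a ∈ A → ∀ b ∈ O, a * b = b * a := fun a _ haA b hb =>
    (hO.cent b hb a haA).symm
  -- products of `u`-th powers
  have hmul : ∀ x ∈ O, ∀ y ∈ O, ∃ e, e ∈ O ∧ e ∈ A ∧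
      (x * y) ^ u = x ^ u * y ^ u * e ^ u := by
    intro x hx y hy
    have hcA := hO.comm_mem hA hy hx
    have hcO : ⁅y, x⁆ ∈ O := mul_mem (mul_mem (mul_mem hy hx) (inv_mem hy)) (inv_mem hx)
    have hyx : y * x = x * y * ⁅y, x⁆ := by
      rw [← hc _ hcO hcA _ (mul_mem hx hy), commutatorElement_def]; group
    rcases hO.prime_u.eq_two_or_odd' with h2 | hodd
    · have h4 : ∃ a, a ∈ O ∧ a ∈ A ∧ a ^ 2 ≠ 1 := by
        by_contra hno
        push Not at hno
        exact hcond ⟨h2, hno⟩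
      obtain ⟨a, haO, haA, ha⟩ := h4
      have hsq : (x * y) ^ u = x ^ u * y ^ u * ⁅y, x⁆ := by
        rw [h2, pow_two, pow_two, pow_two]
        calc x * y * (x * y) = x * (y * x) * y := by group
          _ = x * (x * y * ⁅y, x⁆) * y := by rw [hyx]
          _ = x * x * (y * (⁅y, x⁆ * y)) := by group
          _ = x * x * (y * y) * ⁅y, x⁆ := by rw [hc _ hcO hcA y hy]; group
      rcases (show ⁅y, x⁆ = 1 ∨ ∃ e, e ∈ O ∧ e ∈ A ∧ e ^ u = ⁅y, x⁆ by
        by_cases hcy : ⁅y, x⁆ = 1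
        · exact Or.inl hcy
        right
        -- some power of `a` has order four
        obtain ⟨m, hm⟩ := hO.pgroup ⟨a, haO⟩
        have hm' : a ^ 2 ^ m = 1 := by
          rw [← h2]; exact congrArg Subtype.val hm
        obtain ⟨j, -, hj⟩ := (Nat.dvd_prime_pow Nat.prime_two).1 (orderOf_dvd_of_pow_eq_one hm')
        have hj2 : 2 ≤ j := by
          by_contra hlt
          refine ha (orderOf_dvd_iff_pow_eq_one.1 ?_)
          rw [hj]
          exact (pow_dvd_pow 2 (by omega : j ≤ 1)).trans (by norm_num)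
        set b := a ^ 2 ^ (j - 2) with hb
        have hb4 : b ^ 2 ^ 2 = 1 := by
          rw [hb, ← pow_mul, ← pow_add, show j - 2 + 2 = j by omega, ← hj, pow_orderOf_eq_one]
        have hb2 : b ^ 2 ≠ 1 := by
          rw [hb, ← pow_mul, ← pow_succ]
          intro e
          have h' := orderOf_dvd_of_pow_eq_one e
          rw [hj, Nat.pow_dvd_pow_iff_le_right (by norm_num)] at h'
          omega
        obtain ⟨k, hk⟩ := hzgen (b ^ u) (pow_mem (pow_mem haO _) _) (pow_mem (pow_mem haA _) _)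
          (by rw [h2, ← pow_mul]; exact hb4)
        obtain ⟨l, hl⟩ := hzgen ⁅y, x⁆ hcO hcA (hO.comm_pow_one hA hy hx)
        have hodd2 : ∀ n : ℤ, z ^ n ≠ 1 → z ^ n = z := fun n hn => by
          have hz2 : z ^ (2 : ℤ) = 1 := by
            rw [show (2 : ℤ) = ((2 : ℕ) : ℤ) by norm_num, zpow_natCast, ← h2, hzu]
          rcases Int.even_or_odd n with ⟨i, rfl⟩ | ⟨i, rfl⟩
          · exact absurd (by rw [← two_mul, zpow_mul, hz2, one_zpow]) hn
          · rw [zpow_add, zpow_mul, hz2, one_zpow, one_mul, zpow_one]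
        simp only at hk hl
        refine ⟨b, pow_mem haO _, pow_mem haA _, ?_⟩
        rw [← hk, ← hl, hodd2 k (by rw [hk, h2]; exact hb2), hodd2 l (by rw [hl]; exact hcy)])
        with h1 | ⟨e, heO, heA, he⟩
      · exact ⟨1, one_mem _, one_mem _, by rw [hsq, h1, one_pow]⟩
      · exact ⟨e, heO, heA, by rw [hsq, he]⟩
    · refine ⟨1, one_mem _, one_mem _, ?_⟩
      rw [one_pow, mul_one]
      have hpow : ∀ n : ℕ, (x * y) ^ n = x ^ n * y ^ n * ⁅y, x⁆ ^ n.choose 2 := by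
        intro n
        induction n with
        | zero => simp
        | succ n ih =>
          have hyn : y ^ n * x = x * y ^ n * ⁅y, x⁆ ^ n := by
            rw [← hc _ (pow_mem hcO n) (pow_mem hcA n) _ (mul_mem hx (pow_mem hy n)),
              ← hO.comm_pow_left hA hy hx, commutatorElement_def]
            group
          have hcc : ∀ i : ℕ, ∀ w ∈ O, ⁅y, x⁆ ^ i * w = w * ⁅y, x⁆ ^ i := fun i w hw =>
            hc _ (pow_mem hcO i) (pow_mem hcA i) w hw
          rw [pow_succ, ih, Nat.choose_succ_succ, Nat.choose_one_right, pow_succ, pow_succ]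
          calc x ^ n * y ^ n * ⁅y, x⁆ ^ n.choose 2 * (x * y)
              = x ^ n * (y ^ n * x) * (⁅y, x⁆ ^ n.choose 2 * y) := by
                rw [mul_assoc (x ^ n * y ^ n), ← mul_assoc (⁅y, x⁆ ^ n.choose 2), hcc _ x hx]
                group
            _ = x ^ n * x * y ^ n * (⁅y, x⁆ ^ n * y) * ⁅y, x⁆ ^ n.choose 2 := by
                rw [hyn, hcc _ y hy]; group
            _ = x ^ n * x * (y ^ n * y) * (⁅y, x⁆ ^ (n + n.choose 2)) := by
                rw [hcc _ y hy, pow_add]; group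
      rw [hpow u]
      obtain ⟨j, hj⟩ : u ∣ u.choose 2 := hO.prime_u.dvd_choose_self two_ne_zero (by
        obtain ⟨i, hi⟩ := hodd
        have := hO.prime_u.two_le
        omega)
      rw [hj, pow_mul, hO.comm_pow_one hA hy hx, one_pow, mul_one]
  let X : Subgroup K :=
    { carrier := {x | x ∈ O ∧ ∃ a, a ∈ O ∧ a ∈ A ∧ x ^ u = a ^ u}
      one_mem' := ⟨one_mem _, 1, one_mem _, one_mem _, rfl⟩
      mul_mem' := by
        rintro x y ⟨hx, a, haO, haA, hxa⟩ ⟨hy, b, hbO, hbA, hyb⟩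
        obtain ⟨e, heO, heA, he⟩ := hmul x hx y hy
        exact ⟨mul_mem hx hy, a * b * e, mul_mem (mul_mem haO hbO) heO,
          mul_mem (mul_mem haA hbA) heA, by
            rw [he, hxa, hyb, Commute.mul_pow (hcent _ (mul_mem haA hbA) _ heA),
              Commute.mul_pow (hcent _ haA _ hbA)]⟩
      inv_mem' := by
        rintro x ⟨hx, a, haO, haA, hxa⟩
        exact ⟨inv_mem hx, a⁻¹, inv_mem haO, inv_mem haA, by rw [inv_pow, inv_pow, hxa]⟩ }
  suffices hX : O ≤ X by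
    obtain ⟨-, a, haO, haA, ha⟩ := hX hy₀
    exact ⟨a⁻¹, inv_mem haO, inv_mem haA, by
      rw [Commute.mul_pow (hO.cent _ hy₀ _ (inv_mem haA)), ha, inv_pow, mul_inv_cancel]⟩
  by_contra hX
  have hXn : X.Normal := ⟨fun x ⟨hx, a, haO, haA, hxa⟩ g => ⟨hO.normal.conj_mem x hx g, g * a * g⁻¹,
    hO.normal.conj_mem a haO g, hA.normal.conj_mem a haA g, by rw [conj_pow, conj_pow, hxa]⟩⟩
  haveI := hXn
  have hZX : ∀ a ∈ O, a ∈ A → a ∈ X := fun a h1 h2 => ⟨h1, a, h1, h2, rfl⟩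
  -- `O` over `X` is cyclic
  have hstep : ∀ y₁ ∈ O, y₁ ∉ X → ∀ y₂ ∈ O, ∃ i : ℕ, y₂ * y₁ ^ i ∈ X := by
    intro y₁ hy₁ hy₁X y₂ hy₂
    haveI : IsCyclic (O ⊓ A : Subgroup K) := by
      haveI := hcyc
      exact isCyclic_of_injective (Subgroup.inclusion (inf_le_right : O ⊓ A ≤ A))
        (Subgroup.inclusion_injective _)
    obtain ⟨⟨g, hg⟩, hgen⟩ := IsCyclic.exists_zpow_surjective (G := (O ⊓ A : Subgroup K))
    obtain ⟨m, hm⟩ := hgen ⟨y₁ ^ u, pow_mem hy₁ u, hO.pow_mem hA hy₁⟩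
    obtain ⟨n, hn⟩ := hgen ⟨y₂ ^ u, pow_mem hy₂ u, hO.pow_mem hA hy₂⟩
    have hm' : g ^ m = y₁ ^ u := congrArg Subtype.val hm
    have hn' : g ^ n = y₂ ^ u := congrArg Subtype.val hn
    have hmu : IsCoprime m (u : ℤ) := by
      rw [isCoprime_comm, (Nat.prime_iff_prime_int.1 hO.prime_u).coprime_iff_not_dvd]
      rintro ⟨j, rfl⟩
      refine hy₁X ⟨hy₁, g ^ j, Subgroup.zpow_mem _ hg.1 j, Subgroup.zpow_mem _ hg.2 j, ?_⟩
      rw [← hm', ← zpow_natCast, ← zpow_mul, mul_comm]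
    obtain ⟨a, b, hab⟩ := hmu
    refine ⟨((-(n * a)) % u).toNat, ?_⟩
    set i := ((-(n * a)) % u).toNat with hi
    obtain ⟨e, heO, heA, he⟩ := hmul y₂ hy₂ (y₁ ^ i) (pow_mem hy₁ i)
    obtain ⟨j, hj⟩ : (u : ℤ) ∣ n + m * i := by
      have hu0 : (u : ℤ) ≠ 0 := by exact_mod_cast hO.prime_u.ne_zero
      rw [hi, Int.toNat_of_nonneg (Int.emod_nonneg _ hu0)]
      obtain ⟨t, ht⟩ : (u : ℤ) ∣ -(n * a) % u - -(n * a) :=
        Int.modEq_iff_dvd.1 (Int.mod_modEq _ _).symm
      exact ⟨n * b + m * t, by linear_combination m * ht - n * hab⟩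
    refine ⟨mul_mem hy₂ (pow_mem hy₁ i), g ^ j * e, mul_mem (Subgroup.zpow_mem _ hg.1 j) heO,
      mul_mem (Subgroup.zpow_mem _ hg.2 j) heA, ?_⟩
    rw [he, ← pow_mul, mul_comm i u, pow_mul, ← hn', ← hm', ← zpow_natCast (g ^ m), ← zpow_mul,
      ← zpow_add, hj, Commute.mul_pow (hcent _ (Subgroup.zpow_mem _ hg.2 j) _ heA),
      ← zpow_natCast (g ^ j), ← zpow_mul, mul_comm (u : ℤ) j]
  obtain ⟨y₁, hy₁, hy₁X⟩ := SetLike.not_le_iff_exists.1 hX
  let W : Subgroup K := O ⊓ Subgroup.centralizer (X : Set K)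
  haveI : W.Normal := Subgroup.normal_inf_normal _ _
  have hWA : W ≤ A := by
    refine hA.le W (fun a ha b hb => ?_) fun a ha b hb => hO.cent a ha.1 b hb
    by_cases haX : a ∈ X
    · exact (Subgroup.mem_centralizer_iff.1 hb.2 a haX)
    · obtain ⟨i, hi⟩ := hstep a ha.1 haX b hb.1
      have hco := Subgroup.mem_centralizer_iff.1 ha.2 _ hi
      calc a * b = a * (b * a ^ i) * (a ^ i)⁻¹ := by group
        _ = b * a ^ i * a * (a ^ i)⁻¹ := by rw [hco]
        _ = b * (a * a ^ i) * (a ^ i)⁻¹ := by rw [← pow_succ', pow_succ]; group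
        _ = b * a := by group
  -- compare with the dual of `X / Z`
  let Z' : Subgroup X := (O ⊓ A).subgroupOf X
  haveI : Z'.Normal := Subgroup.normal_subgroupOf
  letI : CommGroup (X ⧸ Z') :=
    { (inferInstance : Group (X ⧸ Z')) with
      mul_comm := fun a b => by
        induction a using QuotientGroup.induction_on with | H a => ?_
        induction b using QuotientGroup.induction_on with | H b => ?_
        rw [← commutatorElement_eq_one_iff_mul_comm, ← QuotientGroup.mk'_apply,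
          ← QuotientGroup.mk'_apply, ← map_commutatorElement, QuotientGroup.mk'_apply,
          QuotientGroup.eq_one_iff, Subgroup.mem_subgroupOf, ← X.subtype_apply,
          map_commutatorElement]
        exact Subgroup.mem_inf.2 ⟨mul_mem (mul_mem (mul_mem (a.2.1 : (a : K) ∈ O) (b.2.1 : (b : K) ∈ O))
          (inv_mem (a.2.1 : (a : K) ∈ O))) (inv_mem (b.2.1 : (b : K) ∈ O)),
          hO.comm_mem hA a.2.1 b.2.1⟩ }
  obtain ⟨lam, hlam⟩ : ∃ lam : A →* ℂˣ, Function.Injective lam := by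
    haveI : NeZero (Nat.card A) := ⟨Nat.card_pos.ne'⟩
    obtain ⟨e⟩ : Nonempty (A ≃* rootsOfUnity (Nat.card A) ℂ) := ⟨mulEquivOfCyclicCardEq (by
      rw [HasEnoughRootsOfUnity.natCard_rootsOfUnity])⟩
    exact ⟨(rootsOfUnity (Nat.card A) ℂ).subtype.comp e.toMonoidHom,
      Subtype.val_injective.comp e.injective⟩
  let pair : O → X → ℂˣ := fun y x => lam ⟨⁅(x : K), (y : K)⁆, hO.comm_mem hA x.2.1 y.2⟩
  let φ : O → (X →* ℂˣ) := fun y =>
    { toFun := pair y
      map_one' := by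
        show lam _ = 1
        rw [← map_one lam]
        exact congrArg lam (Subtype.ext (commutatorElement_one_left _))
      map_mul' := fun a b => by
        show lam _ = lam _ * lam _
        rw [← map_mul]
        exact congrArg lam (Subtype.ext (hO.comm_mul_left hA a.2.1 b.2.1 y.2)) }
  have hφZ : ∀ y, Z' ≤ (φ y).ker := fun y a ha => by
    show lam _ = 1
    rw [← map_one lam]
    refine congrArg lam (Subtype.ext ?_)
    exact commutatorElement_eq_one_iff_mul_comm.2 (hc _ ha.1 ha.2 _ y.2)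
  let ψ : O ⧸ ((O ⊓ A).subgroupOf O) → ((X ⧸ Z') →* ℂˣ) :=
    Quotient.lift (fun y => QuotientGroup.lift Z' (φ y) (hφZ y)) fun y y' hyy => by
      rw [← Quotient.eq_iff_equiv, QuotientGroup.eq] at hyy
      refine MonoidHom.ext fun a => ?_
      induction a using QuotientGroup.induction_on with | H a => ?_
      show lam _ = lam _
      refine congrArg lam (Subtype.ext ?_)
      show ⁅(a : K), (y : K)⁆ = ⁅(a : K), (y' : K)⁆
      rw [← commutatorElement_inv (y : K), ← commutatorElement_inv (y' : K),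
        show (y' : K) = (y : K) * ((y : K)⁻¹ * y') by group,
        hO.comm_mul_left hA y.2 (mul_mem (inv_mem y.2) y'.2) (a.2.1 : (a : K) ∈ O)]
      have h1 : ⁅(y : K)⁻¹ * y', (a : K)⁆ = 1 := commutatorElement_eq_one_iff_mul_comm.2
        (hc _ (Subgroup.mem_subgroupOf.1 hyy).1 (Subgroup.mem_subgroupOf.1 hyy).2 _ a.2.1)
      rw [h1, mul_one]
  have hψ : Function.Injective ψ := by
    intro a b hab
    induction a using QuotientGroup.induction_on with | H a => ?_
    induction b using QuotientGroup.induction_on with | H b => ?_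
    rw [QuotientGroup.eq]
    have hw : (a : K)⁻¹ * b ∈ W := by
      refine Subgroup.mem_inf.2 ⟨mul_mem (inv_mem (a.2 : (a : K) ∈ O)) b.2, Subgroup.mem_centralizer_iff.2 fun x hx => ?_⟩
      rw [← commutatorElement_eq_one_iff_mul_comm, ← inv_eq_one, commutatorElement_inv]
      have h1 : ⁅(a : K), x⁆ = ⁅(b : K), x⁆ := by
        have h := DFunLike.congr_fun hab (QuotientGroup.mk (⟨x, hx⟩ : X))
        rw [← commutatorElement_inv x, ← commutatorElement_inv x, inv_inj]
        exact congrArg Subtype.val (hlam h)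
      have h2 := hO.comm_mul_left hA a.2 (mul_mem (inv_mem a.2) b.2) hx.1
      rw [mul_inv_cancel_left, h1, left_eq_mul] at h2
      exact h2
    exact Subgroup.mem_subgroupOf.2 ⟨hw.1, hWA hw⟩
  haveI : Finite ((X ⧸ Z') →* ℂˣ) := Nat.finite_of_card_ne_zero
    (by rw [CommGroup.card_monoidHom_of_hasEnoughRootsOfUnity]; exact Nat.card_pos.ne')
  have hle := Nat.card_le_card_of_injective ψ hψ
  rw [CommGroup.card_monoidHom_of_hasEnoughRootsOfUnity, ← Subgroup.index_eq_card,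
    ← Subgroup.index_eq_card] at hle
  have hXO : X ≤ O := fun x hx => hx.1
  have hmul2 := Subgroup.relIndex_mul_relIndex (O ⊓ A) X O (fun a ha => hZX a ha.1 ha.2) hXO
  have h2 : 1 < X.relIndex O := by
    have h0 : X.relIndex O ≠ 0 := Subgroup.index_ne_zero_of_finite
    have h1 : X.relIndex O ≠ 1 := fun e => hX (Subgroup.relIndex_eq_one.1 e)
    omega
  have h3 : 0 < (O ⊓ A).relIndex X := Nat.pos_of_ne_zero Subgroup.index_ne_zero_of_finite
  change (O ⊓ A).relIndex O ≤ (O ⊓ A).relIndex X at hle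
  rw [← hmul2] at hle
  exact absurd hle (not_le.2 (lt_mul_of_one_lt_right h3 h2))

end CfsgLib.Palfy69
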