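import Cfsg.Agent.Palfy69.Over
import Cfsg.Agent.SchurTheory.Projective

/-!
# Pálfy's condition: linear characters of a normal subgroup as a module
-/

set_option autoImplicit false
set_option linter.style.haveILetI false
set_option linter.unusedSectionVars false

namespace CfsgLib.Palfy69

open CfsgLib.Characters CfsgLib.OddOrderChar CfsgLib.CharactersDeep

universe u

variable {G : Type u} [Group G]

/-- The linear characters, additively. -/
def Dual (P : Subgroup G) : Type u := Additive (↥P →* ℂˣ)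

namespace Dual

variable {P : Subgroup G}

noncomputable instance : AddCommGroup (Dual P) :=
  inferInstanceAs (AddCommGroup (Additive (↥P →* ℂˣ)))

/-- The vector of a linear character. -/
def of (f : ↥P →* ℂˣ) : Dual P := Additive.ofMul f

/-- The linear character of a vector. -/
def hom (v : Dual P) : ↥P →* ℂˣ := Additive.toMul v

theorem ext {v w : Dual P} (h : ∀ y, v.hom y = w.hom y) : v = w :=
  Additive.toMul.injective (MonoidHom.ext h)

@[simp] theorem hom_of (f : ↥P →* ℂˣ) : (of f).hom = f := rfl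

@[simp] theorem hom_zero (y : P) : (0 : Dual P).hom y = 1 := rfl

@[simp] theorem hom_add (v w : Dual P) (y : P) : (v + w).hom y = v.hom y * w.hom y := rfl

theorem hom_nsmul (n : ℕ) (v : Dual P) (y : P) : (n • v).hom y = v.hom y ^ n := rfl

theorem eq_zero_iff {v : Dual P} : v = 0 ↔ ∀ y, v.hom y = 1 :=
  ⟨fun h y => by rw [h, hom_zero], fun h => ext fun y => by rw [h, hom_zero]⟩

instance [Finite G] : Finite (Dual P) := by
  haveI := Fintype.ofFinite P
  exact Finite.of_equiv _ ((linearCharEquiv (G := ↥P)).symm.trans Additive.ofMul)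

/-- Conjugation inside a normal subgroup. -/
def cjP (P : Subgroup G) [hP : P.Normal] (g : G) (y : P) : P :=
  ⟨g * y * g⁻¹, hP.conj_mem y y.2 g⟩

theorem coe_cjP (P : Subgroup G) [P.Normal] (g : G) (y : P) :
    ((cjP P g y : P) : G) = g * y * g⁻¹ := rfl

theorem cjP_mul (P : Subgroup G) [P.Normal] (g g' : G) (y : P) :
    cjP P (g * g') y = cjP P g (cjP P g' y) := Subtype.ext (by simp [cjP, mul_assoc])

/-- Conjugation as a homomorphism. -/
def cjHom (P : Subgroup G) [P.Normal] (g : G) : P →* P where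
  toFun := cjP P g
  map_one' := Subtype.ext (by simp [cjP])
  map_mul' a b := Subtype.ext (by simp [cjP, mul_assoc])

variable [P.Normal]

noncomputable instance : DistribMulAction G (Dual P) where
  smul g v := of (v.hom.comp (cjHom P g⁻¹))
  one_smul v := ext fun y => congrArg v.hom (Subtype.ext (by simp [cjHom, cjP]))
  mul_smul g g' v := ext fun y => congrArg v.hom (Subtype.ext (by simp [cjHom, cjP, mul_assoc]))
  smul_zero g := ext fun _ => rfl
  smul_add g v w := ext fun _ => rfl

theorem hom_smul (g : G) (v : Dual P) (y : P) : (g • v).hom y = v.hom (cjP P g⁻¹ y) := rfl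

theorem smul_eq_iff {g : G} {v : Dual P} :
    g • v = v ↔ ∀ y : P, v.hom (cjP P g y) = v.hom y := by
  constructor
  · intro h y
    have h1 := congrArg (fun w : Dual P => w.hom (cjP P g y)) h
    rw [hom_smul, ← cjP_mul, inv_mul_cancel] at h1
    rw [← h1]
    exact congrArg v.hom (Subtype.ext (by simp [cjP]))
  · intro h
    refine ext fun y => ?_
    rw [hom_smul, ← h (cjP P g⁻¹ y), ← cjP_mul, mul_inv_cancel]
    exact congrArg v.hom (Subtype.ext (by simp [cjP]))

/-- The character afforded by a vector. -/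
noncomputable def char (v : Dual P) : P → ℂ := fun y => (v.hom y : ℂ)

theorem mem_stabilizer_iff_conjBy {g : G} {v : Dual P} :
    g ∈ MulAction.stabilizer G v ↔ conjBy P v.char g = v.char := by
  rw [MulAction.mem_stabilizer_iff, smul_eq_iff]
  exact ⟨fun h => funext fun y => congrArg Units.val (h y),
    fun h y => Units.ext (congrFun h y)⟩

end Dual

/-- A character of a finite group separates the elements outside a normal subgroup with abelian
quotient. -/
theorem exists_hom_ne_one [Finite G] (N : Subgroup G) [N.Normal]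
    (hc : ∀ a b : G, a * b * a⁻¹ * b⁻¹ ∈ N) {x : G} (hx : x ∉ N) :
    ∃ f : G →* ℂˣ, (∀ n ∈ N, f n = 1) ∧ f x ≠ 1 := by
  letI : CommGroup (G ⧸ N) :=
    { (inferInstance : Group (G ⧸ N)) with
      mul_comm := fun a b => by
        induction a using QuotientGroup.induction_on with | H a => ?_
        induction b using QuotientGroup.induction_on with | H b => ?_
        rw [← QuotientGroup.mk_mul, ← QuotientGroup.mk_mul]
        refine QuotientGroup.eq.2 ?_
        rw [show (a * b)⁻¹ * (b * a) = b⁻¹ * a⁻¹ * b⁻¹⁻¹ * a⁻¹⁻¹ by group]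
        exact hc b⁻¹ a⁻¹ }
  obtain ⟨φ, hφ⟩ := CommGroup.exists_apply_ne_one_of_hasEnoughRootsOfUnity (G ⧸ N) ℂ
    (a := (x : G ⧸ N)) fun h => hx ((QuotientGroup.eq_one_iff x).1 h)
  exact ⟨φ.comp (QuotientGroup.mk' N), fun n hn => by
    rw [MonoidHom.comp_apply, QuotientGroup.mk'_apply, (QuotientGroup.eq_one_iff n).2 hn, map_one],
    hφ⟩

variable [Finite G]

/-- The common kernel of some linear characters of an abelian normal subgroup. -/
theorem Dual.irreducible {M : Subgroup G} [hMn : M.Normal] (hMc : ∀ a ∈ M, ∀ b ∈ M, a * b = b * a)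
    (hmin : ∀ N : Subgroup G, N.Normal → N ≤ M → N = ⊥ ∨ N = M) {H : Subgroup G}
    (hgen : ∀ g : G, ∃ y ∈ Subgroup.centralizer (M : Set G), ∃ h ∈ H, y * h = g)
    (W : AddSubgroup (Dual M)) (hW : ∀ (h : H) (v : Dual M), v ∈ W → h • v ∈ W) :
    W = ⊥ ∨ W = ⊤ := by
  classical
  let W' : Subgroup (↥M →* ℂˣ) :=
    { carrier := {f | Dual.of f ∈ W}
      one_mem' := W.zero_mem
      mul_mem' := fun {a b} ha hb => W.add_mem ha hb
      inv_mem' := fun {a} ha => W.neg_mem ha }
  let N : Subgroup G :=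
    { carrier := {g | ∃ hg : g ∈ M, ∀ v ∈ W, v.hom ⟨g, hg⟩ = 1}
      one_mem' := ⟨one_mem _, fun v _ => map_one v.hom⟩
      mul_mem' := by
        rintro a b ⟨ha, ha'⟩ ⟨hb, hb'⟩
        refine ⟨mul_mem ha hb, fun v hv => ?_⟩
        rw [show (⟨a * b, mul_mem ha hb⟩ : M) = ⟨a, ha⟩ * ⟨b, hb⟩ from rfl, map_mul, ha' v hv,
          hb' v hv, one_mul]
      inv_mem' := by
        rintro a ⟨ha, ha'⟩
        refine ⟨inv_mem ha, fun v hv => ?_⟩
        rw [show (⟨a⁻¹, inv_mem ha⟩ : M) = (⟨a, ha⟩ : M)⁻¹ from rfl, map_inv, ha' v hv, inv_one] }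
  have hNn : N.Normal := ⟨fun x hx g => by
    obtain ⟨y, hy, h, hh, rfl⟩ := hgen g
    obtain ⟨hxM, hx'⟩ := hx
    have hhx : h * x * h⁻¹ ∈ M := hMn.conj_mem x hxM h
    have e : y * h * x * (y * h)⁻¹ = h * x * h⁻¹ := by
      have h1 := Subgroup.mem_centralizer_iff.1 hy _ hhx
      calc y * h * x * (y * h)⁻¹ = y * (h * x * h⁻¹) * y⁻¹ := by group
        _ = h * x * h⁻¹ := by rw [← h1, mul_inv_cancel_right]
    rw [e]
    refine ⟨hhx, fun v hv => ?_⟩
    have h2 := hx' _ (hW (⟨h, hh⟩ : H)⁻¹ v hv)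
    rw [← h2]
    show v.hom _ = v.hom (Dual.cjP M ((h⁻¹)⁻¹) ⟨x, hxM⟩)
    exact congrArg v.hom (Subtype.ext (by simp [Dual.cjP]))⟩
  rcases hmin N hNn (fun x hx => hx.1) with hN | hN
  · right
    letI : CommGroup M := { (inferInstance : Group M) with
      mul_comm := fun a b => Subtype.ext (hMc a a.2 b b.2) }
    haveI : Finite (↥M →* ℂˣ) := Nat.finite_of_card_ne_zero
      (by rw [CommGroup.card_monoidHom_of_hasEnoughRootsOfUnity]; exact Nat.card_pos.ne')
    let ev : M →* (W' →* ℂˣ) :=
      { toFun := fun y => { toFun := fun f => (f : ↥M →* ℂˣ) y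
                            map_one' := rfl
                            map_mul' := fun _ _ => rfl }
        map_one' := MonoidHom.ext fun f => map_one (f : ↥M →* ℂˣ)
        map_mul' := fun a b => MonoidHom.ext fun f => map_mul (f : ↥M →* ℂˣ) a b }
    have hinj : Function.Injective ev := by
      rw [injective_iff_map_eq_one]
      intro y hy
      have hmem : (y : G) ∈ N := ⟨y.2, fun v hv => DFunLike.congr_fun hy (⟨v.hom, hv⟩ : W')⟩
      rw [hN, Subgroup.mem_bot] at hmem
      exact Subtype.ext hmem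
    haveI : Finite (W' →* ℂˣ) := Nat.finite_of_card_ne_zero
      (by rw [CommGroup.card_monoidHom_of_hasEnoughRootsOfUnity]; exact Nat.card_pos.ne')
    have h1 := Nat.card_le_card_of_injective ev hinj
    rw [CommGroup.card_monoidHom_of_hasEnoughRootsOfUnity] at h1
    rw [← CommGroup.card_monoidHom_of_hasEnoughRootsOfUnity M ℂ] at h1
    have h2 := Subgroup.eq_top_of_card_eq W' (le_antisymm (Subgroup.card_le_card_group W') h1)
    refine eq_top_iff.2 fun v _ => ?_
    have : v.hom ∈ W' := h2 ▸ Subgroup.mem_top _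
    exact this
  · left
    refine (AddSubgroup.eq_bot_iff_forall _).2 fun v hv => Dual.eq_zero_iff.2 fun y => ?_
    have hy : (y : G) ∈ N := by rw [hN]; exact y.2
    obtain ⟨_, h⟩ := hy
    exact h v hv

/-- A fixed subgroup of the linear characters of a `p`-group has `p`-power order. -/
theorem Dual.card_eq_pow {P : Subgroup G} {p : ℕ} [hp : Fact p.Prime] (hP : IsPGroup p P)
    (W : AddSubgroup (Dual P)) : ∃ k, Nat.card W = p ^ k := by
  haveI : Finite (↥P →* ℂˣ) := Finite.of_equiv _ (linearCharEquiv (G := ↥P)).symm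
  let W' : Subgroup (↥P →* ℂˣ) :=
    { carrier := {f | Dual.of f ∈ W}
      one_mem' := W.zero_mem
      mul_mem' := fun {a b} ha hb => W.add_mem ha hb
      inv_mem' := fun {a} ha => W.neg_mem ha }
  obtain ⟨n, hn⟩ := IsPGroup.iff_card.1 hP
  have hW : IsPGroup p W' := fun f => ⟨n, Subtype.ext (MonoidHom.ext fun y => by
    show (f : ↥P →* ℂˣ) y ^ p ^ n = 1
    rw [← map_pow, ← hn, pow_card_eq_one', map_one])⟩
  obtain ⟨k, hk⟩ := IsPGroup.iff_card.1 hW
  exact ⟨k, hk ▸ Nat.card_congr
    { toFun := fun v => ⟨(v : Dual P).hom, v.2⟩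
      invFun := fun f => ⟨Dual.of f.1, f.2⟩
      left_inv := fun _ => rfl
      right_inv := fun _ => rfl }⟩

/-- A minimal normal subgroup of a solvable group is elementary abelian. -/
theorem minimal_normal_elementary [Group.IsSolvable G] {M : Subgroup G} [hMn : M.Normal]
    (hM1 : M ≠ ⊥) (hmin : ∀ N : Subgroup G, N.Normal → N ≤ M → N = ⊥ ∨ N = M) :
    (∀ a ∈ M, ∀ b ∈ M, a * b = b * a) ∧ ∃ s : ℕ, s.Prime ∧ ∀ a ∈ M, a ^ s = 1 := by
  haveI : Nontrivial M := (Subgroup.nontrivial_iff_ne_bot M).2 hM1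
  have hchar : ∀ N : Subgroup M, N.Characteristic → N = ⊥ ∨ N = ⊤ := fun N hN => by
    haveI : (N.map M.subtype).Normal := ConjAct.normal_of_characteristic_of_normal
    rcases hmin _ inferInstance (Subgroup.map_subtype_le N) with h | h
    · exact Or.inl ((Subgroup.map_eq_bot_iff_of_injective _ M.subtype_injective).1 h)
    · exact Or.inr (Subgroup.map_injective M.subtype_injective (by
        rw [h, ← MonoidHom.range_eq_map, Subgroup.range_subtype]))
  have hc : commutator M = ⊥ := (hchar _ inferInstance).resolve_right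
    (Group.IsSolvable.commutator_lt_top_of_nontrivial M).ne
  have hcomm : ∀ a b : M, a * b = b * a := fun a b => commutatorElement_eq_one_iff_mul_comm.1
    (Subgroup.mem_bot.1 (hc ▸ Subgroup.commutator_mem_commutator (Subgroup.mem_top a)
      (Subgroup.mem_top b)))
  refine ⟨fun a ha b hb => congrArg Subtype.val (hcomm ⟨a, ha⟩ ⟨b, hb⟩), ?_⟩
  set s := (Nat.card M).minFac with hs
  have hsp : s.Prime := Nat.minFac_prime Finite.one_lt_card.ne'
  haveI := Fact.mk hsp
  obtain ⟨x, hx⟩ := exists_prime_orderOf_dvd_card' s (Nat.minFac_dvd (Nat.card M))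
  let E : Subgroup M :=
    { carrier := {a | a ^ s = 1}
      one_mem' := one_pow _
      mul_mem' := fun {a b} (ha : a ^ s = 1) (hb : b ^ s = 1) => by
        show (a * b) ^ s = 1
        rw [Commute.mul_pow (hcomm a b), ha, hb, one_mul]
      inv_mem' := fun {a} (ha : a ^ s = 1) => by
        show a⁻¹ ^ s = 1
        rw [inv_pow, ha, inv_one] }
  haveI : E.Characteristic := Subgroup.characteristic_iff_le_comap.2 fun φ a (ha : a ^ s = 1) => by
    show (φ.toMonoidHom a) ^ s = 1
    rw [← map_pow, ha, map_one]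
  have hE : E = ⊤ := (hchar E inferInstance).resolve_left fun hb => by
    have hxm : x ∈ E := by show x ^ s = 1; rw [← hx, pow_orderOf_eq_one]
    rw [hb, Subgroup.mem_bot] at hxm
    rw [hxm, orderOf_one] at hx
    exact hsp.one_lt.ne hx
  refine ⟨s, hsp, fun a ha => ?_⟩
  have : (⟨a, ha⟩ : M) ∈ E := hE ▸ Subgroup.mem_top _
  exact congrArg Subtype.val this

end CfsgLib.Palfy69
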