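import Cfsg.Agent.Palfy69.Basic

/-!
# Pálfy's condition: no systems of imprimitivity
-/

set_option autoImplicit false
set_option linter.style.haveILetI false

namespace CfsgLib.Palfy69

variable {K : Type*} [Group K] [Finite K] {V : Type*} [AddCommGroup V] [DistribMulAction K V]
  [Finite V]

/-- A system of at least two blocks of at least three elements, transitively permuted. -/
structure Blocks (K : Type*) [Group K] (V : Type*) [AddCommGroup V] [DistribMulAction K V]
    (Ω : Type*) [MulAction K Ω] where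
  /-- The blocks. -/
  B : Ω → AddSubgroup V
  /-- Coordinates. -/
  e : V ≃+ ((i : Ω) → B i)
  e_single : ∀ i (v : V), v ∈ B i → ((e v i : V) = v ∧ ∀ j, j ≠ i → (e v j : V) = 0)
  equiv : ∀ (k : K) (v : V) (i : Ω), (e (k • v) (k • i) : V) = k • (e v i : V)
  two : ∀ i : Ω, ∃ j, j ≠ i
  three : ∀ i, 3 ≤ Nat.card (B i)

variable {Ω : Type*} [MulAction K Ω] [Finite Ω] [MulAction.IsPretransitive K Ω]

theorem Blocks.comp_eq_zero_iff (S : Blocks K V Ω) (k : K) (v : V) (i : Ω) :
    (S.e (k • v) (k • i) : V) = 0 ↔ (S.e v i : V) = 0 := by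
  rw [S.equiv]
  exact ⟨fun h => smul_eq_zero_iff_eq k |>.1 h, fun h => by rw [h, smul_zero]⟩

/-- One uniquely stabilised prime does not divide the number of blocks, and if odd is `3` on four
blocks. -/
theorem Blocks.prime_small (S : Blocks K V Ω) {q : ℕ} [hq : Fact q.Prime] (hu : UniqSylow q K V)
    (Q : Sylow q K) (hmove : ∃ g ∈ (Q : Subgroup K), ∃ v : V, g • v ≠ v) [Nonempty Ω] :
    ¬ q ∣ Nat.card Ω ∧ (3 ≤ q → q = 3 ∧ Nat.card Ω = 4) := by
  classical
  cases nonempty_fintype Ω
  obtain ⟨i₀⟩ := ‹Nonempty Ω›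
  set M := Nat.card (S.B i₀) - 1 with hM
  have hcardB : ∀ i, Nat.card (S.B i) = Nat.card (S.B i₀) := by
    intro i
    obtain ⟨k, hk⟩ := MulAction.exists_smul_eq K i₀ i
    subst hk
    have hin : ∀ (g : K) (j : Ω) (v : V), v ∈ S.B j → g • v ∈ S.B (g • j) := fun g j v hv => by
      have h := S.equiv g v j
      rw [(S.e_single j v hv).1] at h
      exact h ▸ (S.e (g • v) (g • j)).2
    refine Nat.card_congr
      { toFun := fun v => ⟨k⁻¹ • (v : V), by simpa using hin k⁻¹ _ _ v.2⟩
        invFun := fun v => ⟨k • (v : V), hin k _ _ v.2⟩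
        left_inv := fun v => Subtype.ext (smul_inv_smul k (v : V))
        right_inv := fun v => Subtype.ext (inv_smul_smul k (v : V)) }
  have hnz : ∀ i, Nat.card {x : S.B i // x ≠ 0} = M := fun i => by
    rw [hM, ← hcardB i]
    cases nonempty_fintype (S.B i)
    rw [Nat.card_eq_fintype_card, Nat.card_eq_fintype_card, Fintype.card_subtype_compl,
      Fintype.card_subtype_eq]
  have hM2 : 2 ≤ M := by have := S.three i₀; omega
  -- vectors with one component
  let single : V → Prop := fun v => ∃ i, v ∈ S.B i ∧ v ≠ 0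
  let full : V → Prop := fun v => ∀ i, (S.e v i : V) ≠ 0
  have hinB : ∀ (g : K) (j : Ω) (v : V), v ∈ S.B j → g • v ∈ S.B (g • j) := fun g j v hv => by
    have h := S.equiv g v j
    rw [(S.e_single j v hv).1] at h
    exact h ▸ (S.e (g • v) (g • j)).2
  have hdisj : ∀ {i j : Ω} {v : V}, v ∈ S.B i → v ∈ S.B j → v ≠ 0 → i = j := by
    intro i j v hi hj hv
    by_contra hne
    exact hv (by rw [← (S.e_single i v hi).1, (S.e_single j v hj).2 i hne])
  have hsingle : ∀ R : Subgroup K, Nat.card {v : V // single v ∧ v ∈ fix V R} =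
      ∑ i, Nat.card {x : S.B i // x ≠ 0 ∧ (x : V) ∈ fix V R} := by
    intro R
    rw [← Nat.card_sigma]
    refine (Nat.card_congr (Equiv.ofBijective
      (fun z : Σ i, {x : S.B i // x ≠ 0 ∧ (x : V) ∈ fix V R} =>
        (⟨(z.2.1 : V), ⟨z.1, z.2.1.2, fun h => z.2.2.1 (Subtype.ext h)⟩, z.2.2.2⟩ :
          {v : V // single v ∧ v ∈ fix V R})) ⟨?_, ?_⟩)).symm
    · rintro ⟨i, ⟨x, hx⟩, hx0, hxf⟩ ⟨j, ⟨y, hy⟩, hy0, hyf⟩ he
      obtain rfl : x = y := congrArg Subtype.val he
      obtain rfl : i = j := hdisj hx hy fun h => hx0 (Subtype.ext h)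
      rfl
    · rintro ⟨v, ⟨i, hi, hv⟩, hf⟩
      exact ⟨⟨i, ⟨v, hi⟩, fun h => hv (congrArg Subtype.val h), hf⟩, rfl⟩
  have hsingle_all : Nat.card {v : V // single v} = Fintype.card Ω * M := by
    have h := hsingle ⊥
    have e1 : Nat.card {v : V // single v ∧ v ∈ fix V (⊥ : Subgroup K)} =
        Nat.card {v : V // single v} := Nat.card_congr (Equiv.subtypeEquivRight fun v => by
      simp [mem_fix])
    have e2 : ∀ i, Nat.card {x : S.B i // x ≠ 0 ∧ (x : V) ∈ fix V (⊥ : Subgroup K)} = M :=
      fun i => (Nat.card_congr (Equiv.subtypeEquivRight fun v => by simp [mem_fix])).trans (hnz i)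
    rw [e1, Finset.sum_congr rfl fun i _ => e2 i, Finset.sum_const, smul_eq_mul,
      Finset.card_univ] at h
    exact h
  have hfull_all : Nat.card {v : V // full v} = M ^ Fintype.card Ω := by
    rw [Nat.card_congr (Equiv.subtypeEquiv S.e.toEquiv
      (q := fun w : (i : Ω) → S.B i => ∀ i, w i ≠ 0) fun v => forall_congr' fun i => by
        simp), Nat.card_congr (Equiv.subtypePiEquivPi (p := fun i (x : S.B i) => x ≠ 0)),
      Nat.card_pi, Finset.prod_congr rfl fun i _ => hnz i, Finset.prod_const, Finset.card_univ]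
  -- orbits of `Q`
  let O := MulAction.orbitRel.Quotient (Q : Subgroup K) Ω
  haveI : Fintype O := Fintype.ofFinite O
  set a : Ω → ℕ := fun i => Nat.card {x : S.B i // x ≠ 0 ∧ (x : V) ∈ fix V (Q : Subgroup K)}
    with ha
  have haM : ∀ i, a i ≤ M := fun i => by
    rw [← hnz i]
    exact Nat.card_le_card_of_injective (fun x => ⟨x.1, x.2.1⟩)
      fun x y h => Subtype.ext (Subtype.mk.inj h)
  have hfixed : ∀ i, a i ≠ 0 → ∀ g : (Q : Subgroup K), g • i = i := by
    intro i hi g
    obtain ⟨⟨⟨x, hx⟩, hx0, hxf⟩⟩ := (Nat.card_ne_zero.1 hi).1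
    have h := hinB (g : K) i x hx
    rw [hxf g g.2] at h
    exact (hdisj h hx fun h0 => hx0 (Subtype.ext h0))
  set n := Nat.card (Sylow q K) with hn
  have hN1 : n * ∑ i, a i = Fintype.card Ω * M := by
    rw [← hsingle_all, ← hsingle]
    exact card_sylow_mul hu single (by rintro ⟨i, -, h⟩; exact h rfl)
      (fun k v ⟨i, hi, hv⟩ => ⟨k • i, hinB k i v hi, fun h => hv (smul_eq_zero_iff_eq k |>.1 h)⟩) Q
  have hN2 : n * Nat.card {v : V // full v ∧ v ∈ fix V (Q : Subgroup K)} = M ^ Fintype.card Ω := by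
    rw [← hfull_all]
    refine card_sylow_mul hu full (fun h => h i₀ (by simp)) (fun k v hv i => ?_) Q
    have := S.comp_eq_zero_iff k v (k⁻¹ • i)
    rw [smul_inv_smul] at this
    exact fun h0 => hv _ (this.1 h0)
  let sz : O → ℕ := fun o => Nat.card (MulAction.orbit (Q : Subgroup K) o.out)
  let one : Finset O := Finset.univ.filter fun o => sz o = 1
  let big : Finset O := Finset.univ.filter fun o => ¬ sz o = 1
  have hszq : ∀ o, sz o ≠ 1 → q ≤ sz o := fun o ho => by
    obtain ⟨k, hk⟩ := (Q.isPGroup').card_orbit o.out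
    change sz o = q ^ k at hk
    rw [hk] at ho ⊢
    exact Nat.le_self_pow (fun h => ho (by rw [h, pow_zero])) q
  have hsum : Fintype.card Ω = ∑ o, sz o := by
    rw [← Nat.card_eq_fintype_card,
      Nat.card_congr (MulAction.selfEquivSigmaOrbits (Q : Subgroup K) Ω), Nat.card_sigma]
  have ht : one.card + q * big.card ≤ Fintype.card Ω := by
    rw [hsum, ← Finset.sum_filter_add_sum_filter_not Finset.univ (fun o => sz o = 1)]
    refine add_le_add (le_of_eq ?_) ?_
    · rw [Finset.sum_congr rfl fun o ho => (Finset.mem_filter.1 ho).2, Finset.sum_const,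
        smul_eq_mul, mul_one]
    · rw [mul_comm, ← smul_eq_mul, ← Finset.sum_const]
      exact Finset.sum_le_sum fun o ho => hszq o (Finset.mem_filter.1 ho).2
  have hone : ∀ o ∈ one, ∀ g : (Q : Subgroup K), g • o.out = o.out := by
    intro o ho g
    have hs : Subsingleton (MulAction.orbit (Q : Subgroup K) o.out) :=
      (Nat.card_eq_one_iff_unique.1 (Finset.mem_filter.1 ho).2).1
    exact congrArg Subtype.val (@Subsingleton.elim _ hs ⟨g • o.out, MulAction.mem_orbit _ g⟩
      ⟨o.out, MulAction.mem_orbit_self _⟩)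
  have hasum : ∑ i, a i = ∑ o ∈ one, a o.out := by
    rw [← Finset.sum_image (g := fun o : O => o.out) fun x _ y _ h => Quotient.out_inj.1 h]
    refine (Finset.sum_subset (Finset.subset_univ _) fun i _ hi => ?_).symm
    by_contra hai
    refine hi (Finset.mem_image.2 ⟨Quotient.mk'' i, ?_, ?_⟩)
    · refine Finset.mem_filter.2 ⟨Finset.mem_univ _, ?_⟩
      have hout : (Quotient.mk'' i : O).out = i := by
        have := Quotient.mk_out (s := MulAction.orbitRel (Q : Subgroup K) Ω) i
        obtain ⟨g, hg⟩ := this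
        exact hg.symm.trans (hfixed i hai g)
      change Nat.card (MulAction.orbit (Q : Subgroup K) (Quotient.mk'' i : O).out) = 1
      rw [hout, Nat.card_eq_one_iff_unique]
      refine ⟨⟨fun x y => Subtype.ext ?_⟩, ⟨⟨i, MulAction.mem_orbit_self i⟩⟩⟩
      obtain ⟨g, hg⟩ := x.2
      obtain ⟨g', hg'⟩ := y.2
      rw [← hg, ← hg']
      simp only [hfixed i hai]
    · have := Quotient.mk_out (s := MulAction.orbitRel (Q : Subgroup K) Ω) i
      obtain ⟨g, hg⟩ := this
      exact hg.symm.trans (hfixed i hai g)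
  -- full vectors fixed by `Q`
  have hF : Nat.card {v : V // full v ∧ v ∈ fix V (Q : Subgroup K)} ≤
      (∏ o ∈ one, a o.out) * M ^ big.card := by
    let T : O → Type _ := fun o => {x : S.B o.out //
      x ≠ 0 ∧ (sz o = 1 → (x : V) ∈ fix V (Q : Subgroup K))}
    refine le_trans (Nat.card_le_card_of_injective
      (fun v (o : O) => (⟨S.e v.1 o.out, fun h => v.2.1 o.out (congrArg Subtype.val h),
        fun ho g hg => ?_⟩ : T o)) ?_) ((le_of_eq (Nat.card_pi (β := T))).trans ?_)
    · have h := S.equiv g v.1 o.out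
      rw [v.2.2 g hg] at h
      rw [← h, show g • o.out = o.out from hone o (Finset.mem_filter.2 ⟨Finset.mem_univ _, ho⟩)
        ⟨g, hg⟩]
    · intro v w hvw
      refine Subtype.ext (S.e.injective (funext fun i => Subtype.ext ?_))
      obtain ⟨g, hg⟩ := Quotient.mk_out (s := MulAction.orbitRel (Q : Subgroup K) Ω) i
      have hg' : (g : K)⁻¹ • (Quotient.mk'' i : O).out = i := by
        rw [inv_smul_eq_iff]; exact hg.symm
      have h : (S.e v.1 (Quotient.mk'' i : O).out : V) = S.e w.1 (Quotient.mk'' i : O).out :=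
        congrArg Subtype.val (congrArg Subtype.val (congrFun hvw (Quotient.mk'' i)))
      have hv := S.equiv (g : K)⁻¹ v.1 (Quotient.mk'' i : O).out
      have hw := S.equiv (g : K)⁻¹ w.1 (Quotient.mk'' i : O).out
      rw [hg', v.2.2 _ (inv_mem g.2)] at hv
      rw [hg', w.2.2 _ (inv_mem g.2)] at hw
      rw [hv, hw, h]
    · rw [← Finset.prod_filter_mul_prod_filter_not Finset.univ (fun o => sz o = 1)]
      refine Nat.mul_le_mul (le_of_eq (Finset.prod_congr rfl fun o ho => ?_)) ?_
      · exact Nat.card_congr (Equiv.subtypeEquivRight fun x => and_congr_right fun _ =>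
          ⟨fun h => h (Finset.mem_filter.1 ho).2, fun h _ => h⟩)
      · refine (Finset.prod_le_prod' (g := fun _ => M) fun o _ => ?_).trans
          (le_of_eq (Finset.prod_const _))
        rw [← hnz o.out]
        exact Nat.card_le_card_of_injective (fun x : T o => ⟨x.1, x.2.1⟩)
          fun x y h => Subtype.ext (Subtype.mk.inj h)
  have htM : 0 < Fintype.card Ω * M := Nat.mul_pos Fintype.card_pos (by omega)
  have hn0 : 0 < n := Nat.card_pos
  have hf : 0 < one.card := by
    refine Nat.pos_of_ne_zero fun h0 => htM.ne' ?_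
    rw [← hN1, hasum, Finset.card_eq_zero.1 h0, Finset.sum_empty, mul_zero]
  refine ⟨fun hdvd => ?_, fun h3 => ?_⟩
  · obtain ⟨o, ho⟩ := Finset.card_pos.1 hf
    refine Sylow.not_dvd_index Q (hdvd.trans ?_)
    rw [← MulAction.index_stabilizer_of_transitive (G := K) o.out]
    exact Subgroup.index_dvd_of_le fun g hg => hone o ho ⟨g, hg⟩
  · rw [Nat.card_eq_fintype_card]
    rcases Nat.eq_zero_or_pos big.card with hc | hc
    · exfalso
      have hall : ∀ (g : (Q : Subgroup K)) (i : Ω), g • i = i := by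
        intro g i
        have ho : (Quotient.mk'' i : O) ∈ one := Finset.mem_filter.2 ⟨Finset.mem_univ _, by
          by_contra h1
          have hb : (Quotient.mk'' i : O) ∈ big := Finset.mem_filter.2 ⟨Finset.mem_univ _, h1⟩
          rw [Finset.card_eq_zero.1 hc] at hb
          exact Finset.notMem_empty _ hb⟩
        obtain ⟨g', hg'⟩ := Quotient.mk_out (s := MulAction.orbitRel (Q : Subgroup K) Ω) i
        have h : g'⁻¹ • (Quotient.mk'' i : O).out = i := by rw [inv_smul_eq_iff]; exact hg'.symm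
        rw [hone _ ho g'⁻¹] at h
        rw [← h]
        exact hone _ ho g
      obtain ⟨g, hg, v, hv⟩ := hmove
      obtain ⟨k, hk⟩ : ∃ i, (S.e (g • v) i : V) ≠ S.e v i := by
        by_contra h
        push Not at h
        exact hv (S.e.injective (funext fun i => Subtype.ext (h i)))
      have hak : a k < M := by
        refine lt_of_le_of_ne (haM k) fun he => hk ?_
        have hcomp := S.equiv g v k
        rw [show g • k = k from hall ⟨g, hg⟩ k] at hcomp
        rw [hcomp]
        rcases eq_or_ne (S.e v k) 0 with h0 | h0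
        · rw [h0]; simp
        have hinj : Function.Injective
            (fun x : {x : S.B k // x ≠ 0 ∧ (x : V) ∈ fix V (Q : Subgroup K)} =>
              (⟨x.1, x.2.1⟩ : {x : S.B k // x ≠ 0})) :=
          fun x y h => Subtype.ext (Subtype.mk.inj h)
        obtain ⟨x, hx⟩ := (hinj.bijective_of_nat_card_le (by rw [hnz k]; exact he.ge)).2
          ⟨S.e v k, h0⟩
        exact (Subtype.mk.inj hx) ▸ x.2.2 g hg
      obtain ⟨j, hj⟩ := S.two k
      have hprod : (∏ o ∈ one, a o.out) = ∏ i, a i := by
        rw [← Finset.prod_image (g := fun o : O => o.out) fun x _ y _ h => Quotient.out_inj.1 h]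
        refine Finset.prod_congr (Finset.eq_univ_of_forall fun i => Finset.mem_image.2
          ⟨Quotient.mk'' i, ?_, ?_⟩) fun _ _ => rfl
        · refine Finset.mem_filter.2 ⟨Finset.mem_univ _, Nat.card_eq_one_iff_unique.2
            ⟨⟨fun x y => Subtype.ext ?_⟩, ⟨⟨_, MulAction.mem_orbit_self _⟩⟩⟩⟩
          obtain ⟨g, hg⟩ := x.2
          obtain ⟨g', hg'⟩ := y.2
          rw [← hg, ← hg']
          simp only [hall]
        · obtain ⟨g', hg'⟩ := Quotient.mk_out (s := MulAction.orbitRel (Q : Subgroup K) Ω) i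
          exact hg'.symm.trans (hall g' i)
      rw [hprod, hc, pow_zero, mul_one] at hF
      have hFpos : M ^ Fintype.card Ω ≤ n * ∏ i, a i := hN2 ▸ Nat.mul_le_mul_left n hF
      have hpos : ∀ i, 0 < a i := fun i => Nat.pos_of_ne_zero fun h0 => by
        rw [Finset.prod_eq_zero (Finset.mem_univ i) h0, mul_zero] at hFpos
        exact absurd hFpos (Nat.pow_pos (show 0 < M by omega)).not_ge
      have hlt := Nat.mul_lt_mul_of_pos_left (card_mul_prod_lt a M haM hpos hak hj) hn0
      rw [← mul_assoc n (∑ i, a i), hN1, mul_assoc,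
        ← pow_succ', Nat.sub_add_cancel Fintype.card_pos] at hlt
      have h1 := Nat.mul_le_mul_left (Fintype.card Ω) hFpos
      exact absurd (lt_of_lt_of_le hlt h1) (not_lt.2 (le_of_eq (by ring)))
    refine small_blocks h3 hc hf hM2 ht ?_
    have h1 := card_mul_prod_le one (fun o => a o.out) M fun o _ => haM _
    have h2 : one.card * M ^ Fintype.card Ω ≤ Fintype.card Ω * M ^ (one.card + big.card) := by
      calc one.card * M ^ Fintype.card Ω
          ≤ one.card * (n * ((∏ o ∈ one, a o.out) * M ^ big.card)) := by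
            rw [← hN2]; exact Nat.mul_le_mul_left _ (Nat.mul_le_mul_left _ hF)
        _ = n * ((one.card * ∏ o ∈ one, a o.out) * M ^ big.card) := by ring
        _ ≤ n * (((∑ o ∈ one, a o.out) * M ^ (one.card - 1)) * M ^ big.card) :=
            Nat.mul_le_mul_left _ (Nat.mul_le_mul_right _ h1)
        _ = (n * ∑ i, a i) * (M ^ (one.card - 1) * M ^ big.card) := by rw [hasum]; ring
        _ = Fintype.card Ω * (M ^ (one.card - 1 + 1) * M ^ big.card) := by rw [hN1]; ring
        _ = _ := by rw [Nat.sub_add_cancel hf, pow_add]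
    have hsplit : Fintype.card Ω = (Fintype.card Ω - one.card - big.card) +
        (one.card + big.card) := by
      have : 1 * big.card ≤ q * big.card := Nat.mul_le_mul_right _ (by omega)
      omega
    rw [hsplit, pow_add, ← hsplit, ← mul_assoc] at h2
    exact Nat.le_of_mul_le_mul_right h2 (Nat.pow_pos (by omega))

/-- Two uniquely stabilised primes leave no system of imprimitivity. -/
theorem Blocks.false (S : Blocks K V Ω) [Nonempty Ω] {q r : ℕ} [hq : Fact q.Prime]
    [hr : Fact r.Prime] (hne : q ≠ r) (huq : UniqSylow q K V) (hur : UniqSylow r K V)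
    (Q : Sylow q K) (hmq : ∃ g ∈ (Q : Subgroup K), ∃ v : V, g • v ≠ v) (R : Sylow r K)
    (hmr : ∃ g ∈ (R : Subgroup K), ∃ v : V, g • v ≠ v) : False := by
  obtain ⟨h1, h1'⟩ := S.prime_small huq Q hmq
  obtain ⟨h2, h2'⟩ := S.prime_small hur R hmr
  have := hq.out.two_le
  have := hr.out.two_le
  by_cases hq3 : 3 ≤ q <;> by_cases hr3 : 3 ≤ r
  · have := (h1' hq3).1; have := (h2' hr3).1; omega
  · rw [(h1' hq3).2, show r = 2 by omega] at h2; exact h2 (by norm_num)
  · rw [(h2' hr3).2, show q = 2 by omega] at h1; exact h1 (by norm_num)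
  · omega

end CfsgLib.Palfy69
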