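import Cfsg.Agent.Palfy69.CoreAction
import Cfsg.Agent.DegreeGraph.Basic
import Cfsg.Agent.OddOrderChar.Clifford
import Cfsg.Agent.ThreeDegrees.Bad
import Cfsg.Agent.S4713

/-!
# Pálfy's condition: the main lemma

Two primes that are uniquely stabilised in a faithful irreducible action of a solvable group
divide a common character degree.
-/

set_option autoImplicit false
set_option linter.style.haveILetI false
set_option linter.unusedSectionVars false

namespace CfsgLib.Palfy69

open scoped commutatorElement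
open CfsgLib.Characters CfsgLib.OddOrderChar CfsgLib.CharactersDeep

universe u

variable {K : Type u} [Group K] [Finite K] {V : Type*} [AddCommGroup V] [DistribMulAction K V]
  [Finite V] {s q r : ℕ} {A : Subgroup K}

theorem Hyp.not_dvd_card (h : Hyp K V s q r) (hA : MaxAb A) : ¬ q ∣ Nat.card A := by
  haveI := Fact.mk h.prime_q
  haveI := hA.normal
  intro hd
  obtain ⟨x, hx⟩ := exists_prime_orderOf_dvd_card' q hd
  let E : Subgroup K :=
    { carrier := {a | a ∈ A ∧ a ^ q = 1}
      one_mem' := ⟨one_mem _, one_pow _⟩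
      mul_mem' := fun {a b} ha hb => ⟨mul_mem ha.1 hb.1, by
        rw [Commute.mul_pow (hA.comm a ha.1 b hb.1), ha.2, hb.2, one_mul]⟩
      inv_mem' := fun {a} ha => ⟨inv_mem ha.1, by rw [inv_pow, ha.2, inv_one]⟩ }
  haveI : E.Normal := ⟨fun a ha g => ⟨hA.normal.conj_mem a ha.1 g, by rw [conj_pow, ha.2]; simp⟩⟩
  have hE := h.eq_bot_of_q E fun a => ⟨1, Subtype.ext (by simpa using a.2.2)⟩
  have hmem : (x : K) ∈ E := ⟨x.2, by
    rw [← SubmonoidClass.coe_pow, ← hx, pow_orderOf_eq_one]; rfl⟩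
  rw [hE, Subgroup.mem_bot] at hmem
  have hx1 : x = 1 := Subtype.ext hmem
  rw [hx1, orderOf_one] at hx
  exact h.prime_q.one_lt.ne hx

theorem sylow_le_of_not_dvd_index {w : ℕ} [Fact w.Prime] (C : Subgroup K) [C.Normal]
    (hC : ¬ w ∣ C.index) (Q : Sylow w K) : (Q : Subgroup K) ≤ C := fun g hg => by
  obtain ⟨m, hm⟩ := Q.isPGroup' ⟨g, hg⟩
  have hm' : g ^ w ^ m = 1 := congrArg Subtype.val hm
  have h1 : orderOf (QuotientGroup.mk' C g) ∣ w ^ m :=
    (orderOf_map_dvd _ g).trans (orderOf_dvd_of_pow_eq_one hm')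
  have h2 : orderOf (QuotientGroup.mk' C g) ∣ C.index :=
    Subgroup.index_eq_card C ▸ orderOf_dvd_natCard _
  have h3 := Nat.eq_one_of_dvd_coprimes
    (((Fact.out : w.Prime).coprime_iff_not_dvd.2 hC).pow_left m) h1 h2
  exact (QuotientGroup.eq_one_iff g).1 (orderOf_eq_one_iff.1 h3)

/-- The cores of `C(A)`. -/
noncomputable def coreOf (A : Subgroup K) (u : ℕ) : Subgroup K :=
  (Cfsg.pCore u ↥(Subgroup.centralizer (A : Set K))).map
    (Subgroup.centralizer (A : Set K)).subtype

theorem core_coreOf (hA : MaxAb A) {u : ℕ} (hu : u.Prime) : Core A (coreOf A u) u := by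
  haveI := hA.normal
  haveI := Fact.mk hu
  haveI : (Subgroup.centralizer (A : Set K)).Normal := Subgroup.normal_centralizer
  haveI := Solvable.pCore_characteristic (G := ↥(Subgroup.centralizer (A : Set K))) u
  refine ⟨ConjAct.normal_of_characteristic_of_normal, hu,
    (Solvable.isPGroup_pCore _).map _, ?_⟩
  rintro _ ⟨a, -, rfl⟩ b hb
  exact (Subgroup.mem_centralizer_iff.1 a.2 b hb).symm

/-- A prime inside `C(A)` is `3`, the `2`-core has tiny centre, and the prime centralizes the other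
cores. -/
theorem Hyp.exceptional [Group.IsSolvable K] (h : Hyp K V s q r) (hA : MaxAb A)
    (hq : ¬ q ∣ (Subgroup.centralizer (A : Set K)).index) :
    haveI := Fact.mk h.prime_q
    q = 3 ∧ TinyCentre A (coreOf A 2) ∧ ∀ u : ℕ, u.Prime → u ≠ 2 → ∀ Q : Sylow q K,
      ∀ g ∈ (Q : Subgroup K), ∀ x ∈ coreOf A u, g * x = x * g := by
  haveI := Fact.mk h.prime_q
  haveI := hA.normal
  haveI : (Subgroup.centralizer (A : Set K)).Normal := Subgroup.normal_centralizer
  have hC : ∀ (Q : Sylow q K), ∀ g ∈ (Q : Subgroup K), ∀ a ∈ A, g * a = a * g :=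
    fun Q g hg a ha => (Subgroup.mem_centralizer_iff.1
      (sylow_le_of_not_dvd_index _ hq Q hg) a ha).symm
  have hact := fun (u : ℕ) (hu : u.Prime) =>
    h.core_action hA (core_coreOf hA hu) fun Q g hg a _ ha => hC Q g hg a ha
  by_cases hall : ∀ u : ℕ, u.Prime → ∀ (Q : Sylow q K), ∀ g ∈ (Q : Subgroup K),
      ∀ x ∈ coreOf A u, g * x = x * g
  · exfalso
    obtain ⟨v, hv⟩ := h.nz
    obtain ⟨Q, hQ⟩ := (h.uq v hv).exists
    obtain ⟨g, hg, hg1⟩ : ∃ g ∈ (Q : Subgroup K), g ≠ 1 := by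
      by_contra hno
      push Not at hno
      exact Q.ne_bot_of_dvd_card h.dvd_q ((Subgroup.eq_bot_iff_forall _).2 hno)
    have hgA : g ∈ A := hA.mem_of_centralizes (hC Q g hg) fun u hu y hy => hall u hu Q g hg y hy
    exact hv ((h.abelian A hA.comm).1 g hgA hg1 v (hQ hg))
  · push Not at hall
    obtain ⟨u, hu, Q, g, hg, x, hx, hne⟩ := hall
    rcases hact u hu with hc | ⟨rfl, h3, htiny⟩
    · exact absurd (hc Q g hg x hx) hne
    · refine ⟨h3, htiny, fun u' hu' hu2 => ?_⟩
      exact (hact u' hu').resolve_right fun hh => hu2 hh.1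

/-- The case where `r` moves `A`. -/
theorem Hyp.false_of_inside [Group.IsSolvable K] (h : Hyp K V s q r) (hA : MaxAb A)
    (hq : ¬ q ∣ (Subgroup.centralizer (A : Set K)).index) : False := by
  classical
  haveI := Fact.mk h.prime_q
  haveI := Fact.mk h.prime_r
  haveI := hA.normal
  set C := Subgroup.centralizer (A : Set K) with hCdef
  haveI : C.Normal := Subgroup.normal_centralizer
  obtain ⟨hq3, htiny, hodd⟩ := h.exceptional hA hq
  have hr : r ∣ C.index := by
    by_contra hr
    exact h.ne (hq3.trans (h.symm.exceptional hA hr).1.symm)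
  obtain ⟨z, hz1, hzO, hzA, hz⟩ := htiny
  have hcore := core_coreOf hA (K := K) Nat.prime_two
  have hzc : ∀ k : K, k * z = z * k := fun k => by
    rcases hz (k * z * k⁻¹) (hcore.normal.conj_mem z hzO k) (hA.normal.conj_mem z hzA k) with
      h1 | h1
    · exact absurd (conj_eq_one_iff.1 h1) hz1
    · exact mul_inv_eq_iff_eq_mul.1 h1
  have hR2 : ∀ (R : Sylow r K), ∀ g ∈ (R : Subgroup K), ∀ x ∈ coreOf A 2, g * x = x * g :=
    (h.symm.core_action hA hcore fun R g _ a haO haA => by
      rcases hz a haO haA with rfl | rfl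
      · rw [mul_one, one_mul]
      · exact hzc g).resolve_right fun hh => h.ne (hq3.trans hh.2.1.symm)
  -- the subgroup generated by the Sylow `q`-subgroups
  obtain ⟨Q⟩ := (inferInstance : Nonempty (Sylow q K))
  set H := Subgroup.normalClosure ((Q : Subgroup K) : Set K) with hH
  have hHC : H ≤ C := Subgroup.normalClosure_le_normal (sylow_le_of_not_dvd_index _ hq Q)
  have hHodd : ∀ u : ℕ, u.Prime → u ≠ 2 →
      H ≤ Subgroup.centralizer (coreOf A u : Set K) := fun u hu hu2 => by
    haveI := (core_coreOf hA hu).normal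
    haveI : (Subgroup.centralizer (coreOf A u : Set K)).Normal := Subgroup.normal_centralizer
    exact Subgroup.normalClosure_le_normal fun g hg =>
      Subgroup.mem_centralizer_iff.2 fun y hy => (hodd u hu hu2 Q g hg y hy).symm
  have hHn : H.Normal := Subgroup.normalClosure_normal
  have hcA : ∀ h₁ ∈ H, ∀ a ∈ A, h₁ * a = a * h₁ := fun h₁ h₁H a ha =>
    (Subgroup.mem_centralizer_iff.1 (hHC h₁H) a ha).symm
  obtain ⟨R⟩ := (inferInstance : Nonempty (Sylow r K))
  have hcomm : ∀ g ∈ (R : Subgroup K), ∀ x ∈ H, ⁅g, x⁆ ∈ A := by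
    intro g hg x hx
    have hxH : ⁅g, x⁆ ∈ H := mul_mem (hHn.conj_mem x hx g) (inv_mem hx)
    refine hA.mem_of_centralizes (hcA _ hxH) fun u hu y hy => ?_
    by_cases hu2 : u = 2
    · subst hu2
      haveI := hcore.normal
      haveI : (Subgroup.centralizer (coreOf A 2 : Set K)).Normal := Subgroup.normal_centralizer
      have hgc : g ∈ Subgroup.centralizer (coreOf A 2 : Set K) :=
        Subgroup.mem_centralizer_iff.2 fun w hw => (hR2 R g hg w hw).symm
      have hc : ⁅g, x⁆ ∈ Subgroup.centralizer (coreOf A 2 : Set K) := by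
        rw [show ⁅g, x⁆ = g * (x * g⁻¹ * x⁻¹) by simp only [commutatorElement_def]; group]
        exact mul_mem hgc (Subgroup.Normal.conj_mem inferInstance _ (inv_mem hgc) x)
      exact (Subgroup.mem_centralizer_iff.1 hc y hy).symm
    · exact (Subgroup.mem_centralizer_iff.1 (hHodd u hu hu2 hxH) y hy).symm
  have hcqA := h.not_dvd_card hA
  have hRH : ∀ g ∈ (R : Subgroup K), ∀ x ∈ H, g * x = x * g := by
    intro g hg x hx
    suffices hle : H ≤ H ⊓ Subgroup.centralizer ({g} : Set K) from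
      (Subgroup.mem_centralizer_singleton_iff.1 (hle hx).2).symm
    rw [hH, Subgroup.normalClosure, Subgroup.closure_le]
    intro y hy
    have hyH : y ∈ H := Subgroup.subset_closure hy
    refine ⟨hyH, Subgroup.mem_centralizer_singleton_iff.2 (Eq.symm ?_)⟩
    obtain ⟨k₀, hk₀, hconj⟩ := Group.mem_conjugatesOfSet_iff.1 hy
    obtain ⟨k, rfl⟩ := isConj_iff.1 hconj
    obtain ⟨m, hm⟩ := Q.isPGroup' ⟨k₀, hk₀⟩
    have hm' : k₀ ^ q ^ m = 1 := congrArg Subtype.val hm
    have hpow : ∀ n : ℕ, ⁅g, (k * k₀ * k⁻¹) ^ n⁆ = ⁅g, k * k₀ * k⁻¹⁆ ^ n := by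
      intro n
      induction n with
      | zero => simp
      | succ n ih =>
        rw [pow_succ, show ⁅g, (k * k₀ * k⁻¹) ^ n * (k * k₀ * k⁻¹)⁆ =
          ⁅g, (k * k₀ * k⁻¹) ^ n⁆ * ((k * k₀ * k⁻¹) ^ n * ⁅g, k * k₀ * k⁻¹⁆ *
            ((k * k₀ * k⁻¹) ^ n)⁻¹) by simp only [commutatorElement_def]; group,
          hcA _ (pow_mem hyH n) _ (hcomm g hg _ hyH), mul_inv_cancel_right, ih, pow_succ]
    have h1 : ⁅g, k * k₀ * k⁻¹⁆ ^ q ^ m = 1 := by
      rw [← hpow, conj_pow, hm', mul_one, mul_inv_cancel, commutatorElement_one_right]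
    have h2 : (⟨_, hcomm g hg _ hyH⟩ : A) ^ Nat.card A = 1 := pow_card_eq_one'
    have h3 : ⁅g, k * k₀ * k⁻¹⁆ = 1 := orderOf_eq_one_iff.1
      (Nat.eq_one_of_dvd_coprimes ((h.prime_q.coprime_iff_not_dvd.2 hcqA).pow_left m)
        (orderOf_dvd_of_pow_eq_one h1) (orderOf_dvd_of_pow_eq_one (congrArg Subtype.val h2)))
    exact commutatorElement_eq_one_iff_mul_comm.1 h3
  -- a linear character of `A` trivial on `A ∩ H` and moved by `R`
  obtain ⟨g, hg, a, ha, hga⟩ : ∃ g ∈ (R : Subgroup K), ∃ a ∈ A, g * a ≠ a * g := by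
    by_contra hno
    push Not at hno
    have hle : (R : Subgroup K) ≤ C := fun g hg =>
      Subgroup.mem_centralizer_iff.2 fun a ha => (hno g hg a ha).symm
    exact Sylow.not_dvd_index R (hr.trans (Subgroup.index_dvd_of_le hle))
  set w := a⁻¹ * (g * a * g⁻¹) with hw
  have hwA : w ∈ A := mul_mem (inv_mem ha) (hA.normal.conj_mem a ha g)
  have hwH : w ∉ H := fun hm => by
    have hgw := hRH g hg w hm
    have hn : ∀ n : ℕ, g ^ n * a * (g ^ n)⁻¹ = a * w ^ n := by
      intro n
      induction n with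
      | zero => simp
      | succ n ih =>
        calc g ^ (n + 1) * a * (g ^ (n + 1))⁻¹ = g * (g ^ n * a * (g ^ n)⁻¹) * g⁻¹ := by
              rw [pow_succ', mul_inv_rev]; group
          _ = (g * a * g⁻¹) * (g * w ^ n * g⁻¹) := by rw [ih]; group
          _ = (g * a * g⁻¹) * w ^ n := by
              rw [(Commute.pow_right hgw n).eq, mul_inv_cancel_right]
          _ = a * w ^ (n + 1) := by
              rw [show g * a * g⁻¹ = a * w by rw [hw]; group, pow_succ', mul_assoc]
    obtain ⟨m, hm'⟩ := R.isPGroup' ⟨g, hg⟩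
    have h1 := hn (r ^ m)
    rw [show g ^ r ^ m = 1 from congrArg Subtype.val hm', one_mul, inv_one, mul_one,
      left_eq_mul] at h1
    have h2 : (⟨w, hwA⟩ : A) ^ Nat.card A = 1 := pow_card_eq_one'
    have h3 : w = 1 := orderOf_eq_one_iff.1 (Nat.eq_one_of_dvd_coprimes
      ((h.prime_r.coprime_iff_not_dvd.2 (h.symm.not_dvd_card hA)).pow_left m)
      (orderOf_dvd_of_pow_eq_one h1) (orderOf_dvd_of_pow_eq_one (congrArg Subtype.val h2)))
    rw [hw, inv_mul_eq_one, eq_mul_inv_iff_mul_eq] at h3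
    exact hga h3.symm
  letI : CommGroup A := { (inferInstance : Group A) with
    mul_comm := fun a b => Subtype.ext (hA.comm a a.2 b b.2) }
  obtain ⟨lam, hlam1, hlamw⟩ : ∃ lam : A →* ℂˣ, (∀ y ∈ H.subgroupOf A, lam y = 1) ∧
      lam ⟨w, hwA⟩ ≠ 1 := by
    by_contra hno
    push Not at hno
    exact hwH (Subgroup.mem_subgroupOf.1
      ((CommGroup.forall_monoidHom_apply_eq_one_iff ℂ (H.subgroupOf A) ⟨w, hwA⟩).1 hno))
  let cj : K → A → A := fun k x => ⟨k * x * k⁻¹, hA.normal.conj_mem x x.2 k⟩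
  have hcj : ∀ k k' x, cj k (cj k' x) = cj (k * k') x := fun k k' x => Subtype.ext (by
    show k * (k' * x * k'⁻¹) * k⁻¹ = k * k' * x * (k * k')⁻¹
    group)
  haveI := (h.abelian A hA.comm).2
  have hcomm2 : ∀ k k' x, cj k (cj k' x) = cj k' (cj k x) := by
    intro k k' x
    let σ : K → (A →* A) := fun k =>
      { toFun := cj k
        map_one' := Subtype.ext (by simp [cj])
        map_mul' := fun a b => Subtype.ext (by simp [cj, mul_assoc]) }
    obtain ⟨i, hi⟩ := MonoidHom.map_cyclic (σ k)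
    obtain ⟨j, hj⟩ := MonoidHom.map_cyclic (σ k')
    show σ k (σ k' x) = σ k' (σ k x)
    rw [hi, hj, hj, hi, ← zpow_mul, ← zpow_mul, mul_comm]
  have hcjinv : ∀ k x, cj k⁻¹ (cj k x) = x := fun k x => Subtype.ext (by simp [cj, mul_assoc])
  let T : Subgroup K :=
    { carrier := {k | ∀ x, lam (cj k x) = lam x}
      one_mem' := fun x => congrArg lam (Subtype.ext (by simp [cj]))
      mul_mem' := fun {k k'} hk hk' x => by rw [← hcj, hk, hk']
      inv_mem' := fun {k} hk x => by
        have := hk (cj k⁻¹ x)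
        rw [hcomm2 k k⁻¹, hcjinv] at this
        exact this.symm }
  haveI hTn : T.Normal := ⟨fun t ht k x => by
    rw [← hcj, ← hcj, hcomm2 t k⁻¹, hcomm2 k k⁻¹, hcjinv]
    exact ht x⟩
  have hgT : g ∉ T := fun hm => hlamw (by
    have h1 := hm ⟨a, ha⟩
    have e : cj g ⟨a, ha⟩ = (⟨a, ha⟩ : A) * ⟨w, hwA⟩ := Subtype.ext (by
      show g * a * g⁻¹ = a * w
      rw [hw]; group)
    rwa [e, map_mul, mul_eq_left] at h1)
  have hrT : r ∣ T.index := by
    by_contra hno
    exact hgT (sylow_le_of_not_dvd_index T hno R hg)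
  -- a character of `H` of degree divisible by `q` that is trivial on `A ∩ H`
  set A₁ := A.subgroupOf H with hA₁
  haveI : A₁.Normal := Subgroup.normal_subgroupOf
  have hQH : (Q : Subgroup K) ≤ H := Subgroup.le_normalClosure
  have hqH : q ∣ Nat.card H :=
    (h.dvd_q |> fun _ => (Q.dvd_card_of_dvd_card h.dvd_q)).trans (Subgroup.card_dvd_of_le hQH)
  obtain ⟨ψ, hψq⟩ : ∃ ψ : Cfsg.IrrCharacter (H ⧸ A₁),
      q ∣ Cfsg.charDegree (ψ : H ⧸ A₁ → ℂ) := by
    by_contra hno
    push Not at hno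
    obtain ⟨P⟩ := (inferInstance : Nonempty (Sylow q H))
    have hsurj : Function.Surjective (QuotientGroup.mk' A₁) := QuotientGroup.mk'_surjective _
    have hPn := ((Cfsg.Agent.S4713.result q PLocal.isPSolvable_of_isSolvable
      (Sylow.mapSurjective hsurj P)).2 hno).1
    have hP : (P : Subgroup H).Normal := by
      refine ⟨fun x hx k => ?_⟩
      obtain ⟨y, hy, hyx⟩ : QuotientGroup.mk' A₁ (k * x * k⁻¹) ∈
          (P : Subgroup H).map (QuotientGroup.mk' A₁) := by
        rw [map_mul, map_mul, map_inv]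
        exact hPn.conj_mem _ ⟨x, hx, rfl⟩ _
      set e := y⁻¹ * (k * x * k⁻¹) with he
      have heA : (e : K) ∈ A := Subgroup.mem_subgroupOf.1 (QuotientGroup.eq.1 hyx)
      have hye : y * e = e * y := Subtype.ext (hcA _ y.2 _ heA)
      have he' : k * x * k⁻¹ = y * e := by rw [he]; group
      obtain ⟨m, hm⟩ := P.isPGroup' ⟨x, hx⟩
      obtain ⟨n, hn⟩ := P.isPGroup' ⟨y, hy⟩
      have hm' : x ^ q ^ m = 1 := congrArg Subtype.val hm
      have hn' : y ^ q ^ n = 1 := congrArg Subtype.val hn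
      have h1 : e ^ q ^ (m + n) = 1 := by
        have h' : (y * e) ^ q ^ (m + n) = 1 := by
          rw [← he', conj_pow, pow_add, pow_mul, hm', one_pow, mul_one, mul_inv_cancel]
        rw [Commute.mul_pow hye, show q ^ (m + n) = q ^ n * q ^ m by rw [pow_add]; ring,
          pow_mul y, hn', one_pow, one_mul] at h'
        rw [pow_add]
        rwa [mul_comm (q ^ n)] at h'
      have h2 : (⟨(e : K), heA⟩ : A) ^ Nat.card A = 1 := pow_card_eq_one'
      have h3 : (e : K) = 1 := orderOf_eq_one_iff.1 (Nat.eq_one_of_dvd_coprimes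
        ((h.prime_q.coprime_iff_not_dvd.2 hcqA).pow_left (m + n))
        (orderOf_dvd_of_pow_eq_one (congrArg Subtype.val h1))
        (orderOf_dvd_of_pow_eq_one (congrArg Subtype.val h2)))
      rw [he', show e = 1 from Subtype.ext h3, mul_one]
      exact hy
    haveI := hP
    haveI : (P : Subgroup H).Characteristic := Sylow.characteristic_of_normal P hP
    haveI : ((P : Subgroup H).map H.subtype).Normal := ConjAct.normal_of_characteristic_of_normal
    have hb := h.eq_bot_of_q _ (P.isPGroup'.map H.subtype)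
    refine P.ne_bot_of_dvd_card hqH ?_
    exact (Subgroup.map_eq_bot_iff_of_injective _ H.subtype_injective).1 hb
  haveI := Fintype.ofFinite (H ⧸ A₁)
  obtain ⟨dψ, -, hdψ⟩ := exists_degree_pos ψ.2
  rw [DegreeGraph.charDegree_eq hdψ] at hψq
  -- glue it with `lam` on `H A`
  set M := H ⊔ A with hM
  haveI : M.Normal := Subgroup.sup_normal H A
  let π : H × A →* M :=
    { toFun := fun p => ⟨(p.1 : K) * p.2,
        mul_mem (Subgroup.mem_sup_left p.1.2) (Subgroup.mem_sup_right p.2.2)⟩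
      map_one' := Subtype.ext (by simp)
      map_mul' := fun p p' => Subtype.ext (by
        show ((p.1 : K) * p'.1) * ((p.2 : K) * p'.2) = (p.1 * p.2) * (p'.1 * p'.2)
        rw [show ((p.1 : K) * p'.1) * ((p.2 : K) * p'.2) = p.1 * (p'.1 * p.2) * p'.2 by group,
          hcA _ p'.1.2 _ p.2.2]
        group) }
  have hπ : Function.Surjective π := by
    rintro ⟨x, hx⟩
    obtain ⟨y, hy, b, hb, rfl⟩ := Subgroup.mem_sup_of_normal_right.1 hx
    exact ⟨(⟨y, hy⟩, ⟨b, hb⟩), rfl⟩
  haveI := Fintype.ofFinite K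
  haveI := Fintype.ofFinite M
  haveI := Fintype.ofFinite A
  haveI := Fintype.ofFinite H
  haveI := Fintype.ofFinite (H × A)
  have hΦ := ThreeDegrees.isIrr_mul_hom
    (isIrr_comp ((QuotientGroup.mk' A₁).comp (MonoidHom.fst H A))
      (fun y => ⟨((QuotientGroup.mk'_surjective A₁ y).choose, 1),
        (QuotientGroup.mk'_surjective A₁ y).choose_spec⟩) ψ.2) (lam.comp (MonoidHom.snd H A))
  obtain ⟨β', hβ', hβv⟩ := exists_irr_quotient π.ker hΦ fun p hp => by
    have hp1 : (p.1 : K) * p.2 = 1 := congrArg Subtype.val (MonoidHom.mem_ker.1 hp)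
    have h1 : QuotientGroup.mk' A₁ p.1 = 1 := (QuotientGroup.eq_one_iff p.1).2 (by
      rw [Subgroup.mem_subgroupOf, eq_inv_of_mul_eq_one_left hp1]
      exact inv_mem p.2.2)
    have h2 : lam p.2 = 1 := hlam1 _ (by
      rw [Subgroup.mem_subgroupOf, eq_inv_of_mul_eq_one_right hp1]
      exact inv_mem p.1.2)
    simp only [MonoidHom.coe_comp, MonoidHom.coe_fst, MonoidHom.coe_snd, Function.comp_apply,
      Prod.fst_one, Prod.snd_one, h1, h2, map_one]
  let eM := QuotientGroup.quotientKerEquivOfSurjective π hπ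
  let β : M → ℂ := fun x => β' (eM.symm x)
  have hβ : Cfsg.IsIrrCharacter M β := isIrr_comp eM.symm.toMonoidHom eM.symm.surjective hβ'
  have hβπ : ∀ p : H × A, β (π p) = (ψ : H ⧸ A₁ → ℂ) (QuotientGroup.mk' A₁ p.1) * lam p.2 := by
    intro p
    show β' (eM.symm (π p)) = _
    rw [show eM.symm (π p) = (p : (H × A) ⧸ π.ker) from eM.symm_apply_eq.2 rfl, ← hβv p]
    rfl
  have hβ1 : β 1 = (dψ : ℂ) := by
    rw [← map_one π, hβπ]
    simp [hdψ]
  obtain ⟨χ, hχ, hχβ⟩ := Clifford.exists_over M hβ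
  obtain ⟨dχ, -, hdχ⟩ := exists_degree_pos hχ
  -- restrict to `A`
  let lamf : A → ℂ := fun x => (lam x : ℂ)
  have hlamI : Cfsg.IsIrrCharacter A lamf := isIrr_linChar lam
  have hres := isCharacter_restrict M (isCharacter_of_isIrr hχ)
  choose m hm using fun η : Cfsg.IrrCharacter M => classInner_character_irr hres η.2
  have hresη : ∀ η : Cfsg.IrrCharacter M, Cfsg.IsCharacter A
      (fun x : A => (η : M → ℂ) ⟨x, Subgroup.mem_sup_right x.2⟩) := fun η =>
    isCharacter_comp (Subgroup.inclusion (le_sup_right : A ≤ M)) (isCharacter_of_isIrr η.2)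
  choose e he using fun η : Cfsg.IrrCharacter M => classInner_character_irr (hresη η) hlamI
  have hχA : Cfsg.classInner (fun x : A => χ x) lamf = ((∑ η, m η * e η : ℕ) : ℂ) := by
    have h1 : (fun x : A => χ x) = ∑ η : Cfsg.IrrCharacter M,
        (m η : ℂ) • (fun x : A => (η : M → ℂ) ⟨x, Subgroup.mem_sup_right x.2⟩) := funext fun x => by
      have h2 := congrFun (character_expansion hres) ⟨(x : K), Subgroup.mem_sup_right x.2⟩
      simpa [hm] using h2
    rw [h1, classInner_sum_left, Nat.cast_sum]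
    exact Finset.sum_congr rfl fun η _ => by rw [classInner_smul_left, he, Nat.cast_mul]
  have hne : Cfsg.classInner (fun x : A => χ x) lamf ≠ 0 := by
    rw [hχA, Nat.cast_ne_zero]
    intro h0
    have h1 := (Finset.sum_eq_zero_iff.1 h0) ⟨β, hβ⟩ (Finset.mem_univ _)
    rcases Nat.mul_eq_zero.1 h1 with h2 | h2
    · exact hχβ (by rw [show _ = _ from hm ⟨β, hβ⟩, h2, Nat.cast_zero])
    · have h3 := he ⟨β, hβ⟩
      rw [h2, Nat.cast_zero] at h3
      refine irr_one_ne_zero hβ ?_
      have hfun : (fun x : A => β ⟨x, Subgroup.mem_sup_right x.2⟩) = (dψ : ℂ) • lamf :=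
        funext fun x => by
          have hx : (⟨(x : K), Subgroup.mem_sup_right x.2⟩ : M) = π (1, x) :=
            Subtype.ext (by simp [π])
          rw [hx, hβπ]
          simp [hdψ, lamf]
      rw [hfun, classInner_smul_left, classInner_isIrr_self hlamI, mul_one] at h3
      rw [hβ1, h3]
  have hTf : ∀ k : K, k ∈ T ↔ conjBy A lamf k = lamf := fun k =>
    ⟨fun hk => funext fun x => congrArg Units.val (hk x),
      fun hk x => Units.ext (congrFun hk x)⟩
  have hdeg := clifford_degree A hχ hlamI T hTf hne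
  rw [hχA, hdχ, show lamf 1 = 1 by simp [lamf], mul_one, ← Nat.cast_mul, Nat.cast_inj] at hdeg
  refine h.sep χ dχ hχ hdχ ?_ (hdeg ▸ dvd_mul_of_dvd_right hrT _)
  obtain ⟨d, k, hd, rfl, -, -⟩ := DegreeGraph.exists_ratio M hχ hβ hχβ hdχ
  rw [hβ1, Nat.cast_inj] at hd
  exact dvd_mul_of_dvd_left (hd ▸ hψq) k

/-- **The main lemma.** -/
theorem Hyp.false [Group.IsSolvable K] (h : Hyp K V s q r) : False := by
  classical
  haveI := Fact.mk h.prime_q
  haveI := Fact.mk h.prime_r
  obtain ⟨A, hA⟩ := exists_maxAb K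
  haveI := hA.normal
  by_cases hq : q ∣ (Subgroup.centralizer (A : Set K)).index
  · by_cases hr : r ∣ (Subgroup.centralizer (A : Set K)).index
    · haveI := (h.abelian A hA.comm).2
      haveI := Fintype.ofFinite K
      haveI := Fintype.ofFinite A
      obtain ⟨lam, hlam⟩ : ∃ lam : A →* ℂˣ, Function.Injective lam := by
        haveI : NeZero (Nat.card A) := ⟨Nat.card_pos.ne'⟩
        obtain ⟨e⟩ : Nonempty (A ≃* rootsOfUnity (Nat.card A) ℂ) := ⟨mulEquivOfCyclicCardEq (by
          rw [HasEnoughRootsOfUnity.natCard_rootsOfUnity])⟩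
        exact ⟨(rootsOfUnity (Nat.card A) ℂ).subtype.comp e.toMonoidHom,
          Subtype.val_injective.comp e.injective⟩
      let lamf : A → ℂ := fun x => (lam x : ℂ)
      have hlamI : Cfsg.IsIrrCharacter A lamf := isIrr_linChar lam
      obtain ⟨χ, hχ, hχl⟩ := Clifford.exists_over A hlamI
      obtain ⟨dχ, -, hdχ⟩ := exists_degree_pos hχ
      have hT : ∀ k : K, k ∈ Subgroup.centralizer (A : Set K) ↔ conjBy A lamf k = lamf := by
        intro k
        constructor
        · intro hk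
          funext x
          rw [conjBy_apply]
          refine congrArg lamf (Subtype.ext ?_)
          show k * x * k⁻¹ = x
          rw [mul_inv_eq_iff_eq_mul]
          exact (Subgroup.mem_centralizer_iff.1 hk x x.2).symm
        · intro hk
          refine Subgroup.mem_centralizer_iff.2 fun a ha => ?_
          have h1 := congrFun hk ⟨a, ha⟩
          rw [conjBy_apply] at h1
          have h2 : k * a * k⁻¹ = a := congrArg Subtype.val (hlam (Units.ext h1))
          exact (mul_inv_eq_iff_eq_mul.1 h2).symm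
      have hdeg := clifford_degree A hχ hlamI _ hT hχl
      obtain ⟨e, he⟩ := classInner_character_irr
        (isCharacter_restrict A (isCharacter_of_isIrr hχ)) hlamI
      rw [he, hdχ, show lamf 1 = 1 by simp [lamf], mul_one, ← Nat.cast_mul, Nat.cast_inj] at hdeg
      exact h.sep χ dχ hχ hdχ (hdeg ▸ dvd_mul_of_dvd_right hq _) (hdeg ▸ dvd_mul_of_dvd_right hr _)
    · exact h.symm.false_of_inside hA hr
  · exact h.false_of_inside hA hq

end CfsgLib.Palfy69
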