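import Cfsg.Agent.Palfy69.CaseA
import Cfsg.Agent.Palfy69.CaseB

/-!
# Pálfy's three primes theorem
-/

set_option autoImplicit false
set_option linter.style.haveILetI false
set_option linter.unusedSectionVars false

namespace CfsgLib.Palfy69

open scoped commutatorElement
open CfsgLib.Characters CfsgLib.OddOrderChar CfsgLib.CharactersDeep

universe u

/-- One prime is trivial modulo a minimal normal subgroup. -/
theorem step {G : Type u} [Group G] [Fintype G] [Group.IsSolvable G] {p q r : ℕ}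
    [hp : Fact p.Prime] [hq : Fact q.Prime] [hr : Fact r.Prime] (hne1 : p ≠ q) (hne2 : p ≠ r)
    (hne3 : q ≠ r) (hpq : Sep G p q) (hpr : Sep G p r) (hqr : Sep G q r) (hρp : Rho G p)
    (hρq : Rho G q) (hρr : Rho G r) {M : Subgroup G} [M.Normal] (hM1 : M ≠ ⊥)
    (hmin : ∀ N : Subgroup G, N.Normal → N ≤ M → N = ⊥ ∨ N = M) (hp' : ¬ Rho (G ⧸ M) p) :
    False := by
  classical
  obtain ⟨P⟩ := (inferInstance : Nonempty (Sylow p G))
  have hsurj : Function.Surjective (QuotientGroup.mk' M) := QuotientGroup.mk'_surjective _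
  obtain ⟨hn, hc⟩ := (Cfsg.Agent.S4713.result p PLocal.isPSolvable_of_isSolvable
    (P.mapSurjective hsurj)).2 fun χ hd => hp' ⟨_, ⟨χ, rfl⟩, hd⟩
  have hPM : ((P : Subgroup G) ⊔ M).Normal := by
    have := hn.comap (QuotientGroup.mk' M)
    rwa [Sylow.coe_mapSurjective, Subgroup.comap_map_eq, QuotientGroup.ker_mk'] at this
  have hder : ∀ x ∈ (P : Subgroup G), ∀ y ∈ (P : Subgroup G), ⁅x, y⁆ ∈ M := fun x hx y hy => by
    rw [← QuotientGroup.eq_one_iff, ← QuotientGroup.mk'_apply, map_commutatorElement,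
      commutatorElement_eq_one_iff_mul_comm]
    exact congrArg Subtype.val (hc.is_comm.comm
      ⟨_, by rw [Sylow.coe_mapSurjective]; exact ⟨x, hx, rfl⟩⟩
      ⟨_, by rw [Sylow.coe_mapSurjective]; exact ⟨y, hy, rfl⟩⟩)
  by_cases hPn : (P : Subgroup G).Normal
  · exact caseB hne1.symm hne2.symm hpq hpr hqr hne3 hρp hρq hρr hM1 hmin P hPn hder
  · exact caseA hpq hpr hqr hne3 hρq hρr hM1 hmin P hPn hPM hder

/-- **Pálfy's theorem**. -/
theorem main : ∀ (n : ℕ) (G : Type u) [Group G] [Fintype G] [Group.IsSolvable G],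
    Nat.card G = n → ∀ p q r : ℕ, p.Prime → q.Prime → r.Prime → p ≠ q → p ≠ r → q ≠ r →
      Rho G p → Rho G q → Rho G r → Sep G p q → Sep G p r → Sep G q r → False := by
  intro n
  induction n using Nat.strongRecOn with
  | ind n ih =>
    intro G _ _ _ hn p q r hp hq hr hne1 hne2 hne3 hρp hρq hρr hpq hpr hqr
    classical
    haveI := Fact.mk hp
    haveI := Fact.mk hq
    haveI := Fact.mk hr
    have hnt : (⊤ : Subgroup G) ≠ ⊥ := fun hb => by
      obtain ⟨d, hd, hpd⟩ := hρp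
      refine not_dvd_of_abelian_normal (⊤ : Subgroup G) (fun a _ b _ => ?_)
        (by rw [Subgroup.index_top]; exact hp.not_dvd_one) hd hpd
      have : ∀ x : G, x = 1 := fun x => Subgroup.mem_bot.1 (hb ▸ Subgroup.mem_top x)
      rw [this a, this b]
    obtain ⟨M, hM⟩ := Set.Finite.exists_minimal
      (Set.toFinite {N : Subgroup G | N.Normal ∧ N ≠ ⊥}) ⟨⊤, inferInstance, hnt⟩
    obtain ⟨⟨hMn, hM1⟩, hMmin⟩ := hM
    haveI := hMn
    have hmin : ∀ N : Subgroup G, N.Normal → N ≤ M → N = ⊥ ∨ N = M := fun N hN hle => by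
      by_cases h0 : N = ⊥
      · exact Or.inl h0
      · exact Or.inr (le_antisymm hle (hMmin ⟨hN, h0⟩ hle))
    haveI := Fintype.ofFinite (G ⧸ M)
    have hcard : Nat.card (G ⧸ M) < n := by
      rw [← hn, ← Subgroup.index_eq_card, ← M.index_mul_card]
      exact lt_mul_of_one_lt_right (Nat.pos_of_ne_zero Subgroup.index_ne_zero_of_finite)
        ((Subgroup.one_lt_card_iff_ne_bot M).2 hM1)
    haveI : Fintype M := Fintype.ofFinite M
    have hsub : ∀ {a b : ℕ}, Sep G a b → Sep (G ⧸ M) a b := fun hs d hd =>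
      hs d (DegreeGraph.charDegrees_quotient_subset M hd)
    by_cases h1 : Rho (G ⧸ M) p
    · by_cases h2 : Rho (G ⧸ M) q
      · by_cases h3 : Rho (G ⧸ M) r
        · exact ih _ hcard (G ⧸ M) rfl p q r hp hq hr hne1 hne2 hne3 h1 h2 h3 (hsub hpq)
            (hsub hpr) (hsub hqr)
        · exact step hne2.symm hne3.symm hne1 hpr.symm hqr.symm hpq hρr hρp hρq hM1 hmin h3
      · exact step hne1.symm hne3 hne2 hpq.symm hqr hpr hρq hρp hρr hM1 hmin h2
    · exact step hne1 hne2 hne3 hpq hpr hqr hρp hρq hρr hM1 hmin h1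

end CfsgLib.Palfy69
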