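import Cfsg.Agent.Palfy69.Lemma
import Cfsg.Agent.DegreeGraph.Components

/-!
# Pálfy's condition: degrees over a character of a complemented normal subgroup
-/

set_option autoImplicit false
set_option linter.style.haveILetI false
set_option linter.unusedSectionVars false

namespace CfsgLib.Palfy69

open CfsgLib.Characters CfsgLib.OddOrderChar CfsgLib.CharactersDeep

universe u

variable {G : Type u} [Group G] [Fintype G]

/-- An abelian normal subgroup of index prime to `p` kills `p` in the degrees. -/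
theorem not_dvd_of_abelian_normal {p : ℕ} (A : Subgroup G) [A.Normal]
    (hA : ∀ a ∈ A, ∀ b ∈ A, a * b = b * a) (hp : ¬ p ∣ A.index) {d : ℕ}
    (hd : d ∈ Cfsg.charDegrees G) : ¬ p ∣ d := by
  obtain ⟨χ, hχ, hχ1, -⟩ := DegreeGraph.exists_of_mem hd
  obtain ⟨e, he, hdvd⟩ := GaloisAverage.exists_degree_dvd_index hχ A hA
  rw [hχ1, Nat.cast_inj] at he
  exact fun h => hp ((he ▸ h).trans hdvd)

/-- A complement meets every coset. -/
theorem exists_mul_of_sup {P H : Subgroup G} [P.Normal] (hsup : P ⊔ H = ⊤) (g : G) :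
    ∃ y ∈ P, ∃ h ∈ H, y * h = g :=
  Subgroup.mem_sup_of_normal_left.1 (hsup ▸ Subgroup.mem_top g)

theorem index_eq_of_complement {P H : Subgroup G} [P.Normal] (hsup : P ⊔ H = ⊤) (T : Subgroup G)
    (hPT : P ≤ T) : (T.subgroupOf H).index = T.index := by
  refine Nat.card_congr (Equiv.ofBijective
    (Quotient.map' (fun h : H => (h : G)) fun a b hab => ?_) ⟨?_, ?_⟩)
  · rw [QuotientGroup.leftRel_apply] at hab ⊢
    exact hab
  · intro a b hab
    induction a using QuotientGroup.induction_on with | H a => ?_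
    induction b using QuotientGroup.induction_on with | H b => ?_
    exact QuotientGroup.eq.2 (QuotientGroup.eq.1 hab : (a : G)⁻¹ * b ∈ T)
  · intro x
    induction x using QuotientGroup.induction_on with | H g => ?_
    obtain ⟨y, hy, h, hh, rfl⟩ := exists_mul_of_sup hsup g
    refine ⟨QuotientGroup.mk (⟨h, hh⟩ : H), QuotientGroup.eq.2 ?_⟩
    rw [show h⁻¹ * (y * h) = h⁻¹ * y * h⁻¹⁻¹ by group]
    exact hPT (Subgroup.Normal.conj_mem inferInstance y hy _)

/-- A linear character extends to its stabiliser across a complement. -/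
theorem exists_linear_ext {P H : Subgroup G} [P.Normal] (hinf : P ⊓ H = ⊥) (hsup : P ⊔ H = ⊤)
    (μ : P →* ℂˣ) (T : Subgroup G) (hPT : P ≤ T)
    (hinv : ∀ t ∈ T, ∀ y : P, μ ⟨t * y * t⁻¹, Subgroup.Normal.conj_mem inferInstance (y : G) y.2 t⟩ = μ y) :
    ∃ f : T →* ℂˣ, ∀ y : P, f ⟨y, hPT y.2⟩ = μ y := by
  have hex : ∀ t : T, ∃ y : P, ∃ h : H, (y : G) * h = t := fun t => by
    obtain ⟨y, hy, h, hh, e⟩ := exists_mul_of_sup hsup (t : G)
    exact ⟨⟨y, hy⟩, ⟨h, hh⟩, e⟩
  choose π η hπ using hex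
  have huniq : ∀ (t : T) (y : P) (h : H), (y : G) * h = t → π t = y := by
    intro t y h e
    have h1 : (y : G)⁻¹ * π t ∈ P ⊓ H := Subgroup.mem_inf.2 ⟨mul_mem (inv_mem y.2) (π t).2, by
      rw [show (y : G)⁻¹ * π t = h * (η t : G)⁻¹ by
        rw [eq_mul_inv_iff_mul_eq, mul_assoc, hπ t, ← e]; group]
      exact mul_mem h.2 (inv_mem (η t).2)⟩
    rw [hinf, Subgroup.mem_bot, inv_mul_eq_one] at h1
    exact Subtype.ext h1.symm
  have hηT : ∀ t : T, (η t : G) ∈ T := fun t => by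
    rw [show (η t : G) = (π t : G)⁻¹ * t by rw [← hπ t]; group]
    exact mul_mem (inv_mem (hPT (π t).2)) t.2
  refine ⟨{ toFun := fun t => μ (π t), map_one' := ?_, map_mul' := fun t t' => ?_ },
    fun y => congrArg μ (huniq ⟨y, hPT y.2⟩ y 1 (by simp))⟩
  · rw [huniq 1 1 1 (by simp), map_one]
  · rw [huniq (t * t') (π t * ⟨(η t : G) * π t' * (η t : G)⁻¹,
      Subgroup.Normal.conj_mem inferInstance _ (π t').2 _⟩) (η t * η t') (by
        show (π t : G) * ((η t : G) * π t' * (η t : G)⁻¹) * ((η t : G) * η t') = (t : G) * t'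
        rw [← hπ t, ← hπ t']; group), map_mul, hinv _ (hηT t)]

variable {P H : Subgroup G} [hPn : P.Normal]

/-- Every degree of the stabiliser quotient gives a degree of `G`. -/
theorem exists_degree_over {θ : P → ℂ}
    (hθ : Cfsg.IsIrrCharacter P θ) {d : ℕ} (hd : θ 1 = d) (T : Subgroup G)
    (hT : ∀ g, g ∈ T ↔ conjBy P θ g = θ) (hPT : P ≤ T) {ξ : T → ℂ}
    (hξ : Cfsg.IsIrrCharacter T ξ) (hξP : ∀ y : P, ξ ⟨y, hPT y.2⟩ = θ y) {e : ℕ}
    (he : e ∈ Cfsg.charDegrees (T ⧸ P.subgroupOf T)) :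
    T.index * (d * e) ∈ Cfsg.charDegrees G := by
  classical
  haveI := Fintype.ofFinite T
  haveI := Fintype.ofFinite P
  haveI := Fintype.ofFinite (P.subgroupOf T)
  haveI : (P.subgroupOf T).Normal := Subgroup.normal_subgroupOf
  haveI := Fintype.ofFinite (T ⧸ P.subgroupOf T)
  obtain ⟨β, hβ, hβ1, he0⟩ := DegreeGraph.exists_of_mem he
  have hres : (fun x : P.subgroupOf T => ξ x) = onSubgroupOf P T θ := funext fun x =>
    hξP ⟨((x : T) : G), Subgroup.mem_subgroupOf.1 x.2⟩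
  have hresI : Cfsg.IsIrrCharacter (P.subgroupOf T) fun x => ξ x :=
    hres ▸ isIrr_onSubgroupOf P T hPT hθ
  have hψ := Gallagher.isIrr_prodInfl (P.subgroupOf T) hξ hresI hβ
  have hψres : (fun x : P.subgroupOf T => Gallagher.prodInfl (P.subgroupOf T) ξ β x) =
      (e : ℂ) • onSubgroupOf P T θ := by
    funext x
    have hx : ((x : T) : T ⧸ P.subgroupOf T) = 1 := (QuotientGroup.eq_one_iff _).2 x.2
    rw [← hres]
    simp [Gallagher.prodInfl, hx, hβ1, mul_comm]
  obtain ⟨hind, -, -⟩ := clifford_correspondence P T hθ hT hψ (by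
    rw [hψres, classInner_smul_left, classInner_isIrr_self (isIrr_onSubgroupOf P T hPT hθ),
      mul_one]
    exact Nat.cast_ne_zero.2 he0.ne')
  refine DegreeGraph.mem_charDegrees hind ?_
  have h1 : ξ 1 = d := by rw [← hd]; exact hξP 1
  rw [OddOrderChar.indFun_one]
  simp [Gallagher.prodInfl, hβ1, h1]

/-- A prime dividing no degree over `θ` is uniquely represented in the stabiliser in a complement,
by an abelian Sylow subgroup. -/
theorem unique_in_stabilizer [Group.IsSolvable G] (hinf : P ⊓ H = ⊥) (hsup : P ⊔ H = ⊤)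
    {θ : P → ℂ} (hθ : Cfsg.IsIrrCharacter P θ) {d : ℕ} (hd : θ 1 = d) (T : Subgroup G)
    (hT : ∀ g, g ∈ T ↔ conjBy P θ g = θ) (hPT : P ≤ T) {ξ : T → ℂ}
    (hξ : Cfsg.IsIrrCharacter T ξ) (hξP : ∀ y : P, ξ ⟨y, hPT y.2⟩ = θ y) {q : ℕ} [Fact q.Prime]
    (hq : ∀ c ∈ Cfsg.charDegrees G, T.index * d ∣ c → ¬ q ∣ c) :
    ∃ Q : Sylow q H, (Q : Subgroup H) ≤ T.subgroupOf H ∧
      (∀ a ∈ (Q : Subgroup H), ∀ b ∈ (Q : Subgroup H), a * b = b * a) ∧
      ∀ Q' : Sylow q H, (Q' : Subgroup H) ≤ T.subgroupOf H → Q' = Q := by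
  classical
  haveI := Fintype.ofFinite T
  haveI : (P.subgroupOf T).Normal := Subgroup.normal_subgroupOf
  haveI := Fintype.ofFinite (T ⧸ P.subgroupOf T)
  have hone : 1 ∈ Cfsg.charDegrees (T ⧸ P.subgroupOf T) :=
    DegreeGraph.mem_charDegrees isIrr_one (by simp)
  have hidx : ¬ q ∣ (T.subgroupOf H).index := by
    rw [index_eq_of_complement hsup T hPT]
    exact fun hdv => hq _ (exists_degree_over hθ hd T hT hPT hξ hξP hone)
      (by rw [mul_one]) (hdv.trans (dvd_mul_right _ _))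
  -- the stabiliser in `H` is the quotient
  set S := T.subgroupOf H with hS
  let f : S →* T ⧸ P.subgroupOf T := (QuotientGroup.mk' (P.subgroupOf T)).comp
    { toFun := fun h => (⟨((h : H) : G), Subgroup.mem_subgroupOf.1 h.2⟩ : T)
      map_one' := rfl
      map_mul' := fun _ _ => rfl }
  have hfinj : Function.Injective f := by
    rw [injective_iff_map_eq_one]
    intro h hh
    have h1 : ((h : H) : G) ∈ P ⊓ H :=
      ⟨Subgroup.mem_subgroupOf.1 ((QuotientGroup.eq_one_iff (N := P.subgroupOf T)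
        (⟨((h : H) : G), Subgroup.mem_subgroupOf.1 h.2⟩ : T)).1 hh), (h : H).2⟩
    rw [hinf, Subgroup.mem_bot] at h1
    exact Subtype.ext (Subtype.ext h1)
  have hfsurj : Function.Surjective f := by
    intro x
    induction x using QuotientGroup.induction_on with | H t => ?_
    obtain ⟨y, hy, h, hh, e⟩ := exists_mul_of_sup hsup (t : G)
    have hhT : h ∈ T := by
      rw [show h = y⁻¹ * t by rw [← e]; group]
      exact mul_mem (inv_mem (hPT hy)) t.2
    refine ⟨⟨⟨h, hh⟩, Subgroup.mem_subgroupOf.2 hhT⟩, QuotientGroup.eq.2 ?_⟩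
    show h⁻¹ * (t : G) ∈ P
    rw [← e, show h⁻¹ * (y * h) = h⁻¹ * y * h⁻¹⁻¹ by group]
    exact hPn.conj_mem y hy _
  haveI := Fintype.ofFinite S
  have hfree : ∀ χ : Cfsg.IrrCharacter S, ¬ q ∣ Cfsg.charDegree (χ : S → ℂ) := by
    intro χ hdvd
    obtain ⟨e, -, he⟩ := exists_degree_pos χ.2
    rw [DegreeGraph.charDegree_eq he] at hdvd
    let φ := MulEquiv.ofBijective f ⟨hfinj, hfsurj⟩
    have hmem : e ∈ Cfsg.charDegrees (T ⧸ P.subgroupOf T) :=
      DegreeGraph.mem_charDegrees (isIrr_comp φ.symm.toMonoidHom φ.symm.surjective χ.2)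
        (by simpa using he)
    exact hq _ (exists_degree_over hθ hd T hT hPT hξ hξP hmem)
      (by rw [← mul_assoc]; exact dvd_mul_right _ _)
      (dvd_mul_of_dvd_right (dvd_mul_of_dvd_right hdvd _) _)
  obtain ⟨Q₀⟩ := (inferInstance : Nonempty (Sylow q S))
  obtain ⟨hQn, hQc⟩ := (Cfsg.Agent.S4713.result q PLocal.isPSolvable_of_isSolvable Q₀).2 hfree
  let Q : Sylow q H := (Q₀.isPGroup'.map S.subtype).toSylow (by
    rw [Subgroup.index_map, Subgroup.ker_subtype, sup_bot_eq, Subgroup.range_subtype]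
    exact fun h => ((Fact.out : q.Prime).dvd_mul.1 h).elim Q₀.not_dvd_index hidx)
  have hQcoe : (Q : Subgroup H) = (Q₀ : Subgroup S).map S.subtype := rfl
  refine ⟨Q, hQcoe ▸ Subgroup.map_subtype_le _, ?_, fun Q' hQ' => ?_⟩
  · rw [hQcoe]
    rintro _ ⟨a, ha, rfl⟩ _ ⟨b, hb, rfl⟩
    exact congrArg (fun x : (Q₀ : Subgroup S) => ((x : S) : H))
      (hQc.is_comm.comm ⟨a, ha⟩ ⟨b, hb⟩)
  · refine Sylow.ext ?_
    haveI := hQn
    haveI : Unique (Sylow q S) := Sylow.unique_of_normal Q₀ hQn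
    have h1 : ((Q'.subtype hQ' : Sylow q S) : Subgroup S) = Q₀ :=
      congrArg _ (Subsingleton.elim (Q'.subtype hQ') Q₀)
    rw [hQcoe, ← h1, Sylow.coe_subtype, Subgroup.subgroupOf_map_subtype, inf_eq_left.2 hQ']

end CfsgLib.Palfy69
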