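import Cfsg.Agent.Palfy69.Imprimitive
import Cfsg.Agent.Coprime.Generation
import Cfsg.Prelude.Def_Blocks
import Cfsg.Prelude.Def_Characters

/-!
# Pálfy's condition: normal abelian subgroups are cyclic and fixed-point-free
-/

set_option autoImplicit false
set_option linter.style.haveILetI false
set_option linter.unusedSectionVars false

namespace CfsgLib.Palfy69

/-- A faithful irreducible action in which two primes are uniquely stabilised, and no degree of
`K` is divisible by both. -/
structure Hyp (K : Type*) [Group K] (V : Type*) [AddCommGroup V] [DistribMulAction K V]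
    (s q r : ℕ) : Prop where
  prime_s : s.Prime
  expo : ∀ v : V, s • v = 0
  nz : ∃ v : V, v ≠ 0
  faith : ∀ k : K, (∀ v : V, k • v = v) → k = 1
  irr : ∀ W : AddSubgroup V, (∀ (k : K) (v : V), v ∈ W → k • v ∈ W) → W = ⊥ ∨ W = ⊤
  prime_q : q.Prime
  prime_r : r.Prime
  ne : q ≠ r
  dvd_q : q ∣ Nat.card K
  dvd_r : r ∣ Nat.card K
  uq : UniqSylow q K V
  ur : UniqSylow r K V
  sep : ∀ (χ : K → ℂ) (d : ℕ), Cfsg.IsIrrCharacter K χ → χ 1 = d → q ∣ d → r ∣ d → False

variable {K : Type*} [Group K] [Finite K] {V : Type*} [AddCommGroup V] [DistribMulAction K V]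
  [Finite V] {s q r : ℕ}

theorem Hyp.symm (h : Hyp K V s q r) : Hyp K V s r q :=
  { h with
    prime_q := h.prime_r, prime_r := h.prime_q, ne := h.ne.symm, dvd_q := h.dvd_r,
    dvd_r := h.dvd_q, uq := h.ur, ur := h.uq, sep := fun χ d hχ hd a b => h.sep χ d hχ hd b a }

theorem Hyp.nsmul_eq_zero (h : Hyp K V s q r) {n : ℕ} (hn : n.Coprime s) {v : V}
    (hv : n • v = 0) : v = 0 := by
  rw [← AddMonoid.addOrderOf_eq_one_iff]
  exact Nat.eq_one_of_dvd_coprimes hn (addOrderOf_dvd_of_nsmul_eq_zero hv)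
    (addOrderOf_dvd_of_nsmul_eq_zero (h.expo v))

/-- A normal subgroup fixing a nonzero vector is trivial. -/
theorem Hyp.eq_bot_of_fix (h : Hyp K V s q r) (N : Subgroup K) [N.Normal]
    (hN : fix V N ≠ ⊥) : N = ⊥ := by
  rcases h.irr (fix V N) (fun k v hv => smul_mem_fix_of_normal N k hv) with h1 | h1
  · exact absurd h1 hN
  · refine (Subgroup.eq_bot_iff_forall N).2 fun x hx => h.faith x fun v => ?_
    have : v ∈ fix V N := h1 ▸ AddSubgroup.mem_top v
    exact this x hx

theorem Hyp.eq_bot_of_q (h : Hyp K V s q r) (N : Subgroup K) [N.Normal] (hN : IsPGroup q N) :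
    N = ⊥ := by
  haveI := Fact.mk h.prime_q
  exact (Subgroup.eq_bot_iff_forall N).2 fun x hx =>
    h.faith x fun v => smul_eq_of_normal_pGroup h.uq N hN hx v

theorem Hyp.eq_bot_of_s (h : Hyp K V s q r) (N : Subgroup K) [N.Normal] (hN : IsPGroup s N) :
    N = ⊥ := by
  classical
  haveI := Fact.mk h.prime_s
  obtain ⟨v, hv⟩ := h.nz
  have hdvd : s ∣ Nat.card V := by
    have hord : addOrderOf v = s := by
      rcases h.prime_s.eq_one_or_self_of_dvd _ (addOrderOf_dvd_of_nsmul_eq_zero (h.expo v)) with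
        h1 | h1
      · exact absurd (AddMonoid.addOrderOf_eq_one_iff.1 h1) hv
      · exact h1
    exact hord ▸ addOrderOf_dvd_natCard v
  obtain ⟨w, hw, hw0⟩ := hN.exists_fixed_point_of_prime_dvd_card_of_fixed_point V hdvd
    (a := 0) (fun g => smul_zero g)
  refine h.eq_bot_of_fix N fun hb => hw0.symm ?_
  have hm : w ∈ fix V N := fun x hx => hw ⟨x, hx⟩
  rw [hb] at hm
  exact AddSubgroup.mem_bot.1 hm

theorem Hyp.exists_move (h : Hyp K V s q r) [Fact q.Prime] (Q : Sylow q K) :
    ∃ g ∈ (Q : Subgroup K), ∃ v : V, g • v ≠ v := by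
  have hne : (Q : Subgroup K) ≠ ⊥ := Q.ne_bot_of_dvd_card h.dvd_q
  obtain ⟨g, hg, hg1⟩ : ∃ g ∈ (Q : Subgroup K), g ≠ 1 := by
    by_contra hno
    push Not at hno
    exact hne ((Subgroup.eq_bot_iff_forall _).2 hno)
  refine ⟨g, hg, ?_⟩
  by_contra hno
  push Not at hno
  exact hg1 (h.faith g hno)

section Elementary

variable {E : Subgroup K} {p : ℕ}

/-- The sum of the translates by a subgroup, as an additive map. -/
noncomputable def trace (V : Type*) [AddCommGroup V] [DistribMulAction K V] (H : Subgroup K) :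
    V →+ V := by
  classical
  haveI := Fintype.ofFinite H
  exact ∑ x : H, DistribSMul.toAddMonoidHom V (x : K)

theorem trace_apply (H : Subgroup K) [Fintype H] (v : V) :
    trace V H v = ∑ x : H, (x : K) • v := by
  classical
  unfold trace
  rw [AddMonoidHom.finsetSum_apply]
  refine Finset.sum_congr ?_ fun _ _ => rfl
  convert rfl

theorem smul_trace (H : Subgroup K) {g : K} (hg : g ∈ H) (v : V) :
    g • trace V H v = trace V H v := by
  classical
  haveI := Fintype.ofFinite H
  rw [trace_apply, Finset.smul_sum]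
  exact Fintype.sum_equiv (Equiv.mulLeft (⟨g, hg⟩ : H)) _ _ fun x => by simp [mul_smul]

theorem smul_trace_of_comm (H : Subgroup K) {g : K} (hg : ∀ x ∈ H, g * x = x * g) (v : V) :
    g • trace V H v = trace V H (g • v) := by
  classical
  haveI := Fintype.ofFinite H
  rw [trace_apply, trace_apply, Finset.smul_sum]
  exact Finset.sum_congr rfl fun x _ => by rw [← mul_smul, ← mul_smul, hg x x.2]

theorem trace_of_fixed (H : Subgroup K) {v : V} (hv : v ∈ fix V H) :
    trace V H v = Nat.card H • v := by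
  classical
  haveI := Fintype.ofFinite H
  rw [trace_apply, Finset.sum_congr rfl fun (x : H) _ => hv x x.2, Finset.sum_const,
    Nat.card_eq_fintype_card, Finset.card_univ]

/-- The maximal subgroups of `E` with a nonzero fixed vector. -/
def IsTop (V : Type*) [AddCommGroup V] [DistribMulAction K V] (E H : Subgroup K) : Prop :=
  Maximal (fun L : Subgroup K => L ≤ E ∧ fix V L ≠ ⊥) H

theorem exists_top (h : Hyp K V s q r) (E : Subgroup K) : ∃ H, IsTop V E H := by
  refine Set.Finite.exists_maximal (Set.toFinite _) ⟨⊥, bot_le, ?_⟩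
  obtain ⟨v, hv⟩ := h.nz
  intro hb
  refine hv ((AddSubgroup.eq_bot_iff_forall _).1 hb v fun x hx => ?_)
  rw [Subgroup.mem_bot.1 hx, one_smul]

/-- Above a maximal subgroup with a fixed vector an elementary abelian group is cyclic. -/
theorem IsTop.exists_pow (h : Hyp K V s q r) (hp : p.Prime) (hps : p ≠ s)
    (hcomm : ∀ a ∈ E, ∀ b ∈ E, a * b = b * a) (hexp : ∀ a ∈ E, a ^ p = 1) {H : Subgroup K}
    (hH : IsTop V E H) {a : K} (ha : a ∈ E) (haH : a ∉ H) {b : K} (hb : b ∈ E) :
    ∃ i : ℕ, b * a ^ i ∈ H := by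
  by_contra hno
  push Not at hno
  obtain ⟨v, hv, hv0⟩ : ∃ v ∈ fix V H, v ≠ 0 := by
    by_contra hall
    push Not at hall
    exact hH.1.2 ((AddSubgroup.eq_bot_iff_forall _).2 hall)
  have hzero : ∀ x ∈ E, x ∉ H → ∑ j ∈ Finset.range p, x ^ j • v = 0 := by
    intro x hx hxH
    set w := ∑ j ∈ Finset.range p, x ^ j • v
    have h1 : x • w = w := by
      rw [Finset.smul_sum]
      have e : ∀ j, x • x ^ j • v = x ^ (j + 1) • v := fun j => by rw [← mul_smul, ← pow_succ']
      rw [Finset.sum_congr rfl fun j _ => e j]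
      have h2 := (Finset.sum_range_succ' (fun j => x ^ j • v) p).symm.trans
        (Finset.sum_range_succ (fun j => x ^ j • v) p)
      simp only [hexp x hx, one_smul, pow_zero] at h2
      exact add_right_cancel h2
    have h2 : w ∈ fix V H := fun k hk => by
      rw [Finset.smul_sum]
      refine Finset.sum_congr rfl fun j _ => ?_
      rw [← mul_smul, hcomm k (hH.1.1 hk) _ (pow_mem hx j), mul_smul, hv k hk]
    by_contra hw
    have hle : H ⊔ Subgroup.zpowers x ≤ MulAction.stabilizer K w :=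
      sup_le h2 (Subgroup.zpowers_le.2 h1)
    refine hxH (hH.2 ⟨sup_le hH.1.1 (Subgroup.zpowers_le.2 hx), fun hb' => hw ?_⟩ le_sup_left
      (Subgroup.mem_sup_right (Subgroup.mem_zpowers x)))
    exact (AddSubgroup.eq_bot_iff_forall _).1 hb' w fun k hk => hle hk
  have hsum : ∑ i ∈ Finset.range p, ∑ j ∈ Finset.range p, (b * a ^ i) ^ j • v = 0 :=
    Finset.sum_eq_zero fun i _ => hzero _ (mul_mem hb (pow_mem ha i)) (hno i)
  rw [Finset.sum_comm, ← Finset.sum_erase_add _ _ (Finset.mem_range.2 hp.pos)] at hsum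
  rw [Finset.sum_eq_zero (fun j hj => ?_), zero_add] at hsum
  · simp only [pow_zero, one_smul, Finset.sum_const, Finset.card_range] at hsum
    exact hv0 (h.nsmul_eq_zero ((Nat.coprime_primes hp h.prime_s).2 hps) hsum)
  · obtain ⟨hj0, hjp⟩ := Finset.mem_erase.1 hj
    have hcop : Nat.Coprime p j := (Nat.coprime_primes_dvd hp).2 fun hd =>
      hj0 (Nat.eq_zero_of_dvd_of_lt hd (Finset.mem_range.1 hjp))
    have haj : a ^ j ∉ H := fun hm => haH (by
      obtain ⟨m, hm1⟩ := exists_pow_eq_self_of_coprime (x := a) (n := j)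
        (hcop.symm.coprime_dvd_right (orderOf_dvd_of_pow_eq_one (hexp a ha)))
      exact hm1 ▸ pow_mem hm m)
    calc ∑ i ∈ Finset.range p, (b * a ^ i) ^ j • v
        = b ^ j • ∑ i ∈ Finset.range p, (a ^ j) ^ i • v := by
          rw [Finset.smul_sum]
          refine Finset.sum_congr rfl fun i _ => ?_
          rw [← mul_smul, Commute.mul_pow (hcomm b hb _ (pow_mem ha i)), ← pow_mul, ← pow_mul,
            mul_comm i j]
      _ = 0 := by rw [hzero _ (pow_mem ha j) haj, smul_zero]
where
  Nat.coprime_primes_dvd {p j : ℕ} (hp : p.Prime) : Nat.Coprime p j ↔ ¬ p ∣ j :=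
    hp.coprime_iff_not_dvd

/-- A normal elementary abelian subgroup is cyclic and fixed-point-free. -/
theorem Hyp.elementary (h : Hyp K V s q r) (E : Subgroup K) [hEn : E.Normal] (hp : p.Prime)
    (hcomm : ∀ a ∈ E, ∀ b ∈ E, a * b = b * a) (hexp : ∀ a ∈ E, a ^ p = 1) {a : K} (ha : a ∈ E)
    (ha1 : a ≠ 1) : (∀ b ∈ E, b ∈ Subgroup.zpowers a) ∧ ∀ v : V, a • v = v → v = 0 := by
  classical
  have hEp : IsPGroup p E := fun x => ⟨1, Subtype.ext (by simpa using hexp x x.2)⟩
  have hE1 : E ≠ ⊥ := fun hb => ha1 (by rw [hb] at ha; exact ha)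
  have hps : p ≠ s := fun e => hE1 (h.eq_bot_of_s E (e ▸ hEp))
  have hfixE : fix V E = ⊥ := by
    by_contra hne
    exact hE1 (h.eq_bot_of_fix E hne)
  haveI := Fact.mk hp
  have hcardH : ∀ H : Subgroup K, H ≤ E → (Nat.card H).Coprime s := fun H hH => by
    obtain ⟨k, hk⟩ := (IsPGroup.iff_card).1 (hEp.to_le hH)
    rw [hk]
    exact Nat.Coprime.pow_left k ((Nat.coprime_primes hp h.prime_s).2 hps)
  have hkill : ∀ {H H' : Subgroup K}, IsTop V E H → IsTop V E H' → H' ≠ H →
      ∀ x ∈ fix V H', trace V H x = 0 := by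
    intro H H' hH hH' hne x hx
    have hnle : ¬ H' ≤ H := fun hle => hne (le_antisymm hle (hH'.2 hH.1 hle))
    obtain ⟨c, hc, hcH⟩ := SetLike.not_le_iff_exists.1 hnle
    refine (AddSubgroup.eq_bot_iff_forall _).1 hfixE _ fun b hb => ?_
    obtain ⟨i, hi⟩ := hH.exists_pow h hp hps hcomm hexp (hH'.1.1 hc) hcH hb
    have hci : c ^ i • trace V H x = trace V H x := by
      rw [smul_trace_of_comm H (fun y hy => hcomm _ (pow_mem (hH'.1.1 hc) i) _ (hH.1.1 hy)),
        hx _ (pow_mem hc i)]
    calc b • trace V H x = (b * c ^ i) • trace V H x := by rw [mul_smul, hci]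
      _ = trace V H x := smul_trace H hi x
  let Ω := {H : Subgroup K // IsTop V E H}
  haveI : Finite Ω := Subtype.finite
  letI : Fintype Ω := Fintype.ofFinite Ω
  have hsmul : ∀ (k : K) (H : Subgroup K), IsTop V E H →
      IsTop V E (H.map (MulAut.conj k).toMonoidHom) := by
    have hstep : ∀ (k : K) (L : Subgroup K), L ≤ E ∧ fix V L ≠ ⊥ →
        L.map (MulAut.conj k).toMonoidHom ≤ E ∧
          fix V (L.map (MulAut.conj k).toMonoidHom) ≠ ⊥ := fun k L hL => by
      refine ⟨?_, fun hb => hL.2 ((AddSubgroup.eq_bot_iff_forall _).2 fun v hv => ?_)⟩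
      · rintro _ ⟨x, hx, rfl⟩
        simpa using hEn.conj_mem x (hL.1 hx) k
      · have hk : k • v = 0 := (AddSubgroup.eq_bot_iff_forall _).1 hb _ (by
          rintro _ ⟨x, hx, rfl⟩
          simp only [MulEquiv.coe_toMonoidHom, MulAut.conj_apply, mul_smul, inv_smul_smul, hv x hx])
        exact smul_eq_zero_iff_eq k |>.1 hk
    intro k H hH
    refine ⟨hstep k H hH.1, fun L hL hle => ?_⟩
    have h2 := hH.2 (hstep k⁻¹ L hL) fun x hx => ⟨_, hle ⟨x, hx, rfl⟩, by simp [mul_assoc]⟩
    intro x hx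
    exact ⟨_, h2 ⟨x, hx, rfl⟩, by simp [mul_assoc]⟩
  letI : MulAction K Ω :=
    { smul := fun k H => ⟨H.1.map (MulAut.conj k).toMonoidHom, hsmul k _ H.2⟩
      one_smul := fun H => Subtype.ext (by
        show H.1.map (MulAut.conj (1 : K)).toMonoidHom = H.1
        ext x; simp)
      mul_smul := fun k k' H => Subtype.ext (by
        show H.1.map (MulAut.conj (k * k')).toMonoidHom =
          (H.1.map (MulAut.conj k').toMonoidHom).map (MulAut.conj k).toMonoidHom
        rw [Subgroup.map_map]; congr 1; ext x; simp [mul_assoc]) }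
  let B : Ω → AddSubgroup V := fun H => fix V H.1
  have hB : ∀ (k : K) (i : Ω) (v : V), v ∈ B i → k • v ∈ B (k • i) := by
    rintro k i v hv _ ⟨x, hx, rfl⟩
    simp only [MulEquiv.coe_toMonoidHom, MulAut.conj_apply, mul_smul, inv_smul_smul, hv x hx]
  obtain ⟨H₀, hH₀⟩ := exists_top h E
  let i₀ : Ω := ⟨H₀, hH₀⟩
  haveI : Nonempty Ω := ⟨i₀⟩
  have hBne : ∀ i : Ω, B i ≠ ⊥ := fun i => i.2.1.2
  set U : AddSubgroup V := ⨆ k : K, B (k • i₀) with hU
  have hUtop : U = ⊤ := by
    refine (h.irr U ?_).resolve_left fun hb => hBne i₀ ?_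
    · intro k v hv
      have hle : U ≤ U.comap (DistribSMul.toAddMonoidHom V k) := iSup_le fun g w hw => by
        show k • w ∈ U
        refine le_iSup (fun g : K => B (g • i₀)) (k * g) ?_
        rw [mul_smul]
        exact hB k _ w hw
      exact hle hv
    · refine le_bot_iff.1 (hb ▸ (le_iSup_of_le (1 : K) (le_of_eq ?_)))
      rw [one_smul]
  haveI : MulAction.IsPretransitive K Ω := by
    refine (MulAction.isPretransitive_iff_base i₀).2 fun j => ?_
    by_contra hj
    push Not at hj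
    obtain ⟨x, hx, hx0⟩ : ∃ x ∈ B j, x ≠ 0 := by
      by_contra hall
      push Not at hall
      exact hBne j ((AddSubgroup.eq_bot_iff_forall _).2 hall)
    have hker : U ≤ (trace V j.1).ker := iSup_le fun k w hw =>
      AddMonoidHom.mem_ker.2 (hkill j.2 (k • i₀).2 (fun e => hj k (Subtype.ext e)) w hw)
    have h0 : trace V j.1 x = 0 := hker (hUtop ▸ AddSubgroup.mem_top x)
    rw [trace_of_fixed j.1 hx] at h0
    exact hx0 (h.nsmul_eq_zero (hcardH _ j.2.1.1) h0)
  have htop1 : ∀ i : Ω, (∀ j : Ω, j = i) → i.1 = ⊥ := by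
    intro i hone
    refine (Subgroup.eq_bot_iff_forall _).2 fun x hx => h.faith x fun v => ?_
    have hle : U ≤ B i := iSup_le fun k => by rw [hone (k • i₀)]
    exact hle (hUtop ▸ AddSubgroup.mem_top v) x hx
  -- two blocks contradict the imprimitive case
  have hsingle : ∀ i j : Ω, j = i := by
    by_contra htwo
    push Not at htwo
    obtain ⟨i₁, j₁, hij⟩ := htwo
    let f : ((i : Ω) → B i) →+ V :=
      { toFun := fun x => ∑ i, (x i : V)
        map_zero' := by simp
        map_add' := fun x y => by simp [Finset.sum_add_distrib] }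
    have hfs : ∀ (i : Ω) (v : B i), f (Pi.single i v) = v := fun i v => by
      show ∑ j, ((Pi.single i v : (j : Ω) → B j) j : V) = v
      rw [Finset.sum_eq_single i (fun j _ hj => by rw [Pi.single_eq_of_ne hj]; rfl)
        (fun hi => absurd (Finset.mem_univ i) hi), Pi.single_eq_same]
    have hbij : Function.Bijective f := by
      refine ⟨(injective_iff_map_eq_zero f).2 fun x hx => funext fun i => Subtype.ext ?_, ?_⟩
      · have h1 : trace V i.1 (f x) = 0 := by rw [hx, map_zero]
        rw [show f x = ∑ j, (x j : V) from rfl, map_sum,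
          Finset.sum_eq_single i (fun j _ hj =>
            hkill i.2 j.2 (fun e => hj (Subtype.ext e)) _ (x j).2)
            (fun hi => absurd (Finset.mem_univ i) hi), trace_of_fixed i.1 (x i).2] at h1
        exact h.nsmul_eq_zero (hcardH _ i.2.1.1) h1
      · refine AddMonoidHom.range_eq_top.1 (eq_top_iff.2 (hUtop ▸ iSup_le fun k v hv => ?_))
        exact ⟨_, hfs (k • i₀) ⟨v, hv⟩⟩
    let e := (AddEquiv.ofBijective f hbij).symm
    have he : ∀ x, e (f x) = x := (AddEquiv.ofBijective f hbij).symm_apply_apply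
    have hcard : ∀ i : Ω, 3 ≤ Nat.card (B i) := by
      intro i
      obtain ⟨c, hc, hci⟩ : ∃ c ∈ E, c ∉ i.1 := SetLike.not_le_iff_exists.1 fun hle =>
        i.2.1.2 (le_bot_iff.1 (hfixE ▸ fix_anti hle))
      have h1 : 1 < Nat.card (B i) := (AddSubgroup.one_lt_card_iff_ne_bot _).2 (hBne i)
      by_contra hlt
      have h2 : Nat.card (B i) = 2 := by omega
      obtain ⟨x, hx, hx0⟩ : ∃ x ∈ B i, x ≠ 0 := by
        by_contra hall
        push Not at hall
        exact hBne i ((AddSubgroup.eq_bot_iff_forall _).2 hall)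
      have hcm : c • x ∈ B i := fun y hy => by
        rw [← mul_smul, hcomm y (i.2.1.1 hy) c hc, mul_smul, hx y hy]
      have hcx : c • x = x := by
        rcases eq_or_ne (c • x) 0 with h0 | h0
        · exact absurd (smul_eq_zero_iff_eq c |>.1 h0) hx0
        by_contra hne
        obtain ⟨b, -, hu⟩ := (Nat.card_eq_two_iff' (⟨x, hx⟩ : B i)).1 h2
        have e1 := hu 0 fun e => hx0 (congrArg Subtype.val e).symm
        have e2 := hu ⟨c • x, hcm⟩ fun e => hne (congrArg Subtype.val e)
        exact h0 (congrArg Subtype.val (e2.trans e1.symm))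
      have hle : i.1 ⊔ Subgroup.zpowers c ≤ MulAction.stabilizer K x :=
        sup_le hx (Subgroup.zpowers_le.2 hcx)
      refine hci (i.2.2 ⟨sup_le i.2.1.1 (Subgroup.zpowers_le.2 hc), fun hb => hx0 ?_⟩ le_sup_left
        (Subgroup.mem_sup_right (Subgroup.mem_zpowers c)))
      exact (AddSubgroup.eq_bot_iff_forall _).1 hb x fun y hy => hle hy
    let S : Blocks K V Ω :=
      { B := B
        e := e
        e_single := fun i v hv => by
          have hh : e v = Pi.single i ⟨v, hv⟩ := by
            rw [← he (Pi.single i ⟨v, hv⟩), hfs]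
          rw [hh]
          exact ⟨by rw [Pi.single_eq_same], fun j hj => by rw [Pi.single_eq_of_ne hj]; rfl⟩
        equiv := fun k v i => by
          obtain ⟨x, rfl⟩ := hbij.2 v
          let y : (j : Ω) → B j := fun j =>
            ⟨k • (x (k⁻¹ • j) : V), by simpa using hB k _ _ (x (k⁻¹ • j)).2⟩
          have hy : f y = k • f x := by
            show ∑ j, k • (x (k⁻¹ • j) : V) = k • ∑ j, (x j : V)
            rw [Finset.smul_sum]
            exact Fintype.sum_equiv (MulAction.toPerm k⁻¹) _ _ fun j => rfl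
          rw [← hy, he, he]
          show k • (x (k⁻¹ • (k • i)) : V) = _
          rw [inv_smul_smul]
        two := fun i => by
          by_cases hi : i₁ = i
          · exact ⟨j₁, hi ▸ hij⟩
          · exact ⟨i₁, hi⟩
        three := hcard }
    haveI := Fact.mk h.prime_q
    haveI := Fact.mk h.prime_r
    exact S.false h.ne h.uq h.ur _ (h.exists_move default) _ (h.symm.exists_move default)
  have hbot : H₀ = ⊥ := htop1 i₀ fun j => hsingle i₀ j
  refine ⟨fun b hb => ?_, fun v hv => ?_⟩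
  · obtain ⟨i, hi⟩ := hH₀.exists_pow h hp hps hcomm hexp ha
      (by rw [hbot]; exact fun h' => ha1 (Subgroup.mem_bot.1 h')) hb
    rw [hbot, Subgroup.mem_bot, mul_eq_one_iff_eq_inv] at hi
    exact hi ▸ inv_mem (Subgroup.pow_mem _ (Subgroup.mem_zpowers a) i)
  · by_contra hv0
    have hle : Subgroup.zpowers a ≤ MulAction.stabilizer K v := Subgroup.zpowers_le.2 hv
    have := hH₀.2 ⟨Subgroup.zpowers_le.2 ha, fun hb => hv0
      ((AddSubgroup.eq_bot_iff_forall _).1 hb v fun x hx => hle hx)⟩ (by rw [hbot]; exact bot_le)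
      (Subgroup.mem_zpowers a)
    rw [hbot] at this
    exact ha1 (Subgroup.mem_bot.1 this)

/-- Every normal abelian subgroup is fixed-point-free and cyclic. -/
theorem Hyp.abelian (h : Hyp K V s q r) (N : Subgroup K) [hNn : N.Normal]
    (hcomm : ∀ a ∈ N, ∀ b ∈ N, a * b = b * a) :
    (∀ a ∈ N, a ≠ 1 → ∀ v : V, a • v = v → v = 0) ∧ IsCyclic N := by
  classical
  have hE : ∀ p : ℕ, p.Prime → ∀ a ∈ N, a ^ p = 1 → a ≠ 1 →
      (∀ b ∈ N, b ^ p = 1 → b ∈ Subgroup.zpowers a) ∧ ∀ v : V, a • v = v → v = 0 := by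
    intro p hp a ha hap ha1
    let E : Subgroup K :=
      { carrier := {x | x ∈ N ∧ x ^ p = 1}
        one_mem' := ⟨one_mem _, one_pow _⟩
        mul_mem' := fun {x y} hx hy => ⟨mul_mem hx.1 hy.1, by
          rw [Commute.mul_pow (hcomm x hx.1 y hy.1), hx.2, hy.2, one_mul]⟩
        inv_mem' := fun {x} hx => ⟨inv_mem hx.1, by rw [inv_pow, hx.2, inv_one]⟩ }
    haveI : E.Normal := ⟨fun x hx g => ⟨hNn.conj_mem x hx.1 g, by rw [conj_pow, hx.2]; simp⟩⟩
    obtain ⟨h1, h2⟩ := h.elementary E hp (fun x hx y hy => hcomm x hx.1 y hy.1)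
      (fun x hx => hx.2) (a := a) ⟨ha, hap⟩ ha1
    exact ⟨fun b hb hbp => h1 b ⟨hb, hbp⟩, h2⟩
  refine ⟨fun a ha ha1 v hv => ?_, ?_⟩
  · obtain ⟨p, hp, hpd⟩ := Nat.exists_prime_and_dvd (fun e => ha1 (orderOf_eq_one_iff.1 e))
    have ho : orderOf (a ^ (orderOf a / p)) = p := orderOf_pow_orderOf_div (orderOf_pos a).ne' hpd
    have hfix : ∀ n : ℕ, a ^ n • v = v := fun n => by
      induction n with
      | zero => rw [pow_zero, one_smul]
      | succ n ih => rw [pow_succ, mul_smul, hv, ih]
    refine (hE p hp _ (pow_mem ha (orderOf a / p)) ?_ ?_).2 v (hfix _)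
    · have h1 := pow_orderOf_eq_one (a ^ (orderOf a / p))
      rwa [ho] at h1
    · intro e
      rw [e, orderOf_one] at ho
      exact hp.one_lt.ne ho
  · letI : CommGroup N :=
      { (inferInstance : Group N) with
        mul_comm := fun a b => Subtype.ext (hcomm a a.2 b b.2) }
    refine CfsgLib.Coprime.isCyclic_of_forall_prime fun p hp => ?_
    by_cases htriv : ∀ x ∈ (powMonoidHom p : N →* N).ker, x = 1
    · rw [(Subgroup.eq_bot_iff_forall _).2 htriv, Subgroup.card_bot]
      exact hp.pos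
    · push Not at htriv
      obtain ⟨x, hx, hx1⟩ := htriv
      have hxp : x ^ p = 1 := hx
      have hle : (powMonoidHom p : N →* N).ker ≤ Subgroup.zpowers x := fun y hy => by
        have hyp : y ^ p = 1 := hy
        obtain ⟨k, hk⟩ := (hE p hp x x.2 (congrArg Subtype.val hxp)
          fun e => hx1 (Subtype.ext e)).1 y y.2 (congrArg Subtype.val hyp)
        exact ⟨k, Subtype.ext hk⟩
      refine (Subgroup.card_le_of_le hle).trans ?_
      rw [Nat.card_zpowers]
      exact Nat.le_of_dvd hp.pos (orderOf_dvd_of_pow_eq_one hxp)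

end Elementary

end CfsgLib.Palfy69
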