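import Cfsg.Agent.Palfy69.Common
import Cfsg.Agent.Palfy69.Central
import Cfsg.Agent.S0867

/-!
# Pálfy's condition: stabilisers of characters of the derived subgroup
-/

set_option autoImplicit false
set_option linter.style.haveILetI false
set_option linter.unusedSectionVars false

namespace CfsgLib.Palfy69

open scoped commutatorElement
open CfsgLib.Characters CfsgLib.OddOrderChar CfsgLib.CharactersDeep

universe u

variable {G : Type u} [Group G] [Fintype G] {P M H : Subgroup G} {p : ℕ} [Fact p.Prime]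

theorem degree_dvd_card' {K : Type*} [Group K] [Fintype K] {χ : K → ℂ}
    (h : Cfsg.IsIrrCharacter K χ) {d : ℕ} (hd : χ 1 = d) : d ∣ Nat.card K := by
  obtain ⟨n, ρ, hρ, rfl⟩ := h
  rw [Representation.char_one, Nat.cast_inj] at hd
  exact hd ▸ Characters.finrank_dvd_card ρ

/-- The inertia subgroup. -/
def inertiaOf (P : Subgroup G) [P.Normal] (θ : P → ℂ) : Subgroup G where
  carrier := {g | conjBy P θ g = θ}
  one_mem' := conjBy_one P θ
  mul_mem' := fun {a b} (ha : _ = θ) (hb : _ = θ) => by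
    show conjBy P θ (a * b) = θ
    rw [← conjBy_mul, ha, hb]
  inv_mem' := fun {a} (ha : _ = θ) => by
    show conjBy P θ a⁻¹ = θ
    conv_lhs => rw [← ha]
    rw [conjBy_mul, mul_inv_cancel, conjBy_one]

theorem mem_inertiaOf [P.Normal] {θ : P → ℂ} {g : G} :
    g ∈ inertiaOf P θ ↔ conjBy P θ g = θ := Iff.rfl

/-- A degree over `θ` is a multiple of the inertia index and of `θ 1`. -/
theorem dvd_of_over [P.Normal] [Fintype P] {θ : P → ℂ} (hθ : Cfsg.IsIrrCharacter P θ) {d : ℕ}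
    (hd : θ 1 = d) {χ : G → ℂ} (hχ : Cfsg.IsIrrCharacter G χ) {c : ℕ} (hc : χ 1 = c)
    (hne : Cfsg.classInner (fun y : P => χ y) θ ≠ 0) : (inertiaOf P θ).index * d ∣ c := by
  classical
  obtain ⟨e, he⟩ := classInner_character_irr (isCharacter_restrict P (isCharacter_of_isIrr hχ)) hθ
  have h := clifford_degree P hχ hθ (inertiaOf P θ) (fun g => mem_inertiaOf) hne
  rw [he, hc, hd, ← Nat.cast_mul, ← Nat.cast_mul, Nat.cast_inj] at h
  exact ⟨e, by rw [h]; ring⟩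

/-- The degree of a character of a `p`-group over a nontrivial character of the derived subgroup. -/
theorem ClassTwo.dvd_degree [hPn : P.Normal] [Fintype P] (h : ClassTwo P M) (hP : IsPGroup p P)
    (hMP : M = ⁅P, P⁆) {v : Dual M} (hv : v ≠ 0) {ν : h.rad v.hom →* ℂˣ}
    (hν : h.IsExt v.hom ν) [Fintype (h.rad v.hom)] {θ : P → ℂ} (hθ : Cfsg.IsIrrCharacter P θ)
    (hne : Cfsg.classInner (fun x : h.rad v.hom => θ x) (fun x => (ν x : ℂ)) ≠ 0) :
    ∃ d : ℕ, θ 1 = d ∧ p ∣ d := by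
  obtain ⟨d, -, hd⟩ := exists_degree_pos hθ
  obtain ⟨n, hn⟩ := IsPGroup.iff_card.1 hP
  obtain ⟨j, -, rfl⟩ := (Nat.dvd_prime_pow (Fact.out : p.Prime)).1
    (hn ▸ degree_dvd_card' hθ hd)
  refine ⟨_, hd, dvd_pow_self p fun hj => hv (Dual.eq_zero_iff.2 fun y => ?_)⟩
  rw [hj, pow_zero, Nat.cast_one] at hd
  obtain ⟨f, hf⟩ := exists_hom_of_degree_one (isCharacter_of_isIrr hθ) hd
  obtain ⟨-, -, hM⟩ := h.over v.hom hν hθ hne
  have hle : ⁅P, P⁆ ≤ v.hom.ker.map M.subtype := by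
    rw [Subgroup.commutator_le]
    intro a ha b hb
    refine ⟨h.c ⟨a, ha⟩ ⟨b, hb⟩, MonoidHom.mem_ker.2 (Units.ext ?_), rfl⟩
    have h1 := hM (h.c ⟨a, ha⟩ ⟨b, hb⟩)
    rw [hd, one_mul, hf] at h1
    simp only at h1
    rw [Units.val_one, ← h1,
      show (⟨(h.c ⟨a, ha⟩ ⟨b, hb⟩ : G), h.le (h.c ⟨a, ha⟩ ⟨b, hb⟩).2⟩ : P) =
        ⁅(⟨a, ha⟩ : P), (⟨b, hb⟩ : P)⁆ from
          Subtype.ext (map_commutatorElement P.subtype (⟨a, ha⟩ : P) ⟨b, hb⟩).symm,
      map_commutatorElement, commutatorElement_eq_one_iff_mul_comm.2 (mul_comm _ _), Units.val_one]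
  rw [← hMP] at hle
  obtain ⟨z, hz, hzy⟩ := hle y.2
  rw [← Subtype.ext hzy]
  exact hz

/-- An invariant character over `v` with the same stabiliser in `H`. -/
theorem ClassTwo.good [hPn : P.Normal] [M.Normal] [Group.IsSolvable G] (h : ClassTwo P M)
    (hP : IsPGroup p P) (hMP : M = ⁅P, P⁆) (hinf : P ⊓ H = ⊥) (hsup : P ⊔ H = ⊤)
    (hcop : (Nat.card H).Coprime p) {w : ℕ} [Fact w.Prime] (hsep : Sep G p w) {v : Dual M}
    (hv : v ≠ 0) : GoodAt w H v := by
  classical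
  haveI := Fintype.ofFinite P
  haveI := Fintype.ofFinite (h.rad v.hom)
  set S := MulAction.stabilizer G v ⊓ H with hS
  have hfix : ∀ g ∈ S, ∀ m : M, v.hom ⟨g * m * g⁻¹, h.normM.conj_mem m m.2 g⟩ = v.hom m :=
    fun g hg m => Dual.smul_eq_iff.1 hg.1 m
  obtain ⟨ν, hν, hνfix⟩ := h.exists_fixed_ext hP v.hom S
    (hcop.coprime_dvd_left (Subgroup.card_dvd_of_le inf_le_right)) hfix
  haveI := h.rad_normal v.hom
  obtain ⟨θ, hθ, hne⟩ := Clifford.exists_over (h.rad v.hom) (isIrr_linChar ν)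
  obtain ⟨d, hd, hpd⟩ := h.dvd_degree hP hMP hv hν hθ hne
  obtain ⟨-, -, hM⟩ := h.over v.hom hν hθ hne
  set T := inertiaOf P θ with hT
  have hPT : P ≤ T := inertia_le P (isClassFunction_of_isIrr hθ) T fun g => mem_inertiaOf
  have hTH : ∀ k : H, (k : G) ∈ T ↔ k ∈ MulAction.stabilizer H v := by
    intro k
    constructor
    · intro hk
      refine (Dual.smul_eq_iff.2 fun m => Units.ext ?_ : (k : G) • v = v)
      have h1 := congrFun (mem_inertiaOf.1 hk) ⟨m, h.le m.2⟩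
      rw [conjBy_apply, hM] at h1
      refine mul_left_cancel₀ (irr_one_ne_zero hθ) (Eq.trans ?_ h1)
      exact (hM (Dual.cjP M (k : G) m)).symm
    · intro hk
      exact (h.conj_eq_iff v.hom hν hθ hne (hfix k ⟨hk, k.2⟩)).2 (hνfix k ⟨hk, k.2⟩)
  haveI := Fintype.ofFinite T
  haveI : (P.subgroupOf T).Normal := Subgroup.normal_subgroupOf
  haveI := Fintype.ofFinite (P.subgroupOf T)
  have hθ' := isIrr_onSubgroupOf P T hPT hθ
  obtain ⟨n, hn⟩ := IsPGroup.iff_card.1 hP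
  have hcard : Nat.card (P.subgroupOf T) = p ^ n :=
    hn ▸ Nat.card_congr (Subgroup.subgroupOfEquivOfLe hPT).toEquiv
  have hdet : Cfsg.detOrder (onSubgroupOf P T θ) ∣ p ^ n := by
    obtain ⟨k, ρ, hρ, hρθ⟩ := id hθ'
    rw [← hρθ, LinearChar.detOrder_eq, ← hcard]
    refine orderOf_dvd_of_pow_eq_one (MonoidHom.ext fun x => ?_)
    rw [MonoidHom.pow_apply, ← map_pow, pow_card_eq_one', map_one, MonoidHom.one_apply]
  have hd' : onSubgroupOf P T θ 1 = d := by
    rw [← hd]; exact congrArg θ (Subtype.ext (by simp))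
  have hdeg : d ∣ p ^ n := hn ▸ degree_dvd_card' hθ hd
  have hidx : ((P.subgroupOf T).index).Coprime (p ^ n) := by
    refine Nat.Coprime.pow_right n (hcop.coprime_dvd_left ?_)
    refine (Subgroup.relIndex_dvd_index_of_normal P T).trans (dvd_of_eq ?_)
    exact (Subgroup.IsComplement'.index_eq_card
      (Subgroup.isComplement'_of_disjoint_and_mul_eq_univ (disjoint_iff.2 hinf)
        (by rw [← Subgroup.normal_mul, hsup, Subgroup.coe_top])).symm)
  obtain ⟨ξ, ⟨hξ, hξres, -⟩, -⟩ := Cfsg.Agent.S0867.result (P.subgroupOf T) (onSubgroupOf P T θ)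
    hθ' (fun g x => congrFun (onSubgroupOf_invariant P T (fun g => mem_inertiaOf) g) x) d hd'
    ((hidx.coprime_dvd_right hdet).mul_right (hidx.coprime_dvd_right hdeg))
  obtain ⟨Q, h1, h2, h3⟩ := unique_in_stabilizer hinf hsup hθ hd T (fun g => mem_inertiaOf) hPT hξ
    (fun y => hξres ⟨⟨y, hPT y.2⟩, Subgroup.mem_subgroupOf.2 y.2⟩) (q := w)
    (fun c hc hdvd hwc => hsep c hc (hpd.trans ((dvd_mul_left d _).trans hdvd)) hwc)
  exact ⟨Q, fun k hk => (hTH k).1 (Subgroup.mem_subgroupOf.1 (h1 hk)), h2,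
    fun Q' hQ' => h3 Q' fun k hk => Subgroup.mem_subgroupOf.2 ((hTH k).2 (hQ' hk))⟩

/-- A normal Sylow subgroup of `H` fixing `v` fixes every extension. -/
theorem ClassTwo.ext_fixed [hPn : P.Normal] [M.Normal] (h : ClassTwo P M) (hP : IsPGroup p P)
    (hMP : M = ⁅P, P⁆) (hsup : P ⊔ H = ⊤) {w : ℕ} [Fact w.Prime] (hsep : Sep G p w)
    (Q : Sylow w H) (hQn : (Q : Subgroup H).Normal) {v : Dual M} (hv : v ≠ 0)
    (ν : h.rad v.hom →* ℂˣ) (hν : h.IsExt v.hom ν) {g : H} (hg : g ∈ (Q : Subgroup H))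
    (hgv : ∀ m : M, v.hom ⟨(g : G) * m * (g : G)⁻¹, h.normM.conj_mem m m.2 g⟩ = v.hom m) :
    ν.comp (h.cjX (g : G) hgv) = ν := by
  classical
  haveI := Fintype.ofFinite P
  haveI := Fintype.ofFinite (h.rad v.hom)
  haveI := h.rad_normal v.hom
  obtain ⟨θ, hθ, hne⟩ := Clifford.exists_over (h.rad v.hom) (isIrr_linChar ν)
  obtain ⟨d, hd, hpd⟩ := h.dvd_degree hP hMP hv hν hθ hne
  obtain ⟨χ, hχ, hχθ⟩ := Clifford.exists_over P hθ
  obtain ⟨c, -, hc⟩ := exists_degree_pos hχ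
  have hdvd := dvd_of_over hθ hd hχ hc hχθ
  have hidx : ¬ w ∣ (inertiaOf P θ).index := fun hdw =>
    hsep c (DegreeGraph.mem_charDegrees hχ hc) (hpd.trans ((dvd_mul_left d _).trans hdvd))
      (hdw.trans ((dvd_mul_right _ d).trans hdvd))
  have hPT : P ≤ inertiaOf P θ :=
    inertia_le P (isClassFunction_of_isIrr hθ) _ fun g => mem_inertiaOf
  have hle := normal_sylow_le Q hQn ((inertiaOf P θ).subgroupOf H)
    (by rw [index_eq_of_complement hsup _ hPT]; exact hidx)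
  exact (h.conj_eq_iff v.hom hν hθ hne hgv).1 (Subgroup.mem_subgroupOf.1 (hle hg))

end CfsgLib.Palfy69
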