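import Cfsg.Agent.Palfy69.Setup
import Cfsg.Agent.Solvable.Fitting
import Cfsg.Agent.Solvable.Nilpotent
import Mathlib.GroupTheory.FiniteAbelian.Duality

/-!
# Pálfy's condition: the normal subgroups inside the centralizer of `A`
-/

set_option autoImplicit false
set_option linter.style.haveILetI false
set_option linter.unusedSectionVars false

namespace CfsgLib.Palfy69

open scoped commutatorElement

variable {K : Type*} [Group K] [Finite K]

/-- A maximal abelian normal subgroup. -/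
structure MaxAb (A : Subgroup K) : Prop where
  normal : A.Normal
  comm : ∀ a ∈ A, ∀ b ∈ A, a * b = b * a
  max : ∀ N : Subgroup K, N.Normal → (∀ a ∈ N, ∀ b ∈ N, a * b = b * a) → A ≤ N → N ≤ A

theorem exists_maxAb (K : Type*) [Group K] [Finite K] : ∃ A : Subgroup K, MaxAb A := by
  obtain ⟨A, hA⟩ := Set.Finite.exists_maximal
    (Set.toFinite {N : Subgroup K | N.Normal ∧ ∀ a ∈ N, ∀ b ∈ N, a * b = b * a})
    ⟨⊥, Subgroup.normal_bot, fun a ha b hb => by
      rw [Subgroup.mem_bot.1 ha, Subgroup.mem_bot.1 hb]⟩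
  exact ⟨A, hA.1.1, hA.1.2, fun N hN hc hle => hA.2 ⟨hN, hc⟩ hle⟩

variable {A : Subgroup K}

/-- A normal abelian subgroup centralizing `A` lies in it. -/
theorem MaxAb.le (hA : MaxAb A) (N : Subgroup K) [hN : N.Normal]
    (hc : ∀ a ∈ N, ∀ b ∈ N, a * b = b * a) (hNA : ∀ a ∈ N, ∀ b ∈ A, a * b = b * a) : N ≤ A := by
  haveI := hA.normal
  refine le_trans le_sup_right (hA.max (A ⊔ N) inferInstance ?_ le_sup_left)
  have h1 : A ⊔ N ≤ Subgroup.centralizer (A : Set K) := sup_le
    (fun a ha => Subgroup.mem_centralizer_iff.2 fun b hb => hA.comm b hb a ha)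
    fun a ha => Subgroup.mem_centralizer_iff.2 fun b hb => (hNA a ha b hb).symm
  have h2 : A ⊔ N ≤ Subgroup.centralizer (N : Set K) := sup_le
    (fun a ha => Subgroup.mem_centralizer_iff.2 fun b hb => hNA b hb a ha)
    fun a ha => Subgroup.mem_centralizer_iff.2 fun b hb => hc b hb a ha
  have h3 : A ⊔ N ≤ Subgroup.centralizer ((A ⊔ N : Subgroup K) : Set K) :=
    Subgroup.le_centralizer_iff.1 (sup_le (Subgroup.le_centralizer_iff.1 h1)
      (Subgroup.le_centralizer_iff.1 h2))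
  exact fun a ha b hb => Subgroup.mem_centralizer_iff.1 (h3 hb) a ha

/-- An element of `C(A)` centralizing every core of `C(A)` lies in `A`. -/
theorem MaxAb.mem_of_centralizes [Group.IsSolvable K] (hA : MaxAb A) {x : K}
    (hx : ∀ a ∈ A, x * a = a * x)
    (hO : ∀ (u : ℕ), u.Prime → ∀ y ∈ (Cfsg.pCore u ↥(Subgroup.centralizer (A : Set K))).map
      (Subgroup.centralizer (A : Set K)).subtype, x * y = y * x) : x ∈ A := by
  classical
  haveI := hA.normal
  set C := Subgroup.centralizer (A : Set K) with hC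
  haveI : C.Normal := Subgroup.normal_centralizer
  haveI : Group.IsSolvable C := inferInstance
  set F := Cfsg.fittingSubgroup ↥C with hF
  set N := F ⊓ Subgroup.centralizer (F : Set C) with hN
  haveI : F.Normal := Solvable.fittingSubgroup_normal
  haveI hFc : F.Characteristic := Subgroup.characteristic_iff_map_eq.2 fun φ => by
    rw [hF, Solvable.fittingSubgroup_eq_iSup, Subgroup.map_iSup]
    exact iSup_congr fun p =>
      Subgroup.characteristic_iff_map_eq.1 (Solvable.pCore_characteristic _) φ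
  haveI : N.Characteristic := inferInstance
  haveI : (N.map C.subtype).Normal := ConjAct.normal_of_characteristic_of_normal
  have hxC : x ∈ C := Subgroup.mem_centralizer_iff.2 fun a ha => (hx a ha).symm
  have hcent : (⟨x, hxC⟩ : C) ∈ Subgroup.centralizer (F : Set C) := by
    have hle : F ≤ Subgroup.centralizer ({(⟨x, hxC⟩ : C)} : Set C) := by
      rw [hF, Solvable.fittingSubgroup_eq_iSup]
      refine iSup_le fun p y hy => Subgroup.mem_centralizer_singleton_iff.2 (Subtype.ext ?_)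
      exact (hO p p.2 y ⟨y, hy, rfl⟩).symm
    exact Subgroup.mem_centralizer_iff.2 fun y hy =>
      Subgroup.mem_centralizer_singleton_iff.1 (hle hy)
  refine hA.le (N.map C.subtype) ?_ ?_ ⟨⟨x, hxC⟩, ⟨Solvable.centralizer_fittingSubgroup_le hcent,
    hcent⟩, rfl⟩
  · rintro _ ⟨a, ha, rfl⟩ _ ⟨b, hb, rfl⟩
    exact congrArg Subtype.val (Subgroup.mem_centralizer_iff.1 hb.2 a ha.1)
  · rintro _ ⟨a, -, rfl⟩ b hb
    exact (Subgroup.mem_centralizer_iff.1 a.2 b hb).symm

/-- A normal `u`-subgroup centralizing `A`. -/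
structure Core (A O : Subgroup K) (u : ℕ) : Prop where
  normal : O.Normal
  prime_u : u.Prime
  pgroup : IsPGroup u O
  cent : ∀ a ∈ O, ∀ b ∈ A, a * b = b * a

variable {O : Subgroup K} {u : ℕ}

theorem Core.central (hO : Core A O u) (hA : MaxAb A) {x : K} (hx : x ∈ O)
    (hc : ∀ y ∈ O, x * y = y * x) : x ∈ A := by
  haveI := hO.normal
  haveI : ((Subgroup.center O).map O.subtype).Normal := ConjAct.normal_of_characteristic_of_normal
  refine hA.le ((Subgroup.center O).map O.subtype) ?_ ?_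
    ⟨⟨x, hx⟩, Subgroup.mem_center_iff.2 fun y => Subtype.ext (hc y y.2).symm, rfl⟩
  · rintro _ ⟨a, ha, rfl⟩ _ ⟨b, -, rfl⟩
    exact congrArg Subtype.val (Subgroup.mem_center_iff.1 ha b).symm
  · rintro _ ⟨a, -, rfl⟩ b hb
    exact hO.cent a a.2 b hb

theorem Core.comm_mem (hO : Core A O u) (hA : MaxAb A) {x y : K} (hx : x ∈ O) (hy : y ∈ O) :
    ⁅x, y⁆ ∈ A := by
  haveI := hO.normal
  haveI := Fact.mk hO.prime_u
  haveI : Group.IsNilpotent O := hO.pgroup.isNilpotent
  set Z2 := Subgroup.upperCentralSeries O 2 with hZ2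
  set D := commutator O with hD
  haveI : (Z2 ⊓ D).Characteristic := inferInstance
  haveI : ((Z2 ⊓ D).map O.subtype).Normal := ConjAct.normal_of_characteristic_of_normal
  have hinner : ∀ a : O, a ∈ Z2 → ∀ g : O, ⁅a, g⁆ ∈ Subgroup.center O := fun a ha g => by
    rw [← Subgroup.upperCentralSeries_one]
    exact Subgroup.mem_upperCentralSeries_succ_iff.1 ha g
  have hDZ : ∀ a : O, a ∈ Z2 → ∀ d ∈ D, a * d = d * a := by
    intro a ha d hd
    let f : O →* O :=
      { toFun := fun g => ⁅a, g⁆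
        map_one' := commutatorElement_one_right a
        map_mul' := fun g g' => by
          have hz := Subgroup.mem_center_iff.1 (hinner a ha g') g
          rw [show ⁅a, g * g'⁆ = ⁅a, g⁆ * (g * ⁅a, g'⁆ * g⁻¹) by
            simp only [commutatorElement_def]; group, hz, mul_inv_cancel_right] }
    have hker : ∀ g g' : O, f ⁅g, g'⁆ = 1 := fun g g' => by
      rw [map_commutatorElement, commutatorElement_eq_one_iff_mul_comm]
      exact (Subgroup.mem_center_iff.1 (hinner a ha g) (f g')).symm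
    have hle : D ≤ f.ker := by
      rw [hD, commutator_def, Subgroup.commutator_le]
      exact fun g _ g' _ => MonoidHom.mem_ker.2 (hker g g')
    exact commutatorElement_eq_one_iff_mul_comm.1 (hle hd)
  have hsmall : Z2 ⊓ D ≤ Subgroup.center O := by
    intro a ha
    have haA : (a : K) ∈ A := hA.le ((Z2 ⊓ D).map O.subtype)
      (by
        rintro _ ⟨b, hb, rfl⟩ _ ⟨c, hc, rfl⟩
        exact congrArg Subtype.val (hDZ b hb.1 c hc.2))
      (by rintro _ ⟨b, -, rfl⟩ c hc; exact hO.cent b b.2 c hc) ⟨a, ha, rfl⟩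
    exact Subgroup.mem_center_iff.2 fun g => Subtype.ext (hO.cent g g.2 a haA)
  have hDc : D ≤ Subgroup.center O := by
    by_contra hnot
    have hne : D.map (QuotientGroup.mk' (Subgroup.center O)) ≠ ⊥ := fun hb => hnot fun d hd => by
      rw [← QuotientGroup.ker_mk' (Subgroup.center O)]
      exact (Subgroup.map_eq_bot_iff D).1 hb hd
    haveI : (D.map (QuotientGroup.mk' (Subgroup.center O))).Normal :=
      Subgroup.Normal.map inferInstance _ (QuotientGroup.mk'_surjective _)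
    refine Solvable.inf_center_ne_bot hne ((Subgroup.eq_bot_iff_forall _).2 ?_)
    rintro _ ⟨⟨d, hd, rfl⟩, hz⟩
    have hd2 : d ∈ Z2 := Subgroup.mem_upperCentralSeries_succ_iff.2 fun g => by
      rw [Subgroup.upperCentralSeries_one, ← QuotientGroup.eq_one_iff,
        ← QuotientGroup.mk'_apply, map_commutatorElement, commutatorElement_eq_one_iff_mul_comm]
      exact (Subgroup.mem_center_iff.1 hz _).symm
    exact (QuotientGroup.eq_one_iff d).2 (hsmall ⟨hd2, hd⟩)
  have hc : ⁅(⟨x, hx⟩ : O), (⟨y, hy⟩ : O)⁆ ∈ Subgroup.center O :=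
    hDc (Subgroup.commutator_mem_commutator (Subgroup.mem_top _) (Subgroup.mem_top _))
  have heq : ((⁅(⟨x, hx⟩ : O), (⟨y, hy⟩ : O)⁆ : O) : K) = ⁅x, y⁆ :=
    map_commutatorElement O.subtype _ _
  rw [← heq]
  exact hO.central hA (⁅(⟨x, hx⟩ : O), (⟨y, hy⟩ : O)⁆ : O).2 fun g hg =>
    congrArg Subtype.val (Subgroup.mem_center_iff.1 hc ⟨g, hg⟩).symm

/-- Commutators are bilinear on `O`. -/
theorem Core.comm_mul_left (hO : Core A O u) (hA : MaxAb A) {x y z : K} (hx : x ∈ O) (hy : y ∈ O)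
    (hz : z ∈ O) : ⁅x * y, z⁆ = ⁅x, z⁆ * ⁅y, z⁆ := by
  rw [show ⁅x * y, z⁆ = (x * ⁅y, z⁆ * x⁻¹) * ⁅x, z⁆ by simp only [commutatorElement_def]; group,
    hO.cent x hx _ (hO.comm_mem hA hy hz), mul_inv_cancel_right]
  exact hA.comm _ (hO.comm_mem hA hy hz) _ (hO.comm_mem hA hx hz)

theorem Core.comm_pow_left (hO : Core A O u) (hA : MaxAb A) {x z : K} (hx : x ∈ O) (hz : z ∈ O)
    (n : ℕ) : ⁅x ^ n, z⁆ = ⁅x, z⁆ ^ n := by
  induction n with
  | zero => simp
  | succ n ih => rw [pow_succ, hO.comm_mul_left hA (pow_mem hx n) hx hz, ih, pow_succ]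

theorem Core.comm_pow_right (hO : Core A O u) (hA : MaxAb A) {x z : K} (hx : x ∈ O) (hz : z ∈ O)
    (n : ℕ) : ⁅x, z ^ n⁆ = ⁅x, z⁆ ^ n := by
  rw [← commutatorElement_inv, hO.comm_pow_left hA hz hx, ← inv_pow, commutatorElement_inv]

theorem Core.comm_pow_one (hO : Core A O u) (hA : MaxAb A) {x y : K} (hx : x ∈ O) (hy : y ∈ O) :
    ⁅x, y⁆ ^ u = 1 := by
  haveI := hO.normal
  obtain ⟨m, hm⟩ : ∃ m, ∀ a ∈ O, ∀ b ∈ O, ⁅a, b⁆ ^ u ^ m = 1 := by
    haveI := Fact.mk hO.prime_u
    obtain ⟨m, hm⟩ := IsPGroup.iff_card.1 hO.pgroup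
    refine ⟨m, fun a ha b hb => ?_⟩
    have : (⟨⁅a, b⁆, mul_mem (mul_mem (mul_mem ha hb) (inv_mem ha)) (inv_mem hb)⟩ : O) ^
        Nat.card O = 1 := pow_card_eq_one'
    rw [hm] at this
    exact congrArg Subtype.val this
  suffices h : ∀ k, (∀ a ∈ O, ∀ b ∈ O, ⁅a, b⁆ ^ u ^ (k + 1) = 1) →
      ∀ a ∈ O, ∀ b ∈ O, ⁅a, b⁆ ^ u = 1 from
    h m (fun a ha b hb => by rw [pow_succ, pow_mul, hm a ha b hb, one_pow]) x hx y hy
  intro k
  induction k with
  | zero => intro h a ha b hb; simpa using h a ha b hb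
  | succ k ih =>
    intro h
    refine ih fun a ha b hb => ?_
    set S := Subgroup.closure {g : K | ∃ w ∈ O, g = w ^ u ^ (k + 1)} with hS
    haveI hSn : S.Normal := by
      refine ⟨fun v hv g => ?_⟩
      have hle : S ≤ S.comap (MulAut.conj g).toMonoidHom := (Subgroup.closure_le _).2 (by
        rintro _ ⟨w, hw, rfl⟩
        refine Subgroup.subset_closure ⟨g * w * g⁻¹, hO.normal.conj_mem w hw g, ?_⟩
        simp [conj_pow])
      simpa using hle hv
    have hgen : ∀ v ∈ {g : K | ∃ w ∈ O, g = w ^ u ^ (k + 1)},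
        ∀ w ∈ {g : K | ∃ w ∈ O, g = w ^ u ^ (k + 1)}, v * w = w * v := by
      rintro _ ⟨v, hv, rfl⟩ _ ⟨w, hw, rfl⟩
      rw [← commutatorElement_eq_one_iff_mul_comm, hO.comm_pow_left hA hv (pow_mem hw _),
        hO.comm_pow_right hA hv hw, ← pow_mul, ← pow_add,
        show k + 1 + (k + 1) = k + 1 + 1 + k by ring, pow_add, pow_mul, h v hv w hw, one_pow]
    have hle : S ≤ A := hA.le S
      (fun v hv w hw => congrArg Subtype.val
        ((Subgroup.closureCommGroupOfComm (k := {g : K | ∃ w ∈ O, g = w ^ u ^ (k + 1)})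
          hgen).mul_comm ⟨v, hv⟩ ⟨w, hw⟩))
      (fun v hv w hw => by
        have : S ≤ Subgroup.centralizer ({w} : Set K) := (Subgroup.closure_le _).2 (by
          rintro _ ⟨v, hv, rfl⟩
          exact Subgroup.mem_centralizer_singleton_iff.2 (hO.cent _ (pow_mem hv _) w hw))
        exact Subgroup.mem_centralizer_singleton_iff.1 (this hv))
    rw [← hO.comm_pow_left hA ha hb]
    exact commutatorElement_eq_one_iff_mul_comm.2
      (hO.cent b hb _ (hle (Subgroup.subset_closure ⟨a, ha, rfl⟩))).symm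

theorem Core.pow_mem (hO : Core A O u) (hA : MaxAb A) {x : K} (hx : x ∈ O) : x ^ u ∈ A :=
  hO.central hA (Subgroup.pow_mem _ hx u) fun y hy => commutatorElement_eq_one_iff_mul_comm.1 (by
    rw [hO.comm_pow_left hA hx hy, hO.comm_pow_one hA hx hy])

end CfsgLib.Palfy69
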